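import Groth.Agent.TorsTupleLib.CentreTori
import Groth.Agent.HomCorrLib.TorsionPts
import Groth.Agent.MultExtLib.Main
import Groth.Agent.TorsTupleLib.CartanDesc

/-!
# The subgroup of points of a given order of a torus inside a group

Torsion subgroups of tori are compared through their points in the ambient group.
-/

set_option autoImplicit false
set_option linter.style.haveILetI false
set_option linter.unusedSectionVars false
set_option backward.isDefEq.respectTransparency false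
set_option maxHeartbeats 2000000
set_option synthInstance.maxHeartbeats 400000

noncomputable section

universe u

open CategoryTheory CategoryTheory.Limits MonoidalCategory CartesianMonoidalCategory AlgebraicGeometry CoactBr
open scoped MonObj

attribute [-instance] CategoryTheory.Hom.commGroup

namespace Groth.Agent.ToriSch

open Groth.Agent.BorelLib
open Groth.Agent.TorsTuple (bcMul bcMul_comp bcMul_precomp Commutes commutes_bc)

variable {S : Scheme.{u}} {G T K : Over S} [GrpObj G]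

/-- `j` has exactly the points of `i` killed by `n`. -/
def IsTorsion (i : T ⟶ G) (j : K ⟶ G) (n : ℕ) : Prop :=
  ∀ (X : Over S) (g : X ⟶ G), (∃ k, k ≫ j = g) ↔ (∃ t, t ≫ i = g) ∧ g ^ n = 1

/-- Whatever commutes with `j` commutes with `i`. -/
def GoodPair (i : T ⟶ G) (j : K ⟶ G) : Prop :=
  ∀ (C : Over S) (c : C ⟶ G), Commutes c j → Commutes c i

theorem IsTorsion.bc {i : T ⟶ G} {j : K ⟶ G} {n : ℕ} (h : IsTorsion i j n) {P : Scheme.{u}} (f : P ⟶ S) :
    IsTorsion (G := Red.bc f G) ((Over.pullback f).map i) ((Over.pullback f).map j) n := by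
  intro X g
  obtain ⟨g₀, rfl⟩ := (bcMul f G X).surjective g
  have hK : ∀ {W : Over S} (m : W ⟶ G),
      (∃ k, k ≫ (Over.pullback f).map m = bcMul f G X g₀) ↔ ∃ k, k ≫ m = g₀ := by
    intro W m
    constructor
    · rintro ⟨k, hk⟩
      obtain ⟨k₀, rfl⟩ := ((Over.mapPullbackAdj f).homEquiv X W).surjective k
      rw [← Adjunction.homEquiv_naturality_right] at hk
      exact ⟨k₀, (bcMul f G X).injective hk⟩
    · rintro ⟨k₀, rfl⟩
      exact ⟨(Over.mapPullbackAdj f).homEquiv X W k₀,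
        (Adjunction.homEquiv_naturality_right (Over.mapPullbackAdj f) k₀ m).symm⟩
  rw [hK, hK, ← map_pow, MulEquiv.map_eq_one_iff]
  exact h _ g₀

theorem IsTorsion.transport {G' T' K' : Over S} [GrpObj G'] (e : G ≅ G') [IsMonHom e.hom] (β : T' ≅ T) (γK : K' ≅ K)
    {i : T ⟶ G} {j : K ⟶ G} {i' : T' ⟶ G'} {j' : K' ⟶ G'} {n : ℕ} (hi : β.hom ≫ i ≫ e.hom = i')
    (hj : γK.hom ≫ j ≫ e.hom = j') (h : IsTorsion i j n) : IsTorsion i' j' n := by
  haveI : IsMonHom e.inv := inferInstance
  subst hi; subst hj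
  intro X g
  have hK : ∀ {W W' : Over S} (α : W' ≅ W) (m : W ⟶ G),
      (∃ k, k ≫ α.hom ≫ m ≫ e.hom = g) ↔ ∃ k, k ≫ m = g ≫ e.inv := by
    intro W W' α m
    constructor
    · rintro ⟨k, rfl⟩
      exact ⟨k ≫ α.hom, by simp⟩
    · rintro ⟨k, hk⟩
      exact ⟨k ≫ α.inv, by rw [Category.assoc, Iso.inv_hom_id_assoc, ← Category.assoc, hk, Category.assoc,
        Iso.inv_hom_id, Category.comp_id]⟩
  rw [hK, hK]
  refine (h X (g ≫ e.inv)).trans (and_congr_right fun _ => ?_)
  rw [← MonObj.pow_comp]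
  constructor
  · intro h1
    rw [← cancel_mono e.inv, h1, MonObj.one_comp]
  · intro h1
    rw [h1, MonObj.one_comp]

/-- Torsion subgroups of the same subgroup coincide. -/
theorem IsTorsion.exists_iso {K' : Over S} {i : T ⟶ G} {j : K ⟶ G} [Mono j] {j' : K' ⟶ G} [Mono j'] {n : ℕ}
    (h : IsTorsion i j n) (h' : IsTorsion i j' n) : ∃ φ : K' ≅ K, φ.hom ≫ j = j' := by
  obtain ⟨a, ha⟩ := (h K' j').2 ((h' K' j').1 ⟨𝟙 _, Category.id_comp _⟩)
  obtain ⟨b, hb⟩ := (h' K j).2 ((h K j).1 ⟨𝟙 _, Category.id_comp _⟩)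
  refine ⟨⟨a, b, ?_, ?_⟩, ha⟩
  · rw [← cancel_mono j', Category.assoc, hb, ha, Category.id_comp]
  · rw [← cancel_mono j, Category.assoc, ha, hb, Category.id_comp]

/-- An object over `S` with a factorization through `f`. -/
def liftIso {P : Scheme.{u}} (f : P ⟶ S) {X : Over S} (q : X.left ⟶ P) (hq : q ≫ f = X.hom) :
    (Over.map f).obj (Over.mk q) ≅ X :=
  Over.isoMk (Iso.refl _) (by
    show 𝟙 _ ≫ X.hom = q ≫ f
    rw [Category.id_comp, hq])

theorem GoodPair.bc {i : T ⟶ G} {j : K ⟶ G} (h : GoodPair i j) {P : Scheme.{u}} (f : P ⟶ S) :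
    GoodPair (G := Red.bc f G) ((Over.pullback f).map i) ((Over.pullback f).map j) := by
  intro C c hc
  let C₀ : Over S := (Over.map f).obj C
  let c₀ : C₀ ⟶ G := (bcMul f G C).symm c
  have hc₀ : Commutes c₀ j := by
    intro X z k
    let ε := liftIso f (X := X) (z.left ≫ C.hom) (by
      rw [Category.assoc]; exact Over.w z)
    let z' : Over.mk (z.left ≫ C.hom) ⟶ C := Over.homMk z.left rfl
    have hz : (Over.map f).map z' = ε.hom ≫ z := Over.OverMorphism.ext (Category.id_comp _).symm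
    have h1 := hc _ z' ((Over.mapPullbackAdj f).homEquiv _ K (ε.hom ≫ k))
    rw [show c = bcMul f G C c₀ from ((bcMul f G C).apply_symm_apply c).symm, bcMul_precomp, hz,
      ← Adjunction.homEquiv_naturality_right] at h1
    have h2 := (bcMul f G _).injective
      ((map_mul _ _ _).trans (h1.eq.trans (map_mul (bcMul f G _) _ _).symm))
    simp only [Category.assoc] at h2
    rw [← MonObj.comp_mul, ← MonObj.comp_mul, cancel_epi] at h2
    exact h2
  intro X z t
  obtain ⟨t₀, rfl⟩ := ((Over.mapPullbackAdj f).homEquiv X T).surjective t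
  rw [show c = bcMul f G C c₀ from ((bcMul f G C).apply_symm_apply c).symm, bcMul_precomp,
    ← Adjunction.homEquiv_naturality_right]
  exact (h C₀ c₀ hc₀ _ ((Over.map f).map z) t₀).map (bcMul f G X)

theorem GoodPair.transport {G' T' K' : Over S} [GrpObj G'] (e : G ≅ G') [IsMonHom e.hom] (β : T' ⟶ T) (γK : K ⟶ K')
    {i : T ⟶ G} {j : K ⟶ G} {i' : T' ⟶ G'} {j' : K' ⟶ G'} (hi : β ≫ i ≫ e.hom = i')
    (hj : γK ≫ j' = j ≫ e.hom) (h : GoodPair i j) : GoodPair i' j' := by
  haveI : IsMonHom e.inv := inferInstance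
  intro C c hc
  have h1 := h C (c ≫ e.inv) (TorsTuple.commutes_transport e.inv (𝟙 C) γK (Category.id_comp _) (by
    rw [← Category.assoc, hj, Category.assoc, Iso.hom_inv_id, Category.comp_id]) hc)
  exact TorsTuple.commutes_transport e.hom (𝟙 C) β (by simp) hi h1

/-- Goodness is local for flat coverings. -/
theorem GoodPair.of_cover {i : T ⟶ G} {j : K ⟶ G} {P : Scheme.{u}} (f : P ⟶ S) [Flat f] [Surjective f]
    (h : GoodPair (G := Red.bc f G) ((Over.pullback f).map i) ((Over.pullback f).map j)) : GoodPair i j := by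
  intro C c hc X z t
  let F := Over.pullback f
  have hinj : ∀ {Y Z : Over S} (a b : Y ⟶ Z), F.map a = F.map b → a = b := fun {Y Z} a b h => by
    haveI : Flat (pullback.fst Y.hom f) := MorphismProperty.pullback_fst (P := @Flat) _ _ inferInstance
    haveI : Surjective (pullback.fst Y.hom f) := MorphismProperty.pullback_fst (P := @Surjective) _ _ inferInstance
    haveI := Flat.epi_of_flat_of_surjective (pullback.fst Y.hom f)
    refine Over.OverMorphism.ext ((cancel_epi (pullback.fst Y.hom f)).1 ?_)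
    rw [← ActBC.pullback_map_left_fst f a, ← ActBC.pullback_map_left_fst f b, h]
  have h1 := h _ _ (commutes_bc hc f) _ (F.map z) (F.map t)
  rw [← F.map_comp, ← F.map_comp] at h1
  exact hinj _ _ ((Functor.map_mul F _ _).trans (h1.eq.trans (Functor.map_mul F _ _).symm))

/-- Being of multiplicative type is invariant under isomorphisms. -/
theorem isMultTypeFT_congr {H H' : Over S} [GrpObj H] [GrpObj H'] (h : SGA3x.IsMultTypeFT H) (e : H ≅ H')
    [IsMonHom e.hom] : SGA3x.IsMultTypeFT H' := by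
  obtain ⟨S', f, h1, h2, h3, hloc⟩ := h
  refine ⟨S', f, h1, h2, h3, fun z => ?_⟩
  obtain ⟨U, hzU, M, _, hM, ⟨w⟩⟩ := hloc z
  haveI : IsMonHom (M := Red.bc (U.ι ≫ f) H) (N := Red.bc (U.ι ≫ f) H') ((Over.pullback (U.ι ≫ f)).mapIso e).hom :=
    DiagRep.isMonHom_bc_map (U.ι ≫ f) e.hom
  exact ⟨U, hzU, M, inferInstance, hM, ⟨(Grp.mkIso' ((Over.pullback (U.ι ≫ f)).mapIso e)).symm ≪≫ w⟩⟩

section affineBase

variable {R : Type u} [CommRing R]

attribute [local instance] CoactBr.braidedAlgSpecOf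

/-- The torsion subgroup over an affine base, with its finiteness. -/
theorem exists_torsion_affine {H : Over (Spec (CommRingCat.of R))} [GrpObj H] (hH : Red.IsTorus H) {n : ℕ}
    (hn : 0 < n) :
    ∃ (L : Over (Spec (CommRingCat.of R))) (_ : GrpObj L) (t : L ⟶ H), IsMonHom t ∧ IsClosedImmersion t.left ∧
      SGA3x.IsMultTypeFT L ∧ IsFinite L.hom ∧
        ∀ (X : Over (Spec (CommRingCat.of R))) (h : X ⟶ H), (∃ y, y ≫ t = h) ↔ h ^ n = 1 := by
  haveI := MultEq.isAffineHom_of_isMultTypeFT (RedRank.isMultTypeFT_of_isTorus hH)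
  haveI := MultEq.lfp_of_isMultTypeFT (RedRank.isMultTypeFT_of_isTorus hH)
  haveI : IsAffine H.left := isAffine_of_isAffineHom H.hom
  obtain ⟨A, _, _, v, hv, hv'⟩ := HomCorr.exists_hopf H
  haveI := hv; haveI := hv'
  haveI : IsIso v.hom.left := (Over.forget _).map_isIso v.hom
  haveI : Algebra.FiniteType R A := by
    have h : LocallyOfFiniteType (sp R A).hom := by rw [← Over.w v.hom]; infer_instance
    change LocallyOfFiniteType (Spec.map (CommRingCat.ofHom (algebraMap R A))) at h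
    rwa [HasRingHomProperty.Spec_iff (P := @LocallyOfFiniteType), CommRingCat.hom_ofHom,
      RingHom.finiteType_algebraMap] at h
  have hA : SGA3b.IsMultType R A := HomCorr.isMultType_of_locally v.hom (RedRank.locally_of_isTorus hH)
  obtain ⟨L, _, t, ht, htc, hft, hpts⟩ := HomCorr.exists_torsion_subgroup v.hom hA n
  haveI := FinMult.isCocomm_of_isMultType hA
  haveI hJ : (SGA3b.torsionIdeal R A n).IsHopfIdeal R := FinMult.isHopfIdeal_torsionIdeal n
  let J := SGA3b.torsionIdeal R A n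
  obtain ⟨-, hfin⟩ := DiagHopf.isMultType_torsion hA hn J rfl
  haveI := hfin
  haveI : IsFinite (sp R (A ⧸ J)).hom := by
    show IsFinite (Spec.map (CommRingCat.ofHom (algebraMap R (A ⧸ J))))
    rw [IsFinite.SpecMap_iff, CommRingCat.hom_ofHom, RingHom.finite_algebraMap]
    exact hfin
  refine ⟨L, inferInstance, t, ht, htc, hft, ?_, hpts⟩
  let t' := pt (Ideal.Quotient.mkₐ R J) ≫ v.hom
  obtain ⟨y, hy⟩ := (hpts L t).1 ⟨𝟙 L, Category.id_comp t⟩ |> fun h => (show ∃ y : L ⟶ sp R (A ⧸ J), y ≫ t' = t from by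
    obtain ⟨C, _, _, τ, hτ⟩ := HomCorr.exists_gamma L
    obtain ⟨g, hg⟩ := (hτ A).1 (t ≫ v.inv)
    have ht1 : t = τ ≫ pt g ≫ v.hom := by
      rw [← Category.assoc, ← hg, Category.assoc, Iso.inv_hom_id, Category.comp_id]
    have hle : J ≤ RingHom.ker g.toRingHom := by
      have h2 : t ^ n = τ ≫ pt (g.comp (SGA3b.powConv R A n)) ≫ v.hom := by
        rw [← HomCorr.pt_pow, ht1]
        exact HomCorr.tau_comp_pow τ v.hom (pt g) n
      rw [h2, show (1 : L ⟶ H) = τ ≫ pt ((Algebra.ofId R C).comp (Bialgebra.counitAlgHom R A)) ≫ v.hom by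
        rw [DiagRep.pt_one, MonObj.one_comp, MonObj.comp_one], ← Category.assoc, ← Category.assoc, cancel_mono] at h
      have e' := (hτ A).2 _ _ h
      refine Ideal.map_le_iff_le_comap.2 fun a ha => ?_
      show g (SGA3b.powConv R A n a) = 0
      rw [show g (SGA3b.powConv R A n a) = _ from DFunLike.congr_fun e' a]
      show algebraMap R C (Bialgebra.counitAlgHom R A a) = 0
      rw [show Bialgebra.counitAlgHom R A a = 0 from ha, map_zero]
    refine ⟨τ ≫ pt (Ideal.Quotient.liftₐ J g hle), ?_⟩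
    rw [ht1]
    simp only [t', Category.assoc]
    rw [← Category.assoc (pt _) (pt _) v.hom, ← pt_comp]
    rfl)
  haveI : IsClosedImmersion y.left := by
    haveI : IsClosedImmersion (y.left ≫ t'.left) := by rw [← Over.comp_left, hy]; exact htc
    haveI : IsClosedImmersion t'.left := by
      haveI : IsClosedImmersion (pt (Ideal.Quotient.mkₐ R J)).left := by
        rw [pt_left]
        exact IsClosedImmersion.spec_of_surjective _ Ideal.Quotient.mk_surjective
      simp only [t', Over.comp_left]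
      infer_instance
    exact IsClosedImmersion.of_comp y.left t'.left
  rw [← Over.w y]
  infer_instance

end affineBase

/-- **The torsion subgroup of a torus in a group.** -/
theorem exists_isTorsion [GrpObj T] (hT : Red.IsTorus T) (i : T ⟶ G) [IsMonHom i] [Mono i] {n : ℕ} (hn : 0 < n) :
    ∃ (K : Over S) (_ : GrpObj K) (j : K ⟶ G), IsMonHom j ∧ Mono j ∧ SGA3x.IsMultTypeFT K ∧ IsFinite K.hom ∧
      IsTorsion i j n := by
  have hTm := RedRank.isMultTypeFT_of_isTorus hT
  haveI := MultEq.isAffineHom_of_isMultTypeFT hTm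
  let p : T ⟶ T := (𝟙 T) ^ n
  have hp : ∀ {X : Over S} (x : X ⟶ T), x ≫ p = x ^ n := fun x => by
    rw [MonObj.comp_pow, Category.comp_id]
  let K : Over S := pullback p (η[T] : 𝟙_ (Over S) ⟶ T)
  let w : K ⟶ T := pullback.fst _ _
  haveI : IsClosedImmersion (η[T] : 𝟙_ (Over S) ⟶ T).left := by
    haveI : IsClosedImmersion ((η[T] : 𝟙_ (Over S) ⟶ T).left ≫ T.hom) := by
      rw [Over.w]; exact inferInstanceAs (IsClosedImmersion (𝟙 S))
    exact IsClosedImmersion.of_comp _ T.hom
  haveI : IsClosedImmersion w.left := MorphismProperty.of_isPullback (P := @IsClosedImmersion)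
    ((IsPullback.of_hasPullback p η[T]).map (Over.forget _)).flip ‹_›
  haveI : Mono w := Over.mono_of_mono_left w
  have hw : ∀ {X : Over S} (x : X ⟶ T), (∃ k, k ≫ w = x) ↔ x ^ n = 1 := by
    intro X x
    constructor
    · rintro ⟨k, rfl⟩
      rw [← hp, Category.assoc, (IsPullback.of_hasPullback p η[T]).w, ← Category.assoc,
        toUnit_unique (k ≫ pullback.snd p η[T]) (toUnit _), ← Hom.one_def]
    · intro hx
      exact ⟨pullback.lift x (toUnit _) (by rw [hp, hx, Hom.one_def]), pullback.lift_fst _ _ _⟩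
  have hcomm : ∀ {X : Over S} (a b : X ⟶ T), Commute a b := fun a b => TorsTuple.commute_torus hT a b
  obtain ⟨iK, hwm⟩ := SubDesc.exists_grpObj_of_mono w
    ((hw _).2 (by rw [(hcomm _ _).mul_pow, (hw _).1 ⟨_, rfl⟩, (hw _).1 ⟨_, rfl⟩, one_mul]))
    ((hw 1).2 (one_pow n)) ((hw _).2 (by rw [inv_pow, (hw w).1 ⟨𝟙 _, Category.id_comp _⟩, inv_one]))
  letI := iK
  haveI := hwm
  have hloc : ∀ U : S.affineOpens, SGA3x.IsMultTypeFT (Red.bc (U : S.Opens).ι K) ∧
      IsFinite (Red.bc (U : S.Opens).ι K).hom := by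
    intro U
    haveI : IsAffine (U : S.Opens) := U.2
    let e := ((U : S.Opens) : Scheme.{u}).isoSpec
    let u : Spec (CommRingCat.of Γ((U : S.Opens), ⊤)) ⟶ S := e.inv ≫ (U : S.Opens).ι
    have hu : e.hom ≫ u = (U : S.Opens).ι := e.hom_inv_id_assoc _
    obtain ⟨L, _, t, ht, htc, hLm, hLf, hpts⟩ := exists_torsion_affine (RedRank.isTorus_bc hT u) hn
    haveI := ht; haveI := htc; haveI := hLf
    haveI : Mono t := Over.mono_of_mono_left t
    let F := Over.pullback u
    haveI : Mono (F.map w) := mono_bc u w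
    haveI : IsMonHom (M := Red.bc u K) (N := Red.bc u T) (F.map w) := DiagRep.isMonHom_bc_map u w
    have hwu : ∀ (X : Over (Spec (CommRingCat.of Γ((U : S.Opens), ⊤)))) (x : X ⟶ Red.bc u T),
        (∃ k, k ≫ F.map w = x) ↔ x ^ n = 1 := by
      intro X x
      obtain ⟨x₀, rfl⟩ := (bcMul u T X).surjective x
      rw [← map_pow, MulEquiv.map_eq_one_iff, ← hw]
      constructor
      · rintro ⟨k, hk⟩
        obtain ⟨k₀, rfl⟩ := ((Over.mapPullbackAdj u).homEquiv X K).surjective k
        rw [← Adjunction.homEquiv_naturality_right] at hk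
        exact ⟨k₀, (bcMul u T X).injective hk⟩
      · rintro ⟨k₀, rfl⟩
        exact ⟨_, (Adjunction.homEquiv_naturality_right (Over.mapPullbackAdj u) k₀ w).symm⟩
    obtain ⟨a, ha⟩ := (hpts _ (F.map w)).2 ((hwu _ _).1 ⟨𝟙 _, Category.id_comp _⟩)
    obtain ⟨b, hb⟩ := (hwu L t).2 ((hpts L t).1 ⟨𝟙 _, Category.id_comp _⟩)
    let φ : Red.bc u K ≅ L := ⟨a, b,
      by rw [← cancel_mono (F.map w), Category.assoc, hb, ha, Category.id_comp],
      by rw [← cancel_mono t, Category.assoc, ha, hb, Category.id_comp]⟩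
    haveI : IsMonHom (a ≫ t) := by rw [ha]; infer_instance
    haveI : IsMonHom φ.hom := DiagRep.isMonHom_of_comp_mono a t
    haveI : IsMonHom φ.inv := by
      haveI : IsMonHom (M := L) (N := Red.bc u T) (b ≫ F.map w) := by rw [hb]; exact ht
      exact DiagRep.isMonHom_of_comp_mono b (F.map w)
    let θ : Red.bc e.hom (Red.bc u K) ≅ Red.bc (U : S.Opens).ι K := ActBC.bcCompIso e.hom u K hu
    haveI : IsMonHom θ.hom := ActBC.bcCompIso_isMonHom _ _ _
    haveI : IsMonHom (M := Red.bc e.hom L) (N := Red.bc e.hom (Red.bc u K)) ((Over.pullback e.hom).map φ.inv) :=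
      DiagRep.isMonHom_bc_map e.hom φ.inv
    let ω : Red.bc e.hom L ≅ Red.bc (U : S.Opens).ι K := (Over.pullback e.hom).mapIso φ.symm ≪≫ θ
    haveI : IsMonHom ω.hom := by
      show IsMonHom ((Over.pullback e.hom).map φ.inv ≫ θ.hom)
      infer_instance
    refine ⟨isMultTypeFT_congr (DescHom.isMultTypeFT_bc hLm e.hom) ω, ?_⟩
    haveI : IsIso ω.inv.left := (Over.forget _).map_isIso ω.inv
    haveI : IsFinite (Red.bc e.hom L).hom := MorphismProperty.pullback_snd (P := @IsFinite) _ _ inferInstance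
    rw [← Over.w ω.inv]
    infer_instance
  have hKm : SGA3x.IsMultTypeFT K := MultExt.isMultTypeFT_of_affineOpens K fun U => (hloc U).1
  have hKf : IsFinite K.hom := by
    rw [IsZariskiLocalAtTarget.iff_of_iSup_eq_top (P := @IsFinite) _ (iSup_affineOpens_eq_top S)]
    intro U
    haveI := (hloc U).2
    rw [← MorphismProperty.cancel_left_of_respectsIso @IsFinite (pullbackRestrictIsoRestrict K.hom (U : S.Opens)).hom,
      pullbackRestrictIsoRestrict_hom_morphismRestrict]
    exact (hloc U).2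
  refine ⟨K, iK, w ≫ i, inferInstance, inferInstance, hKm, hKf, fun X g => ?_⟩
  constructor
  · rintro ⟨k, rfl⟩
    refine ⟨⟨k ≫ w, Category.assoc _ _ _⟩, ?_⟩
    rw [← Category.assoc, ← MonObj.pow_comp, (hw _).1 ⟨k, rfl⟩, MonObj.one_comp]
  · rintro ⟨⟨t, rfl⟩, h⟩
    obtain ⟨k, hk⟩ := (hw t).2 (by
      rw [← cancel_mono i, MonObj.pow_comp, h, MonObj.one_comp])
    exact ⟨k, by rw [reassoc_of% hk]⟩

/-- **Maximal tori with the same torsion, centralized alike, coincide.** -/
theorem exists_iso_of_torsion [LocallyOfFinitePresentation G.hom] [QuasiCompact G.hom] [QuasiSeparated G.hom]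
    {T' : Over S} [GrpObj T] [GrpObj T'] {i : T ⟶ G} {i' : T' ⟶ G} (hi : Red.IsMaximalTorus i)
    (hi' : Red.IsMaximalTorus i') {j : K ⟶ G} {n : ℕ} (h : IsTorsion i j n) (h' : IsTorsion i' j n)
    (hg : GoodPair i j) (hg' : GoodPair i' j) : ∃ φ : T' ≅ T, φ.hom ≫ i = i' := by
  haveI := hi.1; haveI := hi.2.1; haveI := hi'.1; haveI := hi'.2.1
  have hj : ∀ {T₀ : Over S} [GrpObj T₀] (i₀ : T₀ ⟶ G) [IsMonHom i₀], Red.IsTorus T₀ → IsTorsion i₀ j n →
      Commutes i₀ j := by
    intro T₀ _ i₀ _ ht h₀ X t k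
    obtain ⟨⟨t₁, ht₁⟩, -⟩ := (h₀ X (k ≫ j)).1 ⟨k, rfl⟩
    rw [← ht₁]
    show (t ≫ i₀) * (t₁ ≫ i₀) = (t₁ ≫ i₀) * (t ≫ i₀)
    rw [← MonObj.mul_comp, ← MonObj.mul_comp, (TorsTuple.commute_torus ht t t₁).eq]
  have h1 : Commutes i' i := hg T' i' (hj i' hi'.2.2.1 h')
  have h2 : Commutes i i' := hg' T i (hj i hi.2.2.1 h)
  obtain ⟨a, ha⟩ := S4120.result S G T T' i i' hi hi'.2.2.1 fun X t t' => (h2 X t t').eq
  obtain ⟨b, hb⟩ := S4120.result S G T' T i' i hi' hi.2.2.1 fun X t t' => (h1 X t t').eq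
  refine ⟨⟨a, b, ?_, ?_⟩, ha⟩
  · rw [← cancel_mono i', Category.assoc, hb, ha, Category.id_comp]
  · rw [← cancel_mono i, Category.assoc, ha, hb, Category.id_comp]

end Groth.Agent.ToriSch
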