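import Groth.Agent.ToriSchLib.Special
import Groth.Agent.MultSubLib.Family
import Groth.Agent.TransporterLib.SubTop
import Groth.Agent.MaxTorConjLib.Main
import Groth.Agent.MaxTorConjLib.Preimage

/-!
# Subgroups of base changes compared over a common base
-/

set_option autoImplicit false
set_option linter.style.haveILetI false
set_option linter.unusedSectionVars false
set_option backward.isDefEq.respectTransparency false
set_option maxHeartbeats 2000000
set_option synthInstance.maxHeartbeats 400000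

noncomputable section

universe u

open CategoryTheory CategoryTheory.Limits MonoidalCategory CartesianMonoidalCategory AlgebraicGeometry CoactBr
open scoped MonObj

attribute [-instance] CategoryTheory.Hom.commGroup

namespace Groth.Agent.ToriSch

open Groth.Agent.BorelLib
open Groth.Agent.TorsTuple (Commutes commutes_bc)

variable {S : Scheme.{u}} {G : Over S} [GrpObj G]

/-- A subgroup of `G_Y`, moved to a base change of `G`. -/
def bcTo {Y P : Scheme.{u}} {y : Y ⟶ S} (p : P ⟶ Y) {d : P ⟶ S} (h : p ≫ y = d) {T : Over Y}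
    (i : T ⟶ Red.bc y G) : Red.bc p T ⟶ Red.bc d G :=
  (Over.pullback p).map i ≫ (ActBC.bcCompIso p y G h).hom

section bcTo

variable {Y P : Scheme.{u}} {y : Y ⟶ S} (p : P ⟶ Y) {d : P ⟶ S} (h : p ≫ y = d) {T K : Over Y}

theorem bcTo_left_fst (i : T ⟶ Red.bc y G) :
    (bcTo p h i).left ≫ pullback.fst G.hom d = pullback.fst T.hom p ≫ i.left ≫ pullback.fst G.hom y := by
  rw [bcTo, Over.comp_left, Category.assoc, ActBC.bcCompIso_hom_left_fst, ActBC.pullback_map_left_fst_assoc]

theorem bc_ext {Q : Scheme.{u}} {q : Q ⟶ S} {Z : Over Q} {f f' : Z ⟶ Red.bc q G}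
    (h : f.left ≫ pullback.fst G.hom q = f'.left ≫ pullback.fst G.hom q) : f = f' :=
  Over.OverMorphism.ext (pullback.hom_ext h ((Over.w f).trans (Over.w f').symm))

/-- Moving twice. -/
theorem bcTo_bcTo {P' : Scheme.{u}} (p' : P' ⟶ P) {d' : P' ⟶ S} (h' : p' ≫ d = d') (i : T ⟶ Red.bc y G) :
    bcTo p' h' (bcTo p h i) = (ActBC.bcCompIso p' p T rfl).hom ≫
      bcTo (p' ≫ p) (by rw [Category.assoc, h, h']) i := by
  refine bc_ext ?_
  rw [bcTo_left_fst, bcTo_left_fst, Over.comp_left, Category.assoc, bcTo_left_fst,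
    ActBC.bcCompIso_hom_left_fst_assoc]

theorem bcTo_comp {T' : Over Y} (u : T' ⟶ T) (i : T ⟶ Red.bc y G) :
    bcTo p h (u ≫ i) = (Over.pullback p).map u ≫ bcTo p h i := by
  rw [bcTo, bcTo, Functor.map_comp, Category.assoc]

theorem mono_bcTo (i : T ⟶ Red.bc y G) [Mono i] : Mono (bcTo p h i) := by
  haveI := mono_bc p i
  exact inferInstanceAs (Mono ((Over.pullback p).map i ≫ (ActBC.bcCompIso p y G h).hom))

variable [GrpObj T] [GrpObj K]

theorem isMonHom_bcTo (i : T ⟶ Red.bc y G) [IsMonHom i] : IsMonHom (bcTo p h i) := by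
  haveI : IsMonHom (ActBC.bcCompIso p y G h).hom := ActBC.bcCompIso_isMonHom _ _ _
  haveI : IsMonHom (M := Red.bc p T) (N := Red.bc p (Red.bc y G)) ((Over.pullback p).map i) :=
    DiagRep.isMonHom_bc_map p i
  exact inferInstanceAs (IsMonHom ((Over.pullback p).map i ≫ (ActBC.bcCompIso p y G h).hom))

theorem isMaximalTorus_bcTo [Smooth G.hom] [IsAffineHom G.hom] {i : T ⟶ Red.bc y G} (hi : Red.IsMaximalTorus i) :
    Red.IsMaximalTorus (bcTo p h i) := by
  haveI : Smooth (Red.bc y G).hom := MorphismProperty.pullback_snd (P := @Smooth) _ _ inferInstance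
  haveI := RedRank.isAffineHom_bc G y
  haveI : QuasiCompact (Red.bc y G).hom := inferInstance
  haveI : IsMonHom (ActBC.bcCompIso p y G h).hom := ActBC.bcCompIso_isMonHom _ _ _
  exact MaxTorConj.isMaximalTorus_iso (ActBC.bcCompIso p y G h) (MaxTorConj.isMaximalTorus_bc hi p)

theorem IsTorsion.bcTo {i : T ⟶ Red.bc y G} {j : K ⟶ Red.bc y G} {n : ℕ} (ht : IsTorsion i j n) :
    IsTorsion (Groth.Agent.ToriSch.bcTo p h i) (Groth.Agent.ToriSch.bcTo p h j) n := by
  haveI : IsMonHom (ActBC.bcCompIso p y G h).hom := ActBC.bcCompIso_isMonHom _ _ _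
  exact (ht.bc p).transport (ActBC.bcCompIso p y G h) (Iso.refl _) (Iso.refl _) (by simp [Groth.Agent.ToriSch.bcTo])
    (by simp [Groth.Agent.ToriSch.bcTo])

theorem GoodPair.bcTo {i : T ⟶ Red.bc y G} {j : K ⟶ Red.bc y G} (hg : GoodPair i j) :
    GoodPair (Groth.Agent.ToriSch.bcTo p h i) (Groth.Agent.ToriSch.bcTo p h j) := by
  haveI : IsMonHom (ActBC.bcCompIso p y G h).hom := ActBC.bcCompIso_isMonHom _ _ _
  exact (hg.bc p).transport (ActBC.bcCompIso p y G h) (𝟙 _) (𝟙 _) (by simp [Groth.Agent.ToriSch.bcTo])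
    (by simp [Groth.Agent.ToriSch.bcTo])

end bcTo

/-- Goodness is local for jointly surjective flat families. -/
theorem GoodPair.of_family {T K : Over S} {i : T ⟶ G} {j : K ⟶ G} {σ : Type u} {P : σ → Scheme.{u}}
    (f : ∀ l, P l ⟶ S) (hf : ∀ l, Flat (f l)) (hs : ∀ s : S, ∃ l, s ∈ Set.range (f l))
    (h : ∀ l, GoodPair (G := Red.bc (f l) G) ((Over.pullback (f l)).map i) ((Over.pullback (f l)).map j)) :
    GoodPair i j := by
  intro C c hc X z t
  have hinj : ∀ {Y Z : Over S} (a b : Y ⟶ Z),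
      (∀ l, (Over.pullback (f l)).map a = (Over.pullback (f l)).map b) → a = b := fun {Y Z} a b h => by
    let q : (∐ fun l => pullback Y.hom (f l)) ⟶ Y.left := Sigma.desc fun l => pullback.fst Y.hom (f l)
    haveI : Flat q := IsZariskiLocalAtSource.sigmaDesc fun l => by
      haveI := hf l
      exact MorphismProperty.pullback_fst (P := @Flat) _ _ inferInstance
    haveI : Surjective q := ⟨fun x => by
      obtain ⟨l, w, hw⟩ := hs (Y.hom x)
      obtain ⟨v, hv, -⟩ := Scheme.Pullback.exists_preimage_pullback x w hw.symm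
      exact ⟨Sigma.ι (fun l => pullback Y.hom (f l)) l v, by
        rw [← Scheme.Hom.comp_apply, Sigma.ι_desc]; exact hv⟩⟩
    haveI := Flat.epi_of_flat_of_surjective q
    refine Over.OverMorphism.ext ((cancel_epi q).1 (Sigma.hom_ext _ _ fun l => ?_))
    rw [Sigma.ι_desc_assoc, Sigma.ι_desc_assoc, ← ActBC.pullback_map_left_fst (f l) a,
      ← ActBC.pullback_map_left_fst (f l) b, h l]
  refine hinj _ _ fun l => ?_
  have h1 := h l _ _ (commutes_bc hc (f l)) _ ((Over.pullback (f l)).map z) ((Over.pullback (f l)).map t)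
  rw [← (Over.pullback (f l)).map_comp, ← (Over.pullback (f l)).map_comp] at h1
  exact (Functor.map_mul (Over.pullback (f l)) _ _).trans
    (h1.eq.trans (Functor.map_mul (Over.pullback (f l)) _ _).symm)

section conjugation

variable {T₀ K₀ T K : Over S} {i₀ : T₀ ⟶ G} {j₀ : K₀ ⟶ G} {i : T ⟶ G} {j : K ⟶ G} {g : 𝟙_ (Over S) ⟶ G} {n : ℕ}

/-- The conjugation as an automorphism. -/
def conjIso (g : 𝟙_ (Over S) ⟶ G) : G ≅ G :=
  haveI := DiagRep.isIso_conjBy g
  asIso (AGF.conjBy g (𝟙 G))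

theorem isMonHom_conjIso (g : 𝟙_ (Over S) ⟶ G) : IsMonHom (conjIso g).hom := DiagRep.isMonHom_conjBy g

theorem IsTorsion.conj (h : IsTorsion i₀ j₀ n) (g : 𝟙_ (Over S) ⟶ G) :
    IsTorsion (AGF.conjBy g i₀) (AGF.conjBy g j₀) n := by
  haveI := isMonHom_conjIso g
  refine h.transport (conjIso g) (Iso.refl _) (Iso.refl _) ?_ ?_ <;>
  · rw [Iso.refl_hom, Category.id_comp]
    exact (DiagRep.conjBy_eq_comp g _).symm

theorem GoodPair.conj (h : GoodPair i₀ j₀) (g : 𝟙_ (Over S) ⟶ G) :
    GoodPair (AGF.conjBy g i₀) (AGF.conjBy g j₀) := by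
  haveI := isMonHom_conjIso g
  refine h.transport (conjIso g) (𝟙 _) (𝟙 _) ?_ ?_
  · rw [Category.id_comp]
    exact (DiagRep.conjBy_eq_comp g _).symm
  · rw [Category.id_comp]
    exact DiagRep.conjBy_eq_comp g _

/-- Conjugate torsion subgroups. -/
theorem conjBy_of_isTorsion [Mono j₀] [Mono j] (h₀ : IsTorsion i₀ j₀ n) (h : IsTorsion (AGF.conjBy g i₀) j n) :
    SGA3x.ConjBy j₀ j g := by
  haveI := DiagRep.isIso_conjBy g
  haveI : Mono (AGF.conjBy g j₀) := by
    rw [DiagRep.conjBy_eq_comp]; infer_instance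
  obtain ⟨φ, hφ⟩ := h.exists_iso (h₀.conj g)
  exact ⟨φ, hφ.symm⟩

theorem isTorsion_of_conjBy (h₀ : IsTorsion i₀ j₀ n) (h : SGA3x.ConjBy j₀ j g) :
    IsTorsion (AGF.conjBy g i₀) j n := by
  obtain ⟨φ, hφ⟩ := h
  haveI : IsMonHom (Iso.refl G).hom := inferInstanceAs (IsMonHom (𝟙 G))
  refine (h₀.conj g).transport (Iso.refl G) (Iso.refl _) φ.symm (by simp) ?_
  show φ.inv ≫ AGF.conjBy g j₀ ≫ 𝟙 G = j
  rw [Category.comp_id, show AGF.conjBy g j₀ = φ.hom ≫ j from hφ, Iso.inv_hom_id_assoc]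

end conjugation

/-- A point over an algebraically closed field lifts along a morphism of finite type hit by it. -/
theorem exists_lift_algClosed {W Y : Scheme.{u}} (f : W ⟶ Y) [LocallyOfFiniteType f] {K : Type u} [Field K]
    [IsAlgClosed K] (q : Spec (CommRingCat.of K) ⟶ Y) (h : q (IsLocalRing.closedPoint K) ∈ Set.range f) :
    ∃ w : Spec (CommRingCat.of K) ⟶ W, w ≫ f = q := by
  obtain ⟨w₀, hw₀⟩ := h
  obtain ⟨z, -, -⟩ := Scheme.Pullback.exists_preimage_pullback (f := f) (g := q) w₀ (IsLocalRing.closedPoint K) hw₀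
  let F := pullback f q
  let π : F ⟶ Spec (CommRingCat.of K) := pullback.snd f q
  haveI : LocallyOfFiniteType π := MorphismProperty.pullback_snd (P := @LocallyOfFiniteType) _ _ inferInstance
  haveI : JacobsonSpace F := LocallyOfFiniteType.jacobsonSpace π
  haveI : Nonempty F := ⟨z⟩
  obtain ⟨x, hx⟩ : (closedPoints F).Nonempty := by
    by_contra hne
    rw [Set.not_nonempty_iff_eq_empty] at hne
    have := closure_closedPoints (X := F)
    rw [hne, closure_empty] at this
    exact Set.univ_nonempty.ne_empty this.symm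
  let σ := (pointEquivClosedPoint π).symm ⟨x, hx⟩
  exact ⟨σ.1 ≫ pullback.fst f q, by rw [Category.assoc, pullback.condition, reassoc_of% σ.2]⟩

section fhom

variable {R : Type u} [CommRing R] {A : Type u} [CommRing A] [HopfAlgebra R A] {N : Type} [AddCommGroup N]
  {B B' : Type u} [CommRing B] [Algebra R B] [CommRing B'] [Algebra R B']

attribute [local instance] CoactBr.braidedAlgSpecOf

/-- Change of parameters of the homomorphism of an algebra map. -/
theorem bcTo_fhom (ρ : B →ₐ[R] B') (φ : A →ₐ[R] HomRep.GA B N) :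
    bcTo (pt ρ).left (Over.w (pt ρ)) (fhom φ) =
      (ActBC.bcCompIso (pt ρ).left (sp R B).hom (sp R (HomRep.GA R N)) (Over.w (pt ρ))).hom ≫
        fhom ((HomRep.cmap ρ).comp φ) := by
  refine bc_ext ?_
  rw [bcTo_left_fst, Over.comp_left, Category.assoc, fhom, fhom]
  erw [MultSubLib.homOf_left_fst, MultSubLib.homOf_left_fst]
  rw [← HomRep.whiskerLeft_fam, Over.comp_left, ← Category.assoc]
  congr 1
  symm
  refine pullback.hom_ext ?_ ?_
  · rw [Category.assoc]
    have e : (sp R (HomRep.GA R N) ◁ pt ρ).left ≫ pullback.fst (sp R (HomRep.GA R N)).hom (sp R B).hom =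
        pullback.fst (sp R (HomRep.GA R N)).hom (sp R B').hom :=
      congrArg CommaMorphism.left (whiskerLeft_fst (sp R (HomRep.GA R N)) (pt ρ))
    rw [e, ActBC.bcCompIso_hom_left_fst]
  · rw [Category.assoc]
    have e : (sp R (HomRep.GA R N) ◁ pt ρ).left ≫ pullback.snd (sp R (HomRep.GA R N)).hom (sp R B).hom =
        pullback.snd (sp R (HomRep.GA R N)).hom (sp R B').hom ≫ (pt ρ).left :=
      congrArg CommaMorphism.left (whiskerLeft_snd (sp R (HomRep.GA R N)) (pt ρ))
    rw [e, ActBC.bcCompIso_hom_left_snd_assoc]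
    exact pullback.condition.symm

end fhom

end Groth.Agent.ToriSch
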