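import Groth.Agent.ToriSchLib.Glue
import Groth.Agent.TorsTupleLib.RedRankZero
import Groth.Agent.S7791

/-!
# The geometric fibres of the scheme of maximal tori of a reductive group
-/

set_option autoImplicit false
set_option linter.style.haveILetI false
set_option linter.unusedSectionVars false
set_option backward.isDefEq.respectTransparency false
set_option maxHeartbeats 2000000
set_option synthInstance.maxHeartbeats 400000

noncomputable section

universe u

open CategoryTheory CategoryTheory.Limits MonoidalCategory CartesianMonoidalCategory AlgebraicGeometry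
open scoped MonObj

attribute [-instance] CategoryTheory.Hom.commGroup

namespace Groth.Agent.ToriSch

open Groth.Agent.BorelLib

variable {S : Scheme.{u}} {G : Over S} [GrpObj G]

/-- Having the same points is being the same subgroup. -/
theorem samePoints_iff {M : Over S} {H : Over M.left} (h : H ⟶ Red.bc M.hom G) [Mono h] {X : Scheme.{u}} {f : X ⟶ S}
    {H' : Over X} (h' : H' ⟶ Red.bc f G) [Mono h'] (g : X ⟶ M.left) (hg : g ≫ M.hom = f) :
    RedSub.SamePoints G f h' M h g ↔ Same h' (bcTo g hg h) := by
  haveI : Mono (bcTo g hg h) := mono_bcTo g hg h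
  constructor
  · intro hp
    obtain ⟨p, hp1, hp2⟩ := (hp H'.left H'.hom (h'.left ≫ pullback.fst G.hom f)).1 ⟨𝟙 _, Category.id_comp _, by simp⟩
    obtain ⟨q, hq1, hq2⟩ := (hp (Red.bc g H).left (Red.bc g H).hom ((bcTo g hg h).left ≫ pullback.fst G.hom f)).2
      ⟨pullback.fst H.hom g, pullback.condition, by rw [bcTo_left_fst]⟩
    let a : H' ⟶ Red.bc g H := Over.homMk (pullback.lift p H'.hom hp1) (pullback.lift_snd _ _ _)
    let b : Red.bc g H ⟶ H' := Over.homMk q hq1
    have ha : a ≫ bcTo g hg h = h' := bc_ext (by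
      rw [Over.comp_left, Category.assoc, bcTo_left_fst]
      exact (pullback.lift_fst_assoc _ _ _ _).trans hp2)
    have hb : b ≫ h' = bcTo g hg h := bc_ext (by rw [Over.comp_left, Category.assoc]; exact hq2)
    exact ⟨⟨a, b, by rw [← cancel_mono h', Category.assoc, hb, ha, Category.id_comp],
      by rw [← cancel_mono (bcTo g hg h), Category.assoc, ha, hb, Category.id_comp]⟩, ha⟩
  · rintro ⟨φ, hφ⟩ Z y γ'
    have e : φ.hom.left ≫ pullback.fst H.hom g ≫ h.left ≫ pullback.fst G.hom M.hom =
        h'.left ≫ pullback.fst G.hom f := by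
      rw [← bcTo_left_fst g hg h, ← Category.assoc, ← Over.comp_left, hφ]
    constructor
    · rintro ⟨p, rfl, rfl⟩
      refine ⟨p ≫ φ.hom.left ≫ pullback.fst H.hom g, ?_, by simp only [Category.assoc, e]⟩
      have e' : φ.hom.left ≫ pullback.snd H.hom g = H'.hom := Over.w φ.hom
      simp only [Category.assoc, pullback.condition, reassoc_of% e']
    · rintro ⟨p, hp, rfl⟩
      refine ⟨pullback.lift p y hp ≫ φ.inv.left, ?_, ?_⟩
      · rw [Category.assoc, Over.w φ.inv]
        exact pullback.lift_snd _ _ _
      · have e2 : φ.inv.left ≫ h'.left ≫ pullback.fst G.hom f =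
            pullback.fst H.hom g ≫ h.left ≫ pullback.fst G.hom M.hom := by
          rw [← bcTo_left_fst g hg h, ← Category.assoc, ← Over.comp_left, ← hφ, Iso.inv_hom_id_assoc]
        rw [Category.assoc, e2, pullback.lift_fst_assoc]

variable [IsAffineHom G.hom] [Smooth G.hom]

/-- **The geometric fibres are integral when those of the group are connected.** -/
theorem Rep.isIntegral_geomFibre (R : Rep G) (hE : SGA3x.HasMaxTorusEtaleLocally G) (s : S)
    [ConnectedSpace ↥(Red.geomFibre s G).left] : IsIntegral (Red.geomFibre s R.M).left := by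
  let K := AlgebraicClosure (S.residueField s)
  let x : Spec (CommRingCat.of K) ⟶ S := Red.geomPt s
  obtain ⟨S', f, hf, hfs, T', _, i', hi'⟩ := hE
  haveI := hf; haveI := hfs
  obtain ⟨t', ht'⟩ := exists_lift_algClosed f x (f.surjective _)
  haveI := hi'.1; haveI := hi'.2.1
  let i₀ := bcTo (G := G) t' ht' i'
  have hi₀ : Red.IsMaximalTorus i₀ := isMaximalTorus_bcTo t' ht' hi'
  haveI := hi₀.1; haveI := hi₀.2.1
  haveI : Smooth (Red.bc x G).hom := MorphismProperty.pullback_snd (P := @Smooth) _ _ inferInstance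
  haveI := RedRank.isAffineHom_bc G x
  haveI : IsAffine (Red.bc x G).left := isAffine_of_isAffineHom (Red.bc x G).hom
  -- the family of all conjugates
  let X : Scheme.{u} := (Red.bc x G).left
  let r : X ⟶ Spec (CommRingCat.of K) := pullback.snd G.hom x
  let fX : X ⟶ S := r ≫ x
  let gt := secOf (G := G) fX (pullback.fst G.hom x) pullback.condition
  haveI : Smooth (Red.bc fX G).hom := MorphismProperty.pullback_snd (P := @Smooth) _ _ inferInstance
  haveI := RedRank.isAffineHom_bc G fX
  haveI := isMonHom_conjIso gt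
  have hτ₀ : Red.IsMaximalTorus (bcTo r (rfl : r ≫ x = fX) i₀) := isMaximalTorus_bcTo r rfl hi₀
  haveI := hτ₀.1; haveI := hτ₀.2.1
  have hτ := MaxTorConj.isMaximalTorus_iso (conjIso gt) hτ₀
  obtain ⟨v, ⟨hv, hs⟩, -⟩ := R.univ fX _ (bcTo r rfl i₀ ≫ (conjIso gt).hom) hτ
  rw [show bcTo r rfl i₀ ≫ (conjIso gt).hom = AGF.conjBy gt (bcTo r rfl i₀) from (DiagRep.conjBy_eq_comp _ _).symm] at hs
  let q : X ⟶ (Red.geomFibre s R.M).left := pullback.lift v r hv
  -- it hits every rational point
  let π : (Red.geomFibre s R.M).left ⟶ Spec (CommRingCat.of K) := (Red.geomFibre s R.M).hom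
  haveI : Smooth π := MorphismProperty.pullback_snd (P := @Smooth) _ _ R.smooth
  haveI : JacobsonSpace ↥(Red.geomFibre s R.M).left := LocallyOfFiniteType.jacobsonSpace π
  have hmem : closedPoints (Red.geomFibre s R.M).left ⊆ Set.range q := by
    intro z hz
    let σ := (pointEquivClosedPoint π).symm ⟨z, hz⟩
    have hσ : σ.1 ≫ pullback.snd R.M.hom x = 𝟙 _ := σ.2
    have hw : (σ.1 ≫ pullback.fst R.M.hom x) ≫ R.M.hom = x := by
      rw [Category.assoc, pullback.condition, reassoc_of% hσ]
    let w := σ.1 ≫ pullback.fst R.M.hom x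
    have hwm : Red.IsMaximalTorus (bcTo w hw R.i) := isMaximalTorus_bcTo w hw R.max
    haveI := hwm.1; haveI := hwm.2.1
    obtain ⟨g, φ, hφ⟩ := MaxTorusRank.exists_conj (K := K) (MaxTorusRank.isMaxTorus_of_isMaximalTorus hi₀)
      (MaxTorusRank.isMaxTorus_of_isMaximalTorus hwm)
    have hg : g.left ≫ r = 𝟙 _ := Over.w g
    have hgf : g.left ≫ fX = x := by rw [← Category.assoc, hg, Category.id_comp]
    have hgv : g.left ≫ v = w := by
      refine (R.univ x _ (bcTo w hw R.i) hwm).unique ⟨?_, ?_⟩ ⟨hw, Same.refl _⟩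
      · rw [Category.assoc, hv, hgf]
      · refine Same.trans ?_ ((hs.bcTo g.left hgf).trans (same_bcTo_bcTo v hv g.left hgf rfl _ R.i))
        rw [bcTo_conjBy, show bcPt g.left hgf gt = g from sec_ext (by rw [secG_bcPt, secG_secOf]; rfl)]
        refine (Same.symm ⟨φ, hφ⟩).trans (Same.conj ?_ g)
        exact ((same_bcTo_id i₀).symm.trans
          (same_bcTo_congr hg.symm (Category.id_comp x) (by rw [hg, Category.id_comp]) i₀)).trans
          (same_bcTo_bcTo r rfl g.left hgf rfl (by rw [hg, Category.id_comp]) i₀).symm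
    have hgq : g.left ≫ q = σ.1 := pullback.hom_ext (by rw [Category.assoc, pullback.lift_fst, hgv])
      (by rw [Category.assoc, pullback.lift_snd, hg]; exact hσ.symm)
    refine ⟨g.left (IsLocalRing.closedPoint K), ?_⟩
    rw [← Scheme.Hom.comp_apply, hgq]
    exact congrArg Subtype.val ((pointEquivClosedPoint π).apply_symm_apply ⟨z, hz⟩)
  haveI : ConnectedSpace X := ‹ConnectedSpace ↥(Red.geomFibre s G).left›
  have hconn : _root_.IsConnected (closure (Set.range q)) := (isConnected_range q.continuous).closure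
  have htop : closure (Set.range q) = Set.univ := by
    refine Set.univ_subset_iff.1 ?_
    rw [← closure_closedPoints (X := (Red.geomFibre s R.M).left)]
    exact closure_mono hmem
  rw [htop] at hconn
  haveI : ConnectedSpace ↥(Red.geomFibre s R.M).left := connectedSpace_iff_univ.2 hconn
  exact S7791.isIntegral_of_smooth_connected K _ π

end Groth.Agent.ToriSch
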