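import Groth.Agent.ToriSchLib.Fibres
import Groth.Agent.S5248

/-!
# The scheme of maximal tori as the quotient by a normalizer
-/

set_option autoImplicit false
set_option linter.style.haveILetI false
set_option linter.unusedSectionVars false
set_option backward.isDefEq.respectTransparency false
set_option maxHeartbeats 2000000
set_option synthInstance.maxHeartbeats 400000

noncomputable section

universe u

open CategoryTheory CategoryTheory.Limits MonoidalCategory CartesianMonoidalCategory AlgebraicGeometry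
open scoped MonObj

attribute [-instance] CategoryTheory.Hom.commGroup

namespace Groth.Agent.ToriSch

open Groth.Agent.BorelLib
open Groth.Agent.TorsTuple (bcMul bcMul_comp bcMul_precomp)

variable {S : Scheme.{u}} {G T : Over S} [GrpObj G]

theorem bcMul_symm_left {P : Scheme.{u}} (f : P ⟶ S) {Z : Over P} (a : Z ⟶ Red.bc f G) :
    ((bcMul f G Z).symm a).left = a.left ≫ pullback.fst G.hom f := by
  show (((Over.mapPullbackAdj f).homEquiv Z G).symm a).left = _
  simp [Over.mapPullbackAdj]

/-- The family of all conjugates is the conjugate of the constant family. -/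
theorem same_conjFamily (i : T ⟶ G) :
    Same (AGF.conjBy (secOf (G := G) G.hom (𝟙 G.left) (Category.id_comp _)) ((Over.pullback G.hom).map i))
      (RedSub.conjFamily i) := by
  let gt := secOf (G := G) G.hom (𝟙 G.left) (Category.id_comp _)
  let Z : Over G.left := Red.bc G.hom T
  let a : (Over.map G.hom).obj Z ⟶ G ⊗ T := lift (Over.homMk (pullback.snd T.hom G.hom) rfl)
    (Over.homMk (pullback.fst T.hom G.hom) pullback.condition)
  have ha1 : a.left ≫ (fst G T).left = pullback.snd T.hom G.hom := by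
    rw [← Over.comp_left, lift_fst]; rfl
  have ha2 : a.left ≫ (snd G T).left = pullback.fst T.hom G.hom := by
    rw [← Over.comp_left, lift_snd]; rfl
  let b : (G ⊗ T).left ⟶ Z.left := pullback.lift (snd G T).left (fst G T).left (by rw [Over.w, Over.w])
  have hab : a.left ≫ b = 𝟙 _ := pullback.hom_ext (by
    rw [Category.assoc, pullback.lift_fst, ha2]; exact (Category.id_comp _).symm) (by
    rw [Category.assoc, pullback.lift_snd, ha1]; exact (Category.id_comp _).symm)
  have hba : b ≫ a.left = 𝟙 _ := by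
    let b' : G ⊗ T ⟶ (Over.map G.hom).obj Z := Over.homMk b (by
      show b ≫ pullback.snd T.hom G.hom ≫ G.hom = _
      rw [← Category.assoc, pullback.lift_snd, Over.w])
    have : b' ≫ a = 𝟙 _ := by
      apply hom_ext
      · rw [Category.assoc, lift_fst, Category.id_comp]
        exact Over.OverMorphism.ext (pullback.lift_snd _ _ _)
      · rw [Category.assoc, lift_snd, Category.id_comp]
        exact Over.OverMorphism.ext (pullback.lift_fst _ _ _)
    exact congrArg CommaMorphism.left this
  let φ : Z ≅ (Over.mk (fst G T).left : Over G.left) := Over.isoMk ⟨a.left, b, hab, hba⟩ ha1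
  refine ⟨φ, bc_ext ?_⟩
  have h1 : (bcMul G.hom G Z).symm (toUnit Z ≫ gt) = a ≫ fst G T := by
    refine Over.OverMorphism.ext ?_
    rw [bcMul_symm_left, Over.comp_left, Over.comp_left, Over.toUnit_left, Category.assoc, ha1]
    exact (congrArg (Z.hom ≫ ·) (secG_secOf G.hom (𝟙 G.left) (Category.id_comp _))).trans (Category.comp_id _)
  have h2 : (bcMul G.hom G Z).symm ((Over.pullback G.hom).map i) = a ≫ snd G T ≫ i := by
    refine Over.OverMorphism.ext ?_
    rw [bcMul_symm_left, Over.comp_left, Over.comp_left, ← Category.assoc, ha2]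
    exact ActBC.pullback_map_left_fst G.hom i
  have key : (bcMul G.hom G Z).symm (AGF.conjBy gt ((Over.pullback G.hom).map i)) = a ≫ RedSub.conjMap i := by
    simp only [AGF.conjBy, RedSub.conjMap, map_mul, map_inv, h1, h2, MonObj.comp_mul, GrpObj.comp_inv, _root_.mul_assoc]
  show (φ.hom ≫ RedSub.conjFamily i).left ≫ pullback.fst G.hom G.hom =
    (AGF.conjBy gt ((Over.pullback G.hom).map i)).left ≫ pullback.fst G.hom G.hom
  rw [← bcMul_symm_left G.hom (AGF.conjBy gt ((Over.pullback G.hom).map i)), key, Over.comp_left, Over.comp_left,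
    Category.assoc]
  exact congrArg (a.left ≫ ·) (pullback.lift_fst _ _ _)

/-- Points moving one conjugate of a subgroup onto another. -/
theorem same_conj_iff {H : Over S} {i : T ⟶ G} {j : H ⟶ G} (a b : 𝟙_ (Over S) ⟶ G) :
    Same (AGF.conjBy a i) (AGF.conjBy b j) ↔ SGA3x.ConjBy i j (b⁻¹ * a) := by
  have e : ∀ {A : Over S} (c d : 𝟙_ (Over S) ⟶ G) (k : A ⟶ G),
      AGF.conjBy c (AGF.conjBy d k) = AGF.conjBy (c * d) k := fun c d k => by
    simp only [AGF.conjBy, MonObj.comp_mul, mul_inv_rev, _root_.mul_assoc]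
  rw [conjBy_iff_same]
  constructor
  · intro h
    have := h.conj b⁻¹
    rw [e, e, inv_mul_cancel] at this
    refine this.trans (Same.of_eq ?_)
    simp [AGF.conjBy, MonObj.comp_one]
  · intro h
    have := h.conj b
    rw [e, mul_inv_cancel_left] at this
    exact this

/-- **The scheme of maximal tori is the quotient by the normalizer of a maximal torus.** -/
theorem exists_quotient [GrpObj T] [IsAffineHom G.hom] [Smooth G.hom] {N : Over S} [GrpObj N] (M : Over S)
    (H : Over M.left) [GrpObj H] (h : H ⟶ Red.bc M.hom G) (hM : RedSub.RepresentsTor G M H h) (i : T ⟶ G)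
    (hT : Red.IsMaximalTorus i) (n : N ⟶ G) (hN : Red.IsNormalizerOf i n) :
    ∃ q : G ⟶ M, RedSub.SamePoints G G.hom (RedSub.conjFamily i) M h q.left ∧ RedSub.IsQuotient n q := by
  obtain ⟨him, hio, hit, -⟩ := id hT
  haveI := him; haveI := hio
  haveI := hM.1.2.1
  haveI := hN.1; haveI := hN.2.1
  -- the universal property, for subobjects
  have univ : ∀ {X : Scheme.{u}} (f : X ⟶ S) (H' : Over X) [GrpObj H'] (h' : H' ⟶ Red.bc f G),
      Red.IsMaximalTorus h' → ∃! v : X ⟶ M.left, Cls h f h' v := by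
    intro X f H' _ h' hh'
    haveI := hh'.2.1
    obtain ⟨v, ⟨hv, hs⟩, hu⟩ := hM.2 X f H' h' hh'
    exact ⟨v, ⟨hv, (samePoints_iff h h' v hv).1 hs⟩,
      fun v' ⟨hv', hs'⟩ => hu v' ⟨hv', (samePoints_iff h h' v' hv').2 hs'⟩⟩
  let gt := secOf (G := G) G.hom (𝟙 G.left) (Category.id_comp _)
  have conjmax : ∀ {X : Scheme.{u}} {f : X ⟶ S} (g : 𝟙_ (Over X) ⟶ Red.bc f G),
      IsMonHom (M := Red.bc f T) (AGF.conjBy g ((Over.pullback f).map i)) ∧
        Red.IsMaximalTorus (AGF.conjBy g ((Over.pullback f).map i)) := by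
    intro X f g
    haveI : Smooth (Red.bc f G).hom := MorphismProperty.pullback_snd (P := @Smooth) _ _ inferInstance
    haveI := RedRank.isAffineHom_bc G f
    haveI := isMonHom_conjIso g
    have hb := MaxTorConj.isMaximalTorus_bc hT f
    haveI := hb.1; haveI := hb.2.1
    have h1 := MaxTorConj.isMaximalTorus_iso (conjIso g) hb
    rw [show (Over.pullback f).map i ≫ (conjIso g).hom = AGF.conjBy g ((Over.pullback f).map i) from
      (DiagRep.conjBy_eq_comp _ _).symm] at h1
    exact ⟨h1.1, h1⟩
  obtain ⟨v, ⟨hv, hsv⟩, -⟩ := univ G.hom _ _ (conjmax gt).2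
  let q : G ⟶ M := Over.homMk v hv
  refine ⟨q, ?_, ?_⟩
  · haveI := (conjmax gt).2.2.1
    haveI : Mono (RedSub.conjFamily i) := (same_conjFamily i).symm.mono
    exact (samePoints_iff h (RedSub.conjFamily i) v hv).2 ((same_conjFamily i).symm.trans hsv)
  -- points with the same image
  have pts : ∀ {X : Over S} (a : X ⟶ G), Cls h X.hom
      (AGF.conjBy (secOf X.hom a.left (Over.w a)) ((Over.pullback X.hom).map i)) (a ≫ q).left := by
    intro X a
    refine ⟨Over.w (a ≫ q), ?_⟩
    have h1 := hsv.bcTo a.left (Over.w a)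
    rw [bcTo_conjBy] at h1
    refine (Same.trans ?_ h1).trans (same_bcTo_bcTo v hv a.left (Over.w a) rfl (Over.w (a ≫ q)) h)
    rw [show bcPt a.left (Over.w a) gt = secOf X.hom a.left (Over.w a) from sec_ext (by
      rw [secG_bcPt, secG_secOf, secG_secOf, Category.comp_id])]
    refine Same.conj ⟨(ActBC.bcCompIso a.left G.hom T (Over.w a)).symm, ?_⟩ _
    show (ActBC.bcCompIso a.left G.hom T (Over.w a)).inv ≫ (Over.pullback a.left).map ((Over.pullback G.hom).map i) ≫
      (ActBC.bcCompIso a.left G.hom G (Over.w a)).hom = _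
    rw [ActBC.bcCompIso_hom_naturality, Iso.inv_hom_id_assoc]
  have hiff : ∀ {X : Over S} (a b : X ⟶ G), a ≫ q = b ≫ q ↔ ∃ z : X ⟶ N, z ≫ n = a⁻¹ * b := by
    intro X a b
    let ga := secOf X.hom a.left (Over.w a)
    let gb := secOf X.hom b.left (Over.w b)
    let Ti := (Over.pullback X.hom).map i
    have h1 : a ≫ q = b ≫ q ↔ Same (AGF.conjBy gb Ti) (AGF.conjBy ga Ti) := by
      constructor
      · intro e
        obtain ⟨ea, sa⟩ := pts a
        obtain ⟨eb, sb⟩ := pts b
        exact (sb.trans (same_bcTo_congr (congrArg CommaMorphism.left e.symm) eb ea h)).trans sa.symm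
      · intro hs
        refine Over.OverMorphism.ext ((univ X.hom _ _ (conjmax gb).2).unique ?_ (pts b))
        obtain ⟨ea, sa⟩ := pts a
        exact ⟨ea, hs.trans sa⟩
    rw [h1, same_conj_iff, hN.2.2]
    let x₀ : (Over.map X.hom).obj (𝟙_ (Over X.left)) ≅ X := Over.isoMk (Iso.refl _) (by
      show 𝟙 _ ≫ X.hom = 𝟙 _ ≫ X.hom
      rfl)
    have hg : (Over.mapPullbackAdj X.hom).homEquiv _ G (x₀.hom ≫ (a⁻¹ * b)) = ga⁻¹ * gb := by
      have e : ∀ (c : X ⟶ G), bcMul X.hom G _ (x₀.hom ≫ c) = secOf X.hom c.left (Over.w c) := by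
        intro c
        refine sec_ext ?_
        rw [secG_secOf, secG, ← bcMul_symm_left, MulEquiv.symm_apply_apply, Over.comp_left]
        exact Category.id_comp c.left
      show bcMul X.hom G _ (x₀.hom ≫ (a⁻¹ * b)) = _
      rw [MonObj.comp_mul, GrpObj.comp_inv, map_mul, map_inv, e, e]
    have hpts : SGA3x.ConjBy Ti Ti (ga⁻¹ * gb) ↔ Transporter.ConjPts i i (a⁻¹ * b) := by
      haveI : Mono Ti := mono_bc X.hom i
      have h0 : SGA3x.ConjBy Ti Ti (ga⁻¹ * gb) ↔ Transporter.ConjPts Ti Ti (ga⁻¹ * gb) :=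
        ⟨Transporter.conjPts_of_conjBy, Transporter.conjBy_of_conjPts⟩
      rw [h0, ← hg, Transporter.conjPts_bc]
      constructor
      · intro hc X' x
        have h' := hc X' (x ≫ x₀.inv)
        rwa [Category.assoc, Iso.inv_hom_id_assoc] at h'
      · intro hc X' x
        have h' := hc X' (x ≫ x₀.hom)
        rwa [Category.assoc] at h'
    rw [hpts]
    exact ⟨fun hc X' x t => ⟨(hc X' x).1 t, (hc X' x).2 t⟩,
      fun hc X' x => ⟨fun t => (hc X' x t).1, fun t => (hc X' x t).2⟩⟩
  have sq : IsPullback (fst G N) ((G ◁ n) ≫ μ[G]) q q := by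
    have hμ : (G ◁ n) ≫ μ[G] = fst G N * (snd G N ≫ n) := by
      rw [MonObj.mul_eq_mul, MonObj.comp_mul]
      simp
    rw [hμ]
    have w : fst G N ≫ q = (fst G N * (snd G N ≫ n)) ≫ q :=
      (hiff _ _).2 ⟨snd G N, by rw [inv_mul_cancel_left]⟩
    have hz : ∀ s : PullbackCone q q, ∃ z : s.pt ⟶ N, z ≫ n = s.fst⁻¹ * s.snd :=
      fun s => (hiff _ _).1 s.condition
    choose z hz using hz
    refine IsPullback.mk ⟨w⟩ ⟨PullbackCone.IsLimit.mk _ (fun s => lift s.fst (z s)) (fun s => lift_fst _ _)
      (fun s => ?_) (fun s m h1 h2 => ?_)⟩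
    · rw [MonObj.comp_mul, lift_fst, lift_snd_assoc, hz, mul_inv_cancel_left]
    · refine hom_ext _ _ (by rw [lift_fst]; exact h1) ?_
      rw [lift_snd, ← cancel_mono n, hz, Category.assoc, eq_inv_mul_iff_mul_eq, ← h2, MonObj.comp_mul]
      exact congrArg (· * (m ≫ snd G N ≫ n)) h1.symm
  -- the normalizer is smooth
  haveI : Smooth N.hom := by
    obtain ⟨N', _, j', hj', -, hs⟩ :=
      S5248.result T G (RedRank.isMultTypeFT_of_isTorus hit) inferInstance inferInstance i
    haveI := hj'.2.1; haveI := hs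
    obtain ⟨α, hα⟩ := (hj'.2.2 N n).2 ((hN.2.2 N n).1 ⟨𝟙 _, Category.id_comp _⟩)
    obtain ⟨β, hβ⟩ := (hN.2.2 N' j').2 ((hj'.2.2 N' j').1 ⟨𝟙 _, Category.id_comp _⟩)
    have e : IsIso α := ⟨β, by rw [← cancel_mono n, Category.assoc, hβ, hα, Category.id_comp],
      by rw [← cancel_mono j', Category.assoc, hα, hβ, Category.id_comp]⟩
    haveI := e
    haveI : IsIso α.left := (Over.forget _).map_isIso α
    rw [← Over.w α]; infer_instance
  haveI : Smooth (fst G N).left := MorphismProperty.pullback_fst (P := @Smooth) _ _ inferInstance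
  -- local sections
  haveI : Smooth (Red.bc M.hom G).hom := MorphismProperty.pullback_snd (P := @Smooth) _ _ inferInstance
  haveI := RedRank.isAffineHom_bc G M.hom
  haveI := hM.1.1
  have hTM := MaxTorConj.isMaximalTorus_bc hT M.hom
  haveI := hTM.1; haveI := hTM.2.1
  obtain ⟨M', p, hp, hps, g, hg⟩ := MaxTorConj.exists_conj_etale ((Over.pullback M.hom).map i) h hTM hM.1
  haveI := hp; haveI := hps
  let e := ActBC.bcCompIso p M.hom G (rfl : p ≫ M.hom = p ≫ M.hom)
  haveI : IsMonHom e.hom := ActBC.bcCompIso_isMonHom _ _ _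
  let X' : Over S := Over.mk (p ≫ M.hom)
  let g₀ : 𝟙_ (Over M') ⟶ Red.bc (p ≫ M.hom) G := g ≫ e.hom
  let s : X' ⟶ G := Over.homMk (secG g₀) (secG_comp g₀)
  have hsq : (s ≫ q).left = p := by
    refine (univ X'.hom _ _ (conjmax (secOf X'.hom s.left (Over.w s))).2).unique (pts s) ⟨rfl, ?_⟩
    rw [show secOf X'.hom s.left (Over.w s) = g₀ from sec_ext (secG_secOf _ _ _)]
    have h1 := conjBy_comp_iso e.hom hg
    refine (Same.conj ?_ g₀).trans ((conjBy_iff_same.1 h1).trans (Same.refl _))
    refine ⟨(ActBC.bcCompIso p M.hom T rfl).symm, ?_⟩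
    show (ActBC.bcCompIso p M.hom T rfl).inv ≫ (Over.pullback p).map ((Over.pullback M.hom).map i) ≫ e.hom = _
    rw [ActBC.bcCompIso_hom_naturality, Iso.inv_hom_id_assoc]
    rfl
  have hsq' : s.left ≫ q.left = p := hsq
  haveI : Surjective q.left := ⟨fun m => by
    obtain ⟨x, hx⟩ := p.surjective m
    exact ⟨s.left x, by rw [← Scheme.Hom.comp_apply, hsq']; exact hx⟩⟩
  haveI hq : Smooth q.left := by
    have sq1 : IsPullback (pullback.fst s.left (fst G N).left) (pullback.snd s.left (fst G N).left) s.left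
      (fst G N).left := IsPullback.of_hasPullback _ _
    have sq2 := sq1.flip.paste_horiz (sq.map (Over.forget S)).flip
    let P := pullback s.left (fst G N).left
    let pr : P ⟶ G.left := pullback.snd s.left (fst G N).left ≫ ((G ◁ n) ≫ μ[G]).left
    let pm : P ⟶ M' := pullback.fst s.left (fst G N).left
    have sq3 : IsPullback pr pm q.left p := hsq' ▸ sq2
    haveI : Smooth pm := MorphismProperty.pullback_fst (P := @Smooth) _ _ inferInstance
    haveI : Etale pr := MorphismProperty.of_isPullback (P := @Etale) sq3.flip inferInstance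
    haveI : Surjective pr := MorphismProperty.of_isPullback (P := @Surjective) sq3.flip inferInstance
    haveI : Smooth (pr ≫ q.left) := by rw [sq3.w]; infer_instance
    exact S0115.result pr q.left
  exact ⟨inferInstance, inferInstance, inferInstance, sq⟩

end Groth.Agent.ToriSch
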