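import Groth.Agent.ToriSchLib.RepOn
import Groth.Agent.TorsTupleLib.SigmaTori
import Mathlib.AlgebraicGeometry.RelativeGluing

/-!
# The scheme of maximal tori over any base
-/

set_option autoImplicit false
set_option linter.style.haveILetI false
set_option linter.unusedSectionVars false
set_option backward.isDefEq.respectTransparency false
set_option maxHeartbeats 2000000
set_option synthInstance.maxHeartbeats 400000

noncomputable section

universe u

open CategoryTheory CategoryTheory.Limits MonoidalCategory CartesianMonoidalCategory AlgebraicGeometry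
open scoped MonObj

attribute [-instance] CategoryTheory.Hom.commGroup

namespace Groth.Agent.ToriSch

open Groth.Agent.BorelLib

/-- Lifts through monomorphisms are local. -/
theorem exists_lift_of_local {A Z R : Scheme.{u}} (j : A ⟶ Z) [Mono j] (f : R ⟶ Z)
    (h : ∀ r : R, ∃ O : R.Opens, r ∈ O ∧ ∃ w : (O : Scheme.{u}) ⟶ A, w ≫ j = O.ι ≫ f) :
    ∃ w : R ⟶ A, w ≫ j = f := by
  choose O hO w hw using h
  let 𝒰 : R.OpenCover := R.openCoverOfIsOpenCover O (
    eq_top_iff.2 fun x _ => TopologicalSpace.Opens.mem_iSup.2 ⟨x, hO x⟩)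
  refine ⟨𝒰.glueMorphisms w fun x y => ?_, 𝒰.hom_ext _ _ fun x => ?_⟩
  · rw [← cancel_mono j, Category.assoc, Category.assoc, hw x, hw y, ← Category.assoc, ← Category.assoc]
    exact congrArg (· ≫ f) pullback.condition
  · rw [← Category.assoc, Scheme.Cover.ι_glueMorphisms]
    exact hw x

variable {S : Scheme.{u}} {G : Over S} [GrpObj G]

/-- Equality of subobjects is local on the base. -/
theorem same_of_local {X : Scheme.{u}} {f : X ⟶ S} {A B : Over X} (i : A ⟶ Red.bc f G) (j : B ⟶ Red.bc f G)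
    [Mono i] [Mono j]
    (h : ∀ x : X, ∃ O : X.Opens, x ∈ O ∧ Same (bcTo O.ι (rfl : O.ι ≫ f = _) i) (bcTo O.ι rfl j)) : Same i j := by
  have key : ∀ {A B : Over X} (i : A ⟶ Red.bc f G) (j : B ⟶ Red.bc f G) [Mono i] [Mono j],
      (∀ x : X, ∃ O : X.Opens, x ∈ O ∧ Same (bcTo O.ι (rfl : O.ι ≫ f = _) i) (bcTo O.ι rfl j)) →
      ∃ a : A ⟶ B, a ≫ j = i := by
    intro A B i j _ _ h
    haveI : Mono j.left := inferInstanceAs (Mono ((Over.forget X).map j))
    obtain ⟨w, hw⟩ := exists_lift_of_local j.left i.left fun a => by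
      obtain ⟨O, hO, φ, hφ⟩ := h (A.hom a)
      refine ⟨A.hom ⁻¹ᵁ O, hO, ?_⟩
      let l : ((A.hom ⁻¹ᵁ O : A.left.Opens) : Scheme.{u}) ⟶ pullback A.hom O.ι :=
        pullback.lift (A.hom ⁻¹ᵁ O).ι (A.hom ∣_ O) (morphismRestrict_ι A.hom O).symm
      have hl : l ≫ pullback.fst A.hom O.ι = (A.hom ⁻¹ᵁ O).ι := pullback.lift_fst _ _ _
      refine ⟨l ≫ φ.hom.left ≫ pullback.fst B.hom O.ι, ?_⟩
      refine pullback.hom_ext ?_ ?_
      · have e := congrArg (fun ψ : Red.bc O.ι A ⟶ Red.bc (O.ι ≫ f) G =>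
          ψ.left ≫ pullback.fst G.hom (O.ι ≫ f)) hφ
        simp only [Over.comp_left, Category.assoc, bcTo_left_fst] at e
        simp only [Category.assoc]
        rw [e, ← Category.assoc l, hl]
      · have hj : j.left ≫ pullback.snd G.hom f = B.hom := Over.w j
        have hi : i.left ≫ pullback.snd G.hom f = A.hom := Over.w i
        have hφ' : φ.hom.left ≫ pullback.snd B.hom O.ι = pullback.snd A.hom O.ι := Over.w φ.hom
        simp only [Category.assoc]
        rw [hj, hi, pullback.condition, reassoc_of% hφ', ← pullback.condition, ← Category.assoc l, hl]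
    exact ⟨Over.homMk w (by rw [← Over.w j, ← Category.assoc, hw]; exact Over.w i), Over.OverMorphism.ext hw⟩
  obtain ⟨a, ha⟩ := key i j h
  obtain ⟨b, hb⟩ := key j i fun x => (h x).imp fun O hO => ⟨hO.1, hO.2.symm⟩
  exact ⟨⟨a, b, by rw [← cancel_mono i, Category.assoc, hb, ha, Category.id_comp],
    by rw [← cancel_mono j, Category.assoc, ha, hb, Category.id_comp]⟩, ha⟩

variable [IsAffineHom G.hom] [Smooth G.hom] (D : ∀ U : S.affineOpens, RepOn G U)

namespace RepOn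

/-- The structure map to the base. -/
abbrev gP (U : S.affineOpens) : (D U).M ⟶ S := (D U).h ≫ U.1.ι

theorem range_gP (U : S.affineOpens) : Set.range (gP D U) ⊆ (U.1 : Set S) := by
  rintro _ ⟨x, rfl⟩
  exact ((D U).h x).2

theorem exists_res {U V : S.affineOpens} (hUV : U ≤ V) :
    ∃ r : (D U).M ⟶ (D V).M, Cls (D V).i (gP D U) (D U).i r :=
  ((D V).univ (gP D U) ((range_gP D U).trans hUV) (D U).T (D U).i (D U).max).exists

/-- The transition maps. -/
def res {U V : S.affineOpens} (hUV : U ≤ V) : (D U).M ⟶ (D V).M := (exists_res D hUV).choose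

theorem res_spec {U V : S.affineOpens} (hUV : U ≤ V) : Cls (D V).i (gP D U) (D U).i (res D hUV) :=
  (exists_res D hUV).choose_spec

theorem res_refl (U : S.affineOpens) : res D (le_refl U) = 𝟙 (D U).M :=
  ((D U).univ (gP D U) (range_gP D U) (D U).T (D U).i (D U).max).unique (res_spec D _) (cls_id (D U).i)

theorem res_trans {U V W : S.affineOpens} (h₁ : U ≤ V) (h₂ : V ≤ W) :
    res D (h₁.trans h₂) = res D h₁ ≫ res D h₂ :=
  ((D W).univ (gP D U) ((range_gP D U).trans (h₁.trans h₂)) (D U).T (D U).i (D U).max).unique (res_spec D _)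
    ((res_spec D h₂).trans (res_spec D h₁))

theorem res_h {U V : S.affineOpens} (hUV : U ≤ V) : res D hUV ≫ (D V).h = (D U).h ≫ S.homOfLE hUV := by
  rw [← cancel_mono V.1.ι, Category.assoc, Category.assoc, Scheme.homOfLE_ι]
  exact (res_spec D hUV).1

theorem isPullback_res {U V : S.affineOpens} (hUV : U ≤ V) :
    IsPullback (res D hUV) (D U).h (D V).h (S.homOfLE hUV) := by
  let O := pullback (D V).h (S.homOfLE hUV)
  let p₁ : O ⟶ (D V).M := pullback.fst _ _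
  let p₂ : O ⟶ (U.1 : Scheme.{u}) := pullback.snd _ _
  have hgO : p₁ ≫ gP D V = p₂ ≫ U.1.ι := by
    show p₁ ≫ (D V).h ≫ V.1.ι = _
    rw [← Category.assoc, pullback.condition, Category.assoc, Scheme.homOfLE_ι]
  have hr : Set.range (p₁ ≫ gP D V) ⊆ (U.1 : Set S) := by
    rw [hgO]
    rintro _ ⟨x, rfl⟩
    exact (p₂ x).2
  have hmax := isMaximalTorus_bcTo p₁ (rfl : p₁ ≫ gP D V = _) (D V).max
  obtain ⟨l, hl, -⟩ := (D U).univ (p₁ ≫ gP D V) hr _ _ hmax
  have hl1 : l ≫ res D hUV = p₁ :=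
    ((D V).univ (p₁ ≫ gP D V) (hr.trans hUV) _ _ hmax).unique ((res_spec D hUV).trans hl) (cls_self (D V).i p₁ rfl)
  have hl2 : l ≫ (D U).h = p₂ := by
    rw [← cancel_mono U.1.ι, Category.assoc, ← hgO]
    exact hl.1
  let k : (D U).M ⟶ O := pullback.lift (res D hUV) (D U).h (res_h D hUV)
  have hk1 : k ≫ p₁ = res D hUV := pullback.lift_fst _ _ _
  have hk2 : k ≫ p₂ = (D U).h := pullback.lift_snd _ _ _
  have hk : k ≫ l = 𝟙 _ := by
    obtain ⟨er, sr⟩ := res_spec D hUV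
    have hkg : k ≫ p₁ ≫ gP D V = gP D U := by rw [← Category.assoc, hk1]; exact er
    refine ((D U).univ (gP D U) (range_gP D U) (D U).T (D U).i (D U).max).unique (hl.trans ?_) (cls_id (D U).i)
    exact ⟨hkg, sr.trans (same_bcTo_bcTo p₁ rfl k hkg hk1 er (D V).i).symm⟩
  exact (IsPullback.of_hasPullback (D V).h (S.homOfLE hUV)).of_iso
    ⟨l, k, by apply pullback.hom_ext <;> rw [Category.assoc, Category.id_comp] <;>
      first | exact (congrArg (l ≫ ·) hk1).trans hl1 | exact (congrArg (l ≫ ·) hk2).trans hl2, hk⟩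
    (Iso.refl _) (Iso.refl _) (Iso.refl _)
    (by rw [Iso.refl_hom, Category.comp_id]; exact hl1.symm)
    (by rw [Iso.refl_hom, Category.comp_id]; exact hl2.symm)
    (by rw [Iso.refl_hom, Iso.refl_hom, Category.comp_id, Category.id_comp])
    (by rw [Iso.refl_hom, Iso.refl_hom, Category.comp_id, Category.id_comp])

/-- The functor of the local schemes of tori. -/
def functor : S.directedAffineCover.I₀ ⥤ Scheme.{u} where
  obj U := (D U).M
  map f := res D (leOfHom f)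
  map_id U := res_refl D U
  map_comp f g := res_trans D (leOfHom f) (leOfHom g)

/-- The gluing datum. -/
def gluing : Scheme.Cover.RelativeGluingData S.directedAffineCover where
  functor := functor D
  natTrans :=
    { app := fun U => (D U).h
      naturality := fun U V f => res_h D (leOfHom f) }
  equifibered U V f := isPullback_res D (leOfHom f)

/-- The glued scheme. -/
abbrev Q : Scheme.{u} := (gluing D).glued

/-- The structure map of the glued scheme. -/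
abbrev gQ : Q D ⟶ S := (gluing D).toBase

/-- The inclusion of the part over an affine open. -/
abbrev ιQ (U : S.affineOpens) : (D U).M ⟶ Q D := colimit.ι (gluing D).functor U

theorem ιQ_gQ (U : S.affineOpens) : ιQ D U ≫ gQ D = gP D U := (gluing D).ι_toBase U

theorem res_ιQ {U V : S.affineOpens} (hUV : U ≤ V) : res D hUV ≫ ιQ D V = ιQ D U :=
  colimit.w (gluing D).functor (homOfLE hUV)

instance isOpenImmersion_ιQ (U : S.affineOpens) : IsOpenImmersion (ιQ D U) :=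
  MorphismProperty.of_isPullback (P := @IsOpenImmersion) ((gluing D).isPullback_natTrans_ι_toBase U)
    (inferInstanceAs (IsOpenImmersion U.1.ι))

theorem range_ιQ (U : S.affineOpens) : Set.range (ιQ D U) = gQ D ⁻¹' (U.1 : Set S) :=
  ((gluing D).preimage_toBase_eq_range_ι U).symm.trans (congrArg (gQ D ⁻¹' ·) (Scheme.Opens.range_ι U.1))

/-- The torus on the glued scheme. -/
theorem exists_torus : ∃ (T : Over (Q D)) (_ : GrpObj T) (i : T ⟶ Red.bc (gQ D) G),
    Red.IsMaximalTorus i ∧ ∀ U, Same (bcTo (ιQ D U) (ιQ_gQ D U) i) (D U).i := by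
  obtain ⟨T, _, j, θ, hj, hθ⟩ :=
    TorsTuple.exists_sigma_tori (fun U => gP D U) (fun U => (D U).T) (fun U => (D U).i) fun U => (D U).max
  haveI := hj.1; haveI := hj.2.1
  let P := fun U : S.affineOpens => (D U).M
  let π : (∐ P) ⟶ Q D := Limits.Sigma.desc fun U => ιQ D U
  have hπq : π ≫ gQ D = Limits.Sigma.desc fun U => gP D U :=
    Limits.Sigma.hom_ext _ _ fun U => by
      rw [← Category.assoc, Limits.Sigma.ι_desc, Limits.Sigma.ι_desc]
      exact ιQ_gQ D U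
  haveI : Etale π := IsZariskiLocalAtSource.sigmaDesc fun U => inferInstance
  haveI : Surjective π := ⟨fun z => by
    obtain ⟨U, hU, hz, -⟩ := exists_isAffineOpen_mem_and_subset (X := S) (x := gQ D z) (U := ⊤) trivial
    obtain ⟨a, ha⟩ : z ∈ Set.range (ιQ D ⟨U, hU⟩) := by rw [range_ιQ]; exact hz
    exact ⟨Limits.Sigma.ι P ⟨U, hU⟩ a, by rw [← Scheme.Hom.comp_apply, Limits.Sigma.ι_desc]; exact ha⟩⟩
  have hcov := PowEtCentralLib.exists_compact_image π π.isOpenMap π.surjective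
  haveI : Smooth (Red.bc (gQ D) G).hom := MorphismProperty.pullback_snd (P := @Smooth) _ _ inferInstance
  haveI := RedRank.isAffineHom_bc G (gQ D)
  let eπ := ActBC.bcCompIso π (gQ D) G hπq
  haveI : IsMonHom eπ.hom := ActBC.bcCompIso_isMonHom _ _ _
  haveI : IsMonHom eπ.inv := inferInstance
  haveI : IsMonHom eπ.symm.hom := inferInstanceAs (IsMonHom eπ.inv)
  let j' := j ≫ eπ.inv
  have hj' : Red.IsMaximalTorus j' := MaxTorConj.isMaximalTorus_iso eπ.symm hj
  haveI := hj'.1; haveI := hj'.2.1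
  haveI := MultEq.isAffineHom_of_isMultTypeFT (RedRank.isMultTypeFT_of_isTorus hj.2.2.1)
  have hl : ∀ {Z : Scheme.{u}} (x : Z ⟶ T.left),
      (x ≫ j'.left ≫ pullback.fst (Red.bc (gQ D) G).hom π) ≫ pullback.fst G.hom (gQ D) =
        x ≫ j.left ≫ pullback.fst G.hom (Limits.Sigma.desc fun U => gP D U) := by
    intro Z x
    have : (eπ.inv.left ≫ pullback.fst (Red.bc (gQ D) G).hom π) ≫ pullback.fst G.hom (gQ D) =
        pullback.fst G.hom (Limits.Sigma.desc fun U => gP D U) := by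
      rw [← cancel_epi eπ.hom.left, Category.assoc, ← Category.assoc eπ.hom.left, ← Over.comp_left, Iso.hom_inv_id,
        Over.id_left, Category.id_comp, ActBC.bcCompIso_hom_left_fst]
    simp only [j', Over.comp_left, Category.assoc] at this ⊢
    rw [this]
  -- the two pullbacks to an overlap agree
  have hover : ∀ {R : Scheme.{u}} (x₀ x₁ : R ⟶ ∐ P), x₀ ≫ π = x₁ ≫ π → ∀ (d : R ⟶ S)
      (e₀ : x₀ ≫ (Limits.Sigma.desc fun U => gP D U) = d) (e₁ : x₁ ≫ (Limits.Sigma.desc fun U => gP D U) = d),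
      Same (bcTo x₀ e₀ j) (bcTo x₁ e₁ j) := by
    intro R x₀ x₁ hx d e₀ e₁
    haveI : Mono (bcTo x₀ e₀ j) := mono_bcTo x₀ e₀ j
    haveI : Mono (bcTo x₁ e₁ j) := mono_bcTo x₁ e₁ j
    refine same_of_local _ _ fun r => ?_
    obtain ⟨U, a₀, ha₀⟩ := DescLib.exists_sigma_mem (x₀ r)
    obtain ⟨V, b₀, hb₀⟩ := DescLib.exists_sigma_mem (x₁ r)
    have hdU : d r ∈ U.1 := by
      rw [← e₀, Scheme.Hom.comp_apply, ← ha₀, ← Scheme.Hom.comp_apply, Limits.Sigma.ι_desc]
      exact range_gP D U ⟨a₀, rfl⟩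
    have hdV : d r ∈ V.1 := by
      rw [← e₁, Scheme.Hom.comp_apply, ← hb₀, ← Scheme.Hom.comp_apply, Limits.Sigma.ι_desc]
      exact range_gP D V ⟨b₀, rfl⟩
    obtain ⟨W, hW, hrW, hWUV⟩ := exists_isAffineOpen_mem_and_subset (X := S) (x := d r) (U := U.1 ⊓ V.1) ⟨hdU, hdV⟩
    let W' : S.affineOpens := ⟨W, hW⟩
    have hWU : W' ≤ U := fun x hx => (hWUV hx).1
    have hWV : W' ≤ V := fun x hx => (hWUV hx).2
    let O : R.Opens := x₀ ⁻¹ᵁ (Limits.Sigma.ι P U).opensRange ⊓ x₁ ⁻¹ᵁ (Limits.Sigma.ι P V).opensRange ⊓ d ⁻¹ᵁ W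
    refine ⟨O, ⟨⟨⟨a₀, ha₀⟩, ⟨b₀, hb₀⟩⟩, hrW⟩, ?_⟩
    have hr₀ : Set.range (O.ι ≫ x₀) ⊆ Set.range (Limits.Sigma.ι P U) := by
      rintro _ ⟨z, rfl⟩; exact z.2.1.1
    have hr₁ : Set.range (O.ι ≫ x₁) ⊆ Set.range (Limits.Sigma.ι P V) := by
      rintro _ ⟨z, rfl⟩; exact z.2.1.2
    let a := IsOpenImmersion.lift (Limits.Sigma.ι P U) (O.ι ≫ x₀) hr₀
    let b := IsOpenImmersion.lift (Limits.Sigma.ι P V) (O.ι ≫ x₁) hr₁
    have ha : a ≫ Limits.Sigma.ι P U = O.ι ≫ x₀ := IsOpenImmersion.lift_fac _ _ _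
    have hb : b ≫ Limits.Sigma.ι P V = O.ι ≫ x₁ := IsOpenImmersion.lift_fac _ _ _
    let d' : (O : Scheme.{u}) ⟶ S := O.ι ≫ d
    have haP : a ≫ ιQ D U = O.ι ≫ x₀ ≫ π := by
      rw [← Category.assoc O.ι, ← ha, Category.assoc, Limits.Sigma.ι_desc]
    have hbP : b ≫ ιQ D V = O.ι ≫ x₀ ≫ π := by
      rw [hx, ← Category.assoc O.ι, ← hb, Category.assoc, Limits.Sigma.ι_desc]
    have had : a ≫ gP D U = d' := by
      rw [← ιQ_gQ, ← Category.assoc, haP, Category.assoc, Category.assoc, hπq, e₀]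
    have hbd : b ≫ gP D V = d' := by
      rw [← ιQ_gQ, ← Category.assoc, hbP, Category.assoc, Category.assoc, hπq, e₀]
    have hrc : Set.range (O.ι ≫ x₀ ≫ π) ⊆ Set.range (ιQ D W') := by
      rintro _ ⟨z, rfl⟩
      rw [range_ιQ]
      show ((O.ι ≫ x₀ ≫ π) ≫ gQ D) z ∈ (W : Set S)
      rw [Category.assoc, Category.assoc, hπq, e₀]
      exact z.2.2
    let c := IsOpenImmersion.lift (ιQ D W') (O.ι ≫ x₀ ≫ π) hrc
    have hc : c ≫ ιQ D W' = O.ι ≫ x₀ ≫ π := IsOpenImmersion.lift_fac _ _ _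
    have hcd : c ≫ gP D W' = d' := by
      rw [← ιQ_gQ, ← Category.assoc, hc, Category.assoc, Category.assoc, hπq, e₀]
    have hca : c ≫ res D hWU = a := by rw [← cancel_mono (ιQ D U), Category.assoc, res_ιQ, hc, haP]
    have hcb : c ≫ res D hWV = b := by rw [← cancel_mono (ιQ D V), Category.assoc, res_ιQ, hc, hbP]
    have hcomp : ∀ {Z : S.affineOpens} (hZ : W' ≤ Z) {z : (O : Scheme.{u}) ⟶ (D Z).M} (hz : c ≫ res D hZ = z)
        (hzd : z ≫ gP D Z = d'), Same (bcTo z hzd (D Z).i) (bcTo c hcd (D W').i) := by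
      intro Z hZ z hz hzd
      obtain ⟨er, sr⟩ := res_spec D hZ
      exact ((sr.bcTo c hcd).trans (same_bcTo_bcTo (res D hZ) er c hcd hz hzd (D Z).i)).symm
    have hside : ∀ {Z : S.affineOpens} (z : (O : Scheme.{u}) ⟶ (D Z).M) (x : R ⟶ ∐ P)
        (ex : x ≫ (Limits.Sigma.desc fun U => gP D U) = d) (hz : z ≫ Limits.Sigma.ι P Z = O.ι ≫ x)
        (hzd : z ≫ gP D Z = d'), Same (bcTo O.ι (rfl : _ = d') (bcTo x ex j)) (bcTo z hzd (D Z).i) := by
      intro Z z x ex hz hzd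
      have e' : (O.ι ≫ x) ≫ (Limits.Sigma.desc fun U => gP D U) = d' := by rw [Category.assoc, ex]
      have hs : Same (bcTo (Limits.Sigma.ι P Z) (Limits.Sigma.ι_desc _ Z) j) (D Z).i := ⟨θ Z, hθ Z⟩
      exact ((same_bcTo_bcTo x ex O.ι rfl rfl e' j).trans
        (same_bcTo_bcTo (Limits.Sigma.ι P Z) (Limits.Sigma.ι_desc _ Z) z hzd hz e' j).symm).trans (hs.bcTo z hzd)
    exact (hside a x₀ e₀ ha had).trans ((hcomp hWU hca had).trans
      ((hside b x₁ e₁ hb hbd).trans (hcomp hWV hcb hbd)).symm)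
  have hswap : ∀ {R : Scheme.{u}} (x₀ x₁ : R ⟶ ∐ P), x₀ ≫ π = x₁ ≫ π → ∀ v : R ⟶ T.left, v ≫ T.hom = x₀ →
      ∃ w : R ⟶ T.left, w ≫ T.hom = x₁ ∧
        w ≫ j'.left ≫ pullback.fst (Red.bc (gQ D) G).hom π = v ≫ j'.left ≫ pullback.fst (Red.bc (gQ D) G).hom π := by
    intro R x₀ x₁ hx v hv
    let d := x₀ ≫ π ≫ gQ D
    have h0 : x₀ ≫ (Limits.Sigma.desc fun U => gP D U) = d := by rw [← hπq]
    have h1 : x₁ ≫ (Limits.Sigma.desc fun U => gP D U) = d := by
      rw [← hπq, ← Category.assoc, ← hx, Category.assoc]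
    obtain ⟨φ, hφ⟩ := hover x₀ x₁ hx d h0 h1
    let s : R ⟶ pullback T.hom x₀ := pullback.lift v (𝟙 R) (by rw [hv, Category.id_comp])
    have hw1 : (s ≫ φ.hom.left ≫ pullback.fst T.hom x₁) ≫ T.hom = x₁ := by
      have e : φ.hom.left ≫ pullback.snd T.hom x₁ = pullback.snd T.hom x₀ := Over.w φ.hom
      rw [Category.assoc, Category.assoc, pullback.condition, reassoc_of% e, pullback.lift_snd_assoc, Category.id_comp]
    refine ⟨s ≫ φ.hom.left ≫ pullback.fst T.hom x₁, hw1, pullback.hom_ext ?_ ?_⟩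
    · rw [hl, hl, Category.assoc, Category.assoc, ← bcTo_left_fst x₁ h1 j, ← Category.assoc φ.hom.left,
        ← Over.comp_left, hφ, bcTo_left_fst x₀ h0 j, pullback.lift_fst_assoc]
    · have e : ∀ {Z : Scheme.{u}} (x : Z ⟶ T.left),
          (x ≫ j'.left ≫ pullback.fst (Red.bc (gQ D) G).hom π) ≫ pullback.snd G.hom (gQ D) = (x ≫ T.hom) ≫ π := by
        intro Z x
        have h2 : j'.left ≫ pullback.snd (Red.bc (gQ D) G).hom π = T.hom := Over.w j'
        show (x ≫ j'.left ≫ pullback.fst (Red.bc (gQ D) G).hom π) ≫ (Red.bc (gQ D) G).hom = _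
        rw [Category.assoc, Category.assoc, pullback.condition, reassoc_of% h2, Category.assoc]
      rw [e, e, hw1, hv, hx]
  obtain ⟨U, _, jU, hjU, hjUm, θU, hθm, hθU⟩ := MaxTorConj.exists_descend_subgroup π hcov j' hswap
  haveI := hjU; haveI := hjUm; haveI := hθm
  have hUt : Red.IsTorus U := by
    obtain ⟨S'', f, hflat, hsurj, hcovf, hloc⟩ := hj.2.2.1
    haveI := hflat; haveI := hsurj
    refine ⟨S'', f ≫ π, inferInstance, inferInstance, SubDesc.hcov_comp π f hcovf hcov, fun z => ?_⟩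
    obtain ⟨V, hzV, r, ⟨e⟩⟩ := hloc z
    let g := V.ι ≫ f
    let b : Red.bc g (Red.bc π U) ≅ Red.bc (V.ι ≫ f ≫ π) U := ActBC.bcCompIso g π U (Category.assoc _ _ _)
    haveI : IsMonHom b.hom := ActBC.bcCompIso_isMonHom _ _ _
    haveI : IsMonHom (M := Red.bc g (Red.bc π U)) (N := Red.bc g T) ((Over.pullback g).map θU.hom) :=
      DiagRep.isMonHom_bc_map g θU.hom
    let w : Red.bc (V.ι ≫ f ≫ π) U ≅ Red.bc g T := b.symm ≪≫ (Over.pullback g).mapIso θU
    haveI : IsMonHom w.hom := by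
      show IsMonHom (b.inv ≫ (Over.pullback g).map θU.hom)
      infer_instance
    exact ⟨V, hzV, r, ⟨Grp.mkIso' w ≪≫ e⟩⟩
  have hUmax : Red.IsMaximalTorus jU := TorsTuple.isMaximalTorus_of_bc hUt fun s => by
    obtain ⟨y, rfl⟩ := π.surjective s
    exact ⟨∐ P, π, y, rfl, hθU ▸ TorsTuple.isMaximalTorus_precomp θU hj'⟩
  refine ⟨U, inferInstance, jU, hUmax, fun V => ?_⟩
  have hs : Same (bcTo π hπq jU) j := ⟨θU, by
    rw [show bcTo π hπq jU = (θU.hom ≫ j') ≫ eπ.hom by rw [hθU]; rfl]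
    simp [j']⟩
  exact (((hs.bcTo (Limits.Sigma.ι P V) (Limits.Sigma.ι_desc _ V)).symm.trans
    (same_bcTo_bcTo π hπq (Limits.Sigma.ι P V) (Limits.Sigma.ι_desc _ V) (Limits.Sigma.ι_desc _ V)
      (ιQ_gQ D V) jU)).symm).trans ⟨θ V, hθ V⟩

theorem exists_rep (D : ∀ U : S.affineOpens, RepOn G U) : Nonempty (Rep G) := by
  obtain ⟨T, iT, i, hi, hres⟩ := exists_torus D
  haveI := hi.1; haveI := hi.2.1
  have hP : ∀ (U : S.affineOpens) {X : Scheme.{u}} {f : X ⟶ S} {T' : Over X} {i' : T' ⟶ Red.bc f G}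
      {w : X ⟶ (D U).M}, Cls i f i' (w ≫ ιQ D U) ↔ Cls (D U).i f i' w := by
    intro U X f T' i' w
    constructor
    · rintro ⟨e, s⟩
      have e' : w ≫ gP D U = f := by rw [← ιQ_gQ, ← Category.assoc]; exact e
      exact ⟨e', s.trans ((same_bcTo_bcTo (ιQ D U) (ιQ_gQ D U) w e' rfl e i).symm.trans ((hres U).bcTo w e'))⟩
    · exact fun h => Cls.trans ⟨ιQ_gQ D U, (hres U).symm⟩ h
  -- two classifying maps agree
  have huniq : ∀ {X : Scheme.{u}} (f : X ⟶ S) (T' : Over X) [GrpObj T'] (i' : T' ⟶ Red.bc f G),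
      Red.IsMaximalTorus i' → ∀ v v', Cls i f i' v → Cls i f i' v' → v = v' := by
    intro X f T' _ i' hi' v v' hv hv'
    haveI := hi'.1; haveI := hi'.2.1
    let 𝒰 : X.OpenCover := X.openCoverOfIsOpenCover (fun U : S.affineOpens => f ⁻¹ᵁ U.1) (eq_top_iff.2 fun x _ => by
      obtain ⟨U, hU, hx, -⟩ := exists_isAffineOpen_mem_and_subset (X := S) (x := f x) (U := ⊤) trivial
      exact TopologicalSpace.Opens.mem_iSup.2 ⟨⟨U, hU⟩, hx⟩)
    refine 𝒰.hom_ext _ _ fun (U : S.affineOpens) => ?_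
    show (f ⁻¹ᵁ U.1).ι ≫ v = (f ⁻¹ᵁ U.1).ι ≫ v'
    let o := (f ⁻¹ᵁ U.1).ι
    have hr : Set.range (o ≫ f) ⊆ (U.1 : Set S) := by rintro _ ⟨z, rfl⟩; exact z.2
    have hr' : ∀ w : X ⟶ Q D, w ≫ gQ D = f → Set.range (o ≫ w) ⊆ Set.range (ιQ D U) := by
      intro w hw
      rintro _ ⟨z, rfl⟩
      rw [range_ιQ]
      show ((o ≫ w) ≫ gQ D) z ∈ (U.1 : Set S)
      rw [Category.assoc, hw]
      exact z.2
    have hb : ∀ w, Cls i f i' w → Cls i (o ≫ f) (bcTo o rfl i') (o ≫ w) := fun w hw =>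
      hw.trans (cls_self i' o rfl)
    have e := IsOpenImmersion.lift_fac (ιQ D U) (o ≫ v) (hr' v hv.1)
    have e' := IsOpenImmersion.lift_fac (ιQ D U) (o ≫ v') (hr' v' hv'.1)
    have hmax := isMaximalTorus_bcTo o (rfl : o ≫ f = _) hi'
    have key := ((D U).univ (o ≫ f) hr _ _ hmax).unique
      ((hP U (w := IsOpenImmersion.lift (ιQ D U) (o ≫ v) (hr' v hv.1))).1 (e.symm ▸ hb v hv))
      ((hP U (w := IsOpenImmersion.lift (ιQ D U) (o ≫ v') (hr' v' hv'.1))).1 (e'.symm ▸ hb v' hv'))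
    exact e.symm.trans ((congrArg (· ≫ ιQ D U) key).trans e')
  refine ⟨⟨Over.mk (gQ D), T, iT, i, hi, fun {X} f T' _ i' hi' => ?_, ?_, ?_⟩⟩
  · haveI := hi'.1; haveI := hi'.2.1
    have hex : ∀ U : S.affineOpens, ∃ w, Cls i ((f ⁻¹ᵁ U.1).ι ≫ f) (bcTo (f ⁻¹ᵁ U.1).ι rfl i') w := fun U => by
      obtain ⟨w, hw⟩ := ((D U).univ ((f ⁻¹ᵁ U.1).ι ≫ f) (by rintro _ ⟨z, rfl⟩; exact z.2) _ _
        (isMaximalTorus_bcTo (f ⁻¹ᵁ U.1).ι rfl hi')).exists.imp fun _ h => h
      exact ⟨w ≫ ιQ D U, (hP U).2 hw⟩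
    choose w hw using hex
    let 𝒰 : X.OpenCover := X.openCoverOfIsOpenCover (fun U : S.affineOpens => f ⁻¹ᵁ U.1) (eq_top_iff.2 fun x _ => by
      obtain ⟨U, hU, hx, -⟩ := exists_isAffineOpen_mem_and_subset (X := S) (x := f x) (U := ⊤) trivial
      exact TopologicalSpace.Opens.mem_iSup.2 ⟨⟨U, hU⟩, hx⟩)
    have hcompat : ∀ U V : S.affineOpens, pullback.fst (𝒰.f U) (𝒰.f V) ≫ w U = pullback.snd (𝒰.f U) (𝒰.f V) ≫ w V := by
      intro U V
      let a : pullback (𝒰.f U) (𝒰.f V) ⟶ (f ⁻¹ᵁ U.1 : Scheme.{u}) := pullback.fst (𝒰.f U) (𝒰.f V)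
      let b : pullback (𝒰.f U) (𝒰.f V) ⟶ (f ⁻¹ᵁ V.1 : Scheme.{u}) := pullback.snd (𝒰.f U) (𝒰.f V)
      let o : pullback (𝒰.f U) (𝒰.f V) ⟶ X := a ≫ (f ⁻¹ᵁ U.1).ι
      have hb' : b ≫ (f ⁻¹ᵁ V.1).ι = o := pullback.condition.symm
      have hcl : ∀ (W : S.affineOpens) (t : pullback (𝒰.f U) (𝒰.f V) ⟶ (f ⁻¹ᵁ W.1 : Scheme.{u}))
          (ht : t ≫ (f ⁻¹ᵁ W.1).ι = o), Cls i (o ≫ f) (bcTo o rfl i') (t ≫ w W) := by
        intro W t ht
        have et : t ≫ (f ⁻¹ᵁ W.1).ι ≫ f = o ≫ f := by rw [← Category.assoc, ht]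
        obtain ⟨e, s⟩ := (hw W).trans (cls_self _ t et)
        exact ⟨e, (same_bcTo_bcTo (f ⁻¹ᵁ W.1).ι rfl t et ht rfl i').symm.trans s⟩
      exact huniq (o ≫ f) _ _ (isMaximalTorus_bcTo o rfl hi') _ _ (hcl U a rfl) (hcl V b hb')
    let v := 𝒰.glueMorphisms w hcompat
    have hv : ∀ U : S.affineOpens, (f ⁻¹ᵁ U.1).ι ≫ v = w U := fun U => Scheme.Cover.ι_glueMorphisms 𝒰 w hcompat U
    have hvg : v ≫ gQ D = f := 𝒰.hom_ext _ _ fun U => by
      show (f ⁻¹ᵁ U.1).ι ≫ v ≫ gQ D = (f ⁻¹ᵁ U.1).ι ≫ f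
      rw [← Category.assoc, hv]
      exact (hw U).1
    refine ⟨v, ⟨hvg, ?_⟩, fun v' h' => huniq f T' i' hi' v' v h' ⟨hvg, ?_⟩⟩
    all_goals
      haveI : Mono (bcTo v hvg i) := mono_bcTo v hvg i
      refine same_of_local _ _ fun x => ?_
      obtain ⟨U, hU, hx, -⟩ := exists_isAffineOpen_mem_and_subset (X := S) (x := f x) (U := ⊤) trivial
      obtain ⟨e, s⟩ := hw ⟨U, hU⟩
      exact ⟨f ⁻¹ᵁ U, hx, s.trans (same_bcTo_bcTo v hvg (f ⁻¹ᵁ U).ι rfl (hv ⟨U, hU⟩) e i).symm⟩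
  all_goals
    first
    | (refine IsZariskiLocalAtTarget.of_openCover (P := @Smooth) S.directedAffineCover fun U => ?_
       have H := (gluing D).isPullback_natTrans_ι_toBase U
       show Smooth (pullback.snd (gQ D) (S.directedAffineCover.f U))
       rw [← H.flip.isoPullback_inv_snd]
       exact MorphismProperty.comp_mem @Smooth _ _ inferInstance (D U).smooth)
    | (refine IsZariskiLocalAtTarget.of_openCover (P := @IsAffineHom) S.directedAffineCover fun U => ?_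
       have H := (gluing D).isPullback_natTrans_ι_toBase U
       show IsAffineHom (pullback.snd (gQ D) (S.directedAffineCover.f U))
       rw [← H.flip.isoPullback_inv_snd]
       exact MorphismProperty.comp_mem @IsAffineHom _ _ inferInstance (D U).affine)

end RepOn

/-- **Maximal tori are classified by a smooth affine scheme.** -/
theorem exists_rep (hG : SGA3x.HasMaxTorusFpqcLocally G) : Nonempty (Rep G) :=
  RepOn.exists_rep fun U => (exists_repOn hG U).some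

end Groth.Agent.ToriSch
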