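import Groth.Agent.ToriSchLib.Univ

/-!
# Charts: split maximal tori over affine etale neighbourhoods
-/

set_option autoImplicit false
set_option linter.style.haveILetI false
set_option linter.unusedSectionVars false
set_option backward.isDefEq.respectTransparency false
set_option maxHeartbeats 2000000
set_option synthInstance.maxHeartbeats 400000

noncomputable section

universe u

open CategoryTheory CategoryTheory.Limits MonoidalCategory CartesianMonoidalCategory AlgebraicGeometry CoactBr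
open scoped MonObj

attribute [-instance] CategoryTheory.Hom.commGroup

namespace Groth.Agent.ToriSch

open Groth.Agent.BorelLib
open Groth.Agent.HomRep (GA)
open Groth.Agent.RCentre (incl)

attribute [local instance] CoactBr.braidedAlgSpecOf

variable {S : Scheme.{u}} (G : Over S) [GrpObj G]

/-- A split maximal torus over an affine etale neighbourhood, with coordinates on the group. -/
structure Chart where
  R : Type u
  crR : CommRing R
  g : Spec (CommRingCat.of R) ⟶ S
  et : Etale g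
  r : ℕ
  A : Type u
  crA : CommRing A
  hopf : HopfAlgebra R A
  ft : Algebra.FiniteType R A
  v : sp R A ≅ Red.bc g G
  hv : IsMonHom v.hom
  i : sp R (GA R (Fin r → ℤ)) ⟶ sp R A
  hi : Red.IsMaximalTorus i

attribute [instance] Chart.crR Chart.et Chart.crA Chart.hopf Chart.ft Chart.hv

variable {G}

namespace Chart

variable (c : Chart G)

/-- The torus of the chart. -/
def i₀ : sp c.R (GA c.R (Fin c.r → ℤ)) ⟶ Red.bc c.g G := c.i ≫ c.v.hom

/-- Its points of order dividing `n`. -/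
def j₀ (n : ℕ) : sp c.R (GA c.R ((Fin c.r → ℤ) ⧸ nsub (Fin c.r → ℤ) n)) ⟶ Red.bc c.g G :=
  incl c.R (nsub (Fin c.r → ℤ) n) ≫ c.i₀

theorem isMaximalTorus_i₀ [IsAffineHom G.hom] [Smooth G.hom] : Red.IsMaximalTorus c.i₀ :=
  MaxTorConj.isMaximalTorus_iso c.v c.hi

theorem isTorsion₀ [IsAffineHom G.hom] [Smooth G.hom] (n : ℕ) : IsTorsion c.i₀ (c.j₀ n) n := by
  haveI := c.isMaximalTorus_i₀.1; haveI := c.isMaximalTorus_i₀.2.1
  have h := (isTorsion_incl (R := c.R) (M := Fin c.r → ℤ) n).comp_mono c.i₀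
  rwa [Category.id_comp] at h

theorem mono_j₀ [IsAffineHom G.hom] [Smooth G.hom] (n : ℕ) : IsMonHom (c.j₀ n) ∧ Mono (c.j₀ n) := by
  haveI := c.isMaximalTorus_i₀.1; haveI := c.isMaximalTorus_i₀.2.1
  obtain ⟨h1, -, h3⟩ := RCentre.facts_incl (R := c.R) (nsub (Fin c.r → ℤ) n)
  haveI := h1; haveI := h3
  exact ⟨inferInstanceAs (IsMonHom (incl c.R _ ≫ c.i₀)), inferInstanceAs (Mono (incl c.R _ ≫ c.i₀))⟩

theorem goodPair₀ {n : ℕ} (h : Level c.i n) : GoodPair c.i₀ (c.j₀ n) := by
  haveI := c.hi.1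
  exact (h.goodPair).transport c.v (𝟙 _) (𝟙 _) (Category.id_comp _) (by
    rw [Category.id_comp, Category.assoc]; rfl)

end Chart

/-- Near every point there is a chart. -/
theorem exists_chart [IsAffineHom G.hom] [Smooth G.hom] (h : SGA3x.RedRankLocallyConstant G) (s : S) :
    ∃ c : Chart G, s ∈ Set.range c.g := by
  obtain ⟨R, _, g, r, i, hg, hs, hi⟩ := RCentre.exists_torus_chart G h s
  haveI := hg
  haveI := RedRank.isAffineHom_bc G g
  haveI : IsAffine (Red.bc g G).left := isAffine_of_isAffineHom (Red.bc g G).hom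
  obtain ⟨A, _, _, v, hv, hv'⟩ := HomCorr.exists_hopf (Red.bc g G)
  haveI := hv; haveI := hv'
  haveI : IsMonHom v.symm.hom := hv'
  haveI : Smooth (Red.bc g G).hom := MorphismProperty.pullback_snd (P := @Smooth) _ _ inferInstance
  haveI : IsIso v.hom.left := (Over.forget _).map_isIso v.hom
  haveI : Algebra.FiniteType R A := by
    have h : LocallyOfFiniteType (sp R A).hom := by rw [← Over.w v.hom]; infer_instance
    change LocallyOfFiniteType (Spec.map (CommRingCat.ofHom (algebraMap R A))) at h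
    rwa [HasRingHomProperty.Spec_iff (P := @LocallyOfFiniteType), CommRingCat.hom_ofHom,
      RingHom.finiteType_algebraMap] at h
  exact ⟨⟨R, inferInstance, g, hg, r, A, inferInstance, inferInstance, inferInstance, v, hv, i ≫ v.inv,
    MaxTorConj.isMaximalTorus_iso v.symm hi⟩, hs⟩

/-- Finitely many charts cover a quasi-compact base, with a common level. -/
theorem exists_charts [IsAffineHom G.hom] [Smooth G.hom] [CompactSpace S] (h : SGA3x.RedRankLocallyConstant G) :
    ∃ (σ : Type u) (_ : Finite σ) (c : σ → Chart G) (n : ℕ), 0 < n ∧ (∀ l, Level (c l).i n) ∧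
      ∀ s : S, ∃ l, s ∈ Set.range (c l).g := by
  classical
  choose c hc using exists_chart h
  obtain ⟨t, ht⟩ := isCompact_univ.elim_finite_subcover (fun s : S => Set.range (c s).g)
    (fun s => (c s).g.isOpenMap.isOpen_range) fun s _ => Set.mem_iUnion.2 ⟨s, hc s⟩
  choose ns hns using fun s : S => exists_level (c s).i
  have hpos : 0 < ∏ s ∈ t, ns s := Finset.prod_pos fun s _ => (hns s).pos
  refine ⟨{s // s ∈ t}, inferInstance, fun l => c l.1, ∏ s ∈ t, ns s, hpos,
    fun l => (hns l.1).of_dvd (Finset.dvd_prod_of_mem ns l.2) hpos, fun s => ?_⟩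
  obtain ⟨i, hi, hs⟩ := Set.mem_iUnion₂.1 (ht (Set.mem_univ s))
  exact ⟨⟨i, hi⟩, hs⟩

/-- **Torsion of any maximal torus sees the torus.** -/
theorem goodPair_of_torsion [IsAffineHom G.hom] [Smooth G.hom] {σ : Type u} {c : σ → Chart G} {n : ℕ}
    (hL : ∀ l, Level (c l).i n) (hcov : ∀ s : S, ∃ l, s ∈ Set.range (c l).g) {Y : Scheme.{u}} {y : Y ⟶ S}
    {T K : Over Y} [GrpObj T] [GrpObj K] {i : T ⟶ Red.bc y G} (hi : Red.IsMaximalTorus i) {j : K ⟶ Red.bc y G} [Mono j]
    (ht : IsTorsion i j n) : GoodPair i j := by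
  refine GoodPair.of_family (P := fun l => pullback y (c l).g) (fun l => pullback.fst y (c l).g)
    (fun l => MorphismProperty.pullback_fst (P := @Flat) _ _ inferInstance) (fun z => ?_) fun l => ?_
  · obtain ⟨l, r, hr⟩ := hcov (y z)
    obtain ⟨w, hw, -⟩ := Scheme.Pullback.exists_preimage_pullback (f := y) (g := (c l).g) z r hr.symm
    exact ⟨l, w, hw⟩
  let p1 := pullback.fst y (c l).g
  let p2 := pullback.snd y (c l).g
  let d := p1 ≫ y
  have h2 : p2 ≫ (c l).g = d := pullback.condition.symm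
  let i₁ := bcTo (G := G) p1 rfl i
  let j₁ := bcTo (G := G) p1 rfl j
  let i₂ := bcTo p2 h2 (c l).i₀
  let j₂ := bcTo p2 h2 ((c l).j₀ n)
  suffices hmain : GoodPair i₁ j₁ by
    haveI : IsMonHom (ActBC.bcCompIso p1 y G rfl).hom := ActBC.bcCompIso_isMonHom _ _ _
    haveI : IsMonHom (ActBC.bcCompIso p1 y G rfl).symm.hom :=
      inferInstanceAs (IsMonHom (ActBC.bcCompIso p1 y G rfl).inv)
    exact hmain.transport (ActBC.bcCompIso p1 y G rfl).symm (𝟙 _) (𝟙 _) (by simp [i₁, bcTo, p1])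
      (by simp [j₁, bcTo, p1])
  haveI : Smooth (Red.bc d G).hom := MorphismProperty.pullback_snd (P := @Smooth) _ _ inferInstance
  haveI := RedRank.isAffineHom_bc G d
  haveI := hi.1; haveI := hi.2.1
  haveI := (c l).isMaximalTorus_i₀.1; haveI := (c l).isMaximalTorus_i₀.2.1
  have m₁ : Red.IsMaximalTorus i₁ := isMaximalTorus_bcTo p1 rfl hi
  have m₂ : Red.IsMaximalTorus i₂ := isMaximalTorus_bcTo p2 h2 (c l).isMaximalTorus_i₀
  obtain ⟨P', q, hq, hqs, g', hg'⟩ := MaxTorConj.exists_conj_etale i₁ i₂ m₁ m₂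
  haveI := hq; haveI := hqs
  refine GoodPair.of_cover q (GoodPair.of_conj (g := g') ?_)
  let F := Over.pullback q
  haveI : Mono j₁ := mono_bcTo p1 rfl j
  haveI := ((c l).mono_j₀ n).2
  haveI : Mono j₂ := mono_bcTo p2 h2 _
  haveI : Mono (F.map j₁) := mono_bc q j₁
  haveI : Mono (F.map j₂) := mono_bc q j₂
  haveI := DiagRep.isIso_conjBy g'
  haveI : Mono (AGF.conjBy g' (F.map j₁)) := by rw [DiagRep.conjBy_eq_comp]; infer_instance
  have hs : Same (AGF.conjBy g' (F.map i₁)) (F.map i₂) := conjBy_iff_same.1 hg'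
  have t₁ : IsTorsion (AGF.conjBy g' (F.map i₁)) (AGF.conjBy g' (F.map j₁)) n := ((ht.bcTo p1 rfl).bc q).conj g'
  have t₂ : IsTorsion (AGF.conjBy g' (F.map i₁)) (F.map j₂) n :=
    Same.isTorsion ((((c l).isTorsion₀ n).bcTo p2 h2).bc q) hs (Same.refl _)
  exact Same.goodPair ((((c l).goodPair₀ (hL l)).bcTo p2 h2).bc q) hs (same_of_isTorsion t₁ t₂)

/-- The point `m` of `M` is the torsion of a maximal torus. -/
def Toral (D : Univ G) (n : ℕ) {X : Scheme.{u}} (m : X ⟶ D.M.left) {f : X ⟶ S} (h : m ≫ D.M.hom = f) : Prop :=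
  ∃ (T : Over X) (_ : GrpObj T) (i : T ⟶ Red.bc f G), Red.IsMaximalTorus i ∧ IsTorsion i (bcTo m h D.j) n

theorem Toral.comp [IsAffineHom G.hom] [Smooth G.hom] {D : Univ G} {n : ℕ} {X X' : Scheme.{u}} {m : X ⟶ D.M.left}
    {f : X ⟶ S} {h : m ≫ D.M.hom = f} (ht : Toral D n m h) (t : X' ⟶ X) {m' : X' ⟶ D.M.left} (hm : t ≫ m = m')
    {f' : X' ⟶ S} (h' : m' ≫ D.M.hom = f') : Toral D n m' h' := by
  obtain ⟨T, _, i, hi, hti⟩ := ht
  haveI := hi.1; haveI := hi.2.1
  have e : t ≫ f = f' := by rw [← h, ← Category.assoc, hm, h']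
  exact ⟨Red.bc t T, inferInstance, bcTo t e i, isMaximalTorus_bcTo t e hi,
    Same.isTorsion (hti.bcTo t e) (Same.refl _) (same_bcTo_bcTo m h t e hm h' D.j).symm⟩

end Groth.Agent.ToriSch
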