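import Groth.Agent.ToriSchLib.Locus
import Groth.Agent.PowEtCentralLib.Split
import Groth.Agent.TorusFieldLib.Scheme

/-!
# The toral locus is stable under specialization
-/

set_option autoImplicit false
set_option linter.style.haveILetI false
set_option linter.unusedSectionVars false
set_option backward.isDefEq.respectTransparency false
set_option maxHeartbeats 2000000
set_option synthInstance.maxHeartbeats 400000

noncomputable section

universe u

open CategoryTheory CategoryTheory.Limits MonoidalCategory CartesianMonoidalCategory AlgebraicGeometry CoactBr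
open scoped MonObj

attribute [-instance] CategoryTheory.Hom.commGroup

namespace Groth.Agent.ToriSch

open Groth.Agent.BorelLib
open Groth.Agent.HomRep (GA cmap Cmp)

attribute [local instance] CoactBr.braidedAlgSpecOf

variable {S : Scheme.{u}} {G : Over S} [GrpObj G]

/-- The coordinates of the chart over a further base. -/
def Chart.e (c : Chart G) {Z : Scheme.{u}} (q : Z ⟶ Spec (CommRingCat.of c.R)) :
    Red.bc q (sp c.R c.A) ≅ Red.bc (q ≫ c.g) G :=
  (Over.pullback q).mapIso c.v ≪≫ ActBC.bcCompIso q c.g G rfl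

theorem Chart.isMonHom_e (c : Chart G) {Z : Scheme.{u}} (q : Z ⟶ Spec (CommRingCat.of c.R)) :
    IsMonHom (c.e q).hom := by
  haveI : IsMonHom (M := Red.bc q (sp c.R c.A)) (N := Red.bc q (Red.bc c.g G)) ((Over.pullback q).map c.v.hom) :=
    DiagRep.isMonHom_bc_map q c.v.hom
  haveI : IsMonHom (ActBC.bcCompIso q c.g G rfl).hom := ActBC.bcCompIso_isMonHom _ _ _
  exact inferInstanceAs (IsMonHom ((Over.pullback q).map c.v.hom ≫ (ActBC.bcCompIso q c.g G rfl).hom))

theorem Chart.bcTo_e (c : Chart G) {Z Z' : Scheme.{u}} {q : Z ⟶ Spec (CommRingCat.of c.R)}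
    {q' : Z' ⟶ Spec (CommRingCat.of c.R)} (p : Z' ⟶ Z) (h : p ≫ q = q') (h' : p ≫ q ≫ c.g = q' ≫ c.g)
    {T : Over Z} (a : T ⟶ Red.bc q (sp c.R c.A)) :
    bcTo p h' (a ≫ (c.e q).hom) = bcTo p h a ≫ (c.e q').hom := by
  have he : ∀ {W : Scheme.{u}} (w : W ⟶ Spec (CommRingCat.of c.R)),
      (c.e w).hom.left ≫ pullback.fst G.hom (w ≫ c.g) =
        pullback.fst (sp c.R c.A).hom w ≫ c.v.hom.left ≫ pullback.fst G.hom c.g := fun w => by
    show (((Over.pullback w).map c.v.hom) ≫ (ActBC.bcCompIso w c.g G rfl).hom).left ≫ _ = _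
    rw [Over.comp_left, Category.assoc, ActBC.bcCompIso_hom_left_fst, ActBC.pullback_map_left_fst_assoc]
  refine bc_ext ?_
  rw [bcTo_left_fst, Over.comp_left, Category.assoc, he, Over.comp_left, Category.assoc, he,
    ← Category.assoc ((bcTo p h a).left), bcTo_left_fst]
  simp only [Category.assoc]

theorem Chart.bcTo_i₀ (c : Chart G) {Z : Scheme.{u}} (q : Z ⟶ Spec (CommRingCat.of c.R)) :
    bcTo q rfl c.i₀ = (Over.pullback q).map c.i ≫ (c.e q).hom := by
  show (Over.pullback q).map (c.i ≫ c.v.hom) ≫ _ = _ ≫ (Over.pullback q).map c.v.hom ≫ _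
  rw [Functor.map_comp, Category.assoc]

variable [IsAffineHom G.hom] [Smooth G.hom]

/-- Near a point of `M` over the chart the universal subgroup splits over an affine scheme through which all
generalizations lift. -/
theorem exists_split_chart (D : Univ G) (c : Chart G) {m' m : D.M.left} (hsp : m' ⤳ m)
    {r₀ : Spec (CommRingCat.of c.R)} (hr₀ : c.g r₀ = D.M.hom m) :
    ∃ (B : Type u) (_ : CommRing B) (_ : Algebra c.R B) (bM : Spec (CommRingCat.of B) ⟶ D.M.left)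
      (hbM : bM ≫ D.M.hom = (sp c.R B).hom ≫ c.g) (P' P : PrimeSpectrum B) (N : Type) (_ : AddCommGroup N)
      (ψA : c.A →ₐ[c.R] GA B N), P'.asIdeal ≤ P.asIdeal ∧ bM P' = m' ∧ bM P = m ∧ Cmp ψA ∧
        Same (fhom ψA ≫ (c.e (sp c.R B).hom).hom) (bcTo bM hbM D.j) := by
  let R := c.R
  let Y := pullback D.M.hom c.g
  let p1 : Y ⟶ D.M.left := pullback.fst D.M.hom c.g
  let p2 : Y ⟶ Spec (CommRingCat.of c.R) := pullback.snd D.M.hom c.g
  have h2 : p1 ≫ D.M.hom = p2 ≫ c.g := pullback.condition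
  obtain ⟨y, hy, -⟩ := Scheme.Pullback.exists_preimage_pullback (f := D.M.hom) (g := c.g) m r₀ hr₀.symm
  haveI : Flat p1 := MorphismProperty.pullback_fst (P := @Flat) _ _ inferInstance
  obtain ⟨y', hy'sp, hy'⟩ := Flat.generalizingMap p1 (show m' ⤳ p1 y by rw [hy]; exact hsp)
  let KY : Over Y := Red.bc p1 D.K
  haveI : IsFinite KY.hom := isFinite_bc p1 D.fin
  obtain ⟨T, N, iN, hNfin, hTfin, hTet, hTy, ψ, hψm, hψi⟩ :=
    PowEtCentralLib.exists_split_piece (DescHom.isMultTypeFT_bc D.mult p1 : SGA3x.IsMultTypeFT KY) y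
  letI := iN; haveI := hψm; haveI := hψi; haveI := hTet
  obtain ⟨p, hp⟩ := hTy
  haveI : Flat T.hom := inferInstance
  obtain ⟨p', hp'sp, hp'⟩ := Flat.generalizingMap T.hom (show y' ⤳ T.hom p by rw [hp]; exact hy'sp)
  obtain ⟨Wa, hWa, hpWa, -⟩ := exists_isAffineOpen_mem_and_subset (X := T.left) (x := p) (U := ⊤) trivial
  obtain ⟨P, hP⟩ : p ∈ Set.range hWa.fromSpec := by rw [hWa.range_fromSpec]; exact hpWa
  obtain ⟨P', hP'⟩ : p' ∈ Set.range hWa.fromSpec := by
    rw [hWa.range_fromSpec]; exact hp'sp.mem_open Wa.isOpen hpWa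
  have hPP : P'.asIdeal ≤ P.asIdeal := by
    refine (PrimeSpectrum.le_iff_specializes P' P).2 ?_
    refine hWa.fromSpec.isOpenEmbedding.isInducing.specializes_iff.1 ?_
    rw [show hWa.fromSpec P' = p' from hP', show hWa.fromSpec P = p from hP]
    exact hp'sp
  let B : CommRingCat.{u} := Γ(T.left, Wa)
  let b : Spec B ⟶ Y := hWa.fromSpec ≫ T.hom
  letI algB : Algebra R B := (Spec.preimage (b ≫ p2)).hom.toAlgebra
  let β : Spec (CommRingCat.of B) ⟶ Spec (CommRingCat.of R) := (sp R B).hom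
  have hβ : β = b ≫ p2 := Spec.map_preimage (b ≫ p2)
  have hbM : (b ≫ p1) ≫ D.M.hom = β ≫ c.g := by simp only [hβ, b, Category.assoc, h2]
  -- the subgroup over the piece as a homomorphism from a split group
  obtain ⟨w, hw, -⟩ := TorusField.exists_DS_iso R N
  obtain ⟨e₁, he₁⟩ := RedCharZeroLib.exists_DS_bc β (S' := Spec (CommRingCat.of R)) N
  obtain ⟨e₂, he₂⟩ := RedCharZeroLib.exists_DS_bc b (S' := Y) N
  let e₃ : Red.bc hWa.fromSpec (Red.bc T.hom (Red.DS Y N)) ≅ Red.bc b (Red.DS Y N) :=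
    ActBC.bcCompIso hWa.fromSpec T.hom _ rfl
  haveI : IsMonHom e₃.hom := ActBC.bcCompIso_isMonHom _ _ _
  haveI := hw; haveI := he₁; haveI := he₂
  haveI : IsMonHom (M := Red.bc β (sp R (GA R N))) (N := Red.bc β (Red.DS (Spec (CommRingCat.of R)) N))
      ((Over.pullback β).map w.hom) := DiagRep.isMonHom_bc_map β w.hom
  haveI : IsMonHom e₁.inv := inferInstance
  haveI : IsMonHom e₃.inv := inferInstance
  haveI : IsMonHom (M := Red.bc hWa.fromSpec (Red.bc T.hom (Red.DS Y N)))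
      (N := Red.bc hWa.fromSpec (Red.bc T.hom KY)) ((Over.pullback hWa.fromSpec).map ψ) :=
    DiagRep.isMonHom_bc_map hWa.fromSpec ψ
  let jY := bcTo (G := G) p1 (rfl : p1 ≫ D.M.hom = p1 ≫ D.M.hom) D.j
  let jT := bcTo (G := G) T.hom (rfl : T.hom ≫ p1 ≫ D.M.hom = _) jY
  have hd : hWa.fromSpec ≫ T.hom ≫ p1 ≫ D.M.hom = β ≫ c.g := by
    rw [← hbM]; simp [b, Category.assoc]
  haveI : IsMonHom jY := isMonHom_bcTo p1 rfl D.j
  haveI : Mono jY := mono_bcTo p1 rfl D.j
  haveI : IsMonHom jT := isMonHom_bcTo T.hom rfl jY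
  haveI : Mono jT := mono_bcTo T.hom rfl jY
  let jB := bcTo hWa.fromSpec hd jT
  haveI : IsMonHom jB := isMonHom_bcTo hWa.fromSpec hd jT
  haveI : Mono jB := mono_bcTo hWa.fromSpec hd jT
  let chain : Red.bc β (sp R (GA R N)) ≅ Red.bc hWa.fromSpec (Red.bc T.hom KY) :=
    (Over.pullback β).mapIso w ≪≫ e₁.symm ≪≫ e₂ ≪≫ e₃.symm ≪≫ (Over.pullback hWa.fromSpec).mapIso (asIso ψ)
  haveI : IsMonHom chain.hom := inferInstanceAs (IsMonHom ((Over.pullback β).map w.hom ≫ e₁.inv ≫ e₂.hom ≫ e₃.inv ≫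
    (Over.pullback hWa.fromSpec).map ψ))
  haveI : IsMonHom (c.e β).hom := c.isMonHom_e β
  haveI : IsMonHom (c.e β).inv := inferInstance
  let u₁ := chain.hom ≫ jB ≫ (c.e β).inv
  haveI : IsMonHom u₁ := inferInstanceAs (IsMonHom (chain.hom ≫ jB ≫ (c.e β).inv))
  obtain ⟨ψA, hψA, hfh⟩ := exists_fhom u₁
  have hB : Same (fhom ψA ≫ (c.e β).hom) (bcTo (b ≫ p1) hbM D.j) := by
    rw [hfh, show u₁ ≫ (c.e β).hom = chain.hom ≫ jB by simp [u₁]]
    refine Same.trans ⟨chain, rfl⟩ ?_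
    refine (Same.bcTo (same_bcTo_bcTo p1 rfl T.hom rfl rfl (Category.assoc _ _ _) D.j) hWa.fromSpec hd).trans ?_
    exact same_bcTo_bcTo (T.hom ≫ p1) (Category.assoc _ _ _) hWa.fromSpec hd (Category.assoc _ _ _).symm hbM D.j
  refine ⟨B, inferInstance, algB, b ≫ p1, hbM, P', P, N, iN, ψA, hPP, ?_, ?_, hψA, hB⟩
  · exact (congrArg p1 ((congrArg T.hom hP').trans hp')).trans hy'
  · exact (congrArg p1 ((congrArg T.hom hP).trans hp)).trans hy

/-- A valuation ring with a prescribed generic point and a prescribed centre. -/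
theorem exists_valuation_pts (R : Type u) [CommRing R] {B : Type u} [CommRing B] [Algebra R B]
    {P' P : PrimeSpectrum B} (hPP : P'.asIdeal ≤ P.asIdeal) :
    ∃ (V : Type u) (_ : CommRing V) (_ : Algebra R V) (Ω : Type u) (_ : Field Ω) (_ : IsAlgClosed Ω) (_ : Algebra R Ω)
      (k : Type u) (_ : Field k) (_ : IsAlgClosed k) (_ : Algebra R k) (ρV : B →ₐ[R] V) (jV : V →ₐ[R] Ω)
      (e : V →ₐ[R] k), Function.Injective jV ∧ (∀ a, jV (ρV a) = 0 ↔ a ∈ P'.asIdeal) ∧
        ∀ a, e (ρV a) = 0 ↔ a ∈ P.asIdeal := by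
  let Ω := AlgebraicClosure P'.asIdeal.ResidueField
  let f0 : B →+* Ω := (algebraMap P'.asIdeal.ResidueField Ω).comp (algebraMap B P'.asIdeal.ResidueField)
  have hker : ∀ a, f0 a = 0 ↔ a ∈ P'.asIdeal := fun a => by
    show (algebraMap P'.asIdeal.ResidueField Ω) _ = 0 ↔ _
    rw [map_eq_zero, ← RingHom.mem_ker, Ideal.ker_algebraMap_residueField]
  have hunit : ∀ s : P.asIdeal.primeCompl, IsUnit (f0 s) := fun s =>
    isUnit_iff_ne_zero.2 fun h => s.2 (hPP ((hker _).1 h))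
  let f : Localization.AtPrime P.asIdeal →+* Ω := IsLocalization.lift hunit
  obtain ⟨V, hV, hloc⟩ := IsLocalRing.exists_factor_valuationRing f
  let eV : B →+* V := (f.codRestrict V.toSubring hV).comp (algebraMap B (Localization.AtPrime P.asIdeal))
  let k := AlgebraicClosure (IsLocalRing.ResidueField V)
  let eK : V →+* k := (algebraMap (IsLocalRing.ResidueField V) k).comp (IsLocalRing.residue V)
  letI : Algebra R V := (eV.comp (algebraMap R B)).toAlgebra
  letI : Algebra R Ω := (V.subtype.comp (eV.comp (algebraMap R B))).toAlgebra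
  letI : Algebra R k := (eK.comp (eV.comp (algebraMap R B))).toAlgebra
  let ρV : B →ₐ[R] V := { eV with commutes' := fun _ => rfl }
  let jV : V →ₐ[R] Ω := { V.subtype with commutes' := fun _ => rfl }
  let e : V →ₐ[R] k := { eK with commutes' := fun _ => rfl }
  have hΩ : ∀ a, jV (ρV a) = f0 a := fun a => IsLocalization.lift_eq hunit a
  have hk : ∀ a, e (ρV a) = 0 ↔ a ∈ P.asIdeal := fun a => by
    show (algebraMap (IsLocalRing.ResidueField V) k) (IsLocalRing.residue V (eV a)) = 0 ↔ _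
    rw [map_eq_zero, IsLocalRing.residue_eq_zero_iff, IsLocalRing.mem_maximalIdeal, mem_nonunits_iff]
    haveI : IsLocalHom (f.codRestrict V.toSubring hV) := hloc
    rw [show eV a = f.codRestrict V.toSubring hV (algebraMap B _ a) from rfl]
    rw [isUnit_map_iff (f.codRestrict V.toSubring hV), IsLocalization.AtPrime.isUnit_to_map_iff _ P.asIdeal]
    exact not_not
  exact ⟨V, inferInstance, inferInstance, Ω, inferInstance, inferInstance, inferInstance, k, inferInstance, inferInstance,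
    inferInstance, ρV, jV, e, Subtype.coe_injective, fun a => by rw [hΩ]; exact hker a, hk⟩

/-- The image of the point of a map to a field. -/
theorem pt_left_closedPoint {R : Type u} [CommRing R] {B : Type u} [CommRing B] [Algebra R B] {K : Type u} [Field K]
    [Algebra R K] (ρ : B →ₐ[R] K) (Q : PrimeSpectrum B) (h : ∀ a, ρ a = 0 ↔ a ∈ Q.asIdeal) :
    (pt ρ).left (IsLocalRing.closedPoint K) = Q := by
  refine PrimeSpectrum.ext (Ideal.ext fun a => ?_)
  show ρ a ∈ IsLocalRing.maximalIdeal K ↔ _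
  rw [IsLocalRing.maximalIdeal_eq_bot, Ideal.mem_bot]
  exact h a

/-- The universal subgroup at a field valued point of a split piece. -/
theorem same_pts (D : Univ G) (c : Chart G) {B : Type u} [CommRing B] [Algebra c.R B]
    {bM : Spec (CommRingCat.of B) ⟶ D.M.left} {hbM : bM ≫ D.M.hom = (sp c.R B).hom ≫ c.g} {N : Type} [AddCommGroup N]
    {ψA : c.A →ₐ[c.R] GA B N} (hB : Same (fhom ψA ≫ (c.e (sp c.R B).hom).hom) (bcTo bM hbM D.j))
    {K : Type u} [Field K] [Algebra c.R K] (ρ : B →ₐ[c.R] K) :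
    ∃ h : ((pt ρ).left ≫ bM) ≫ D.M.hom = (sp c.R K).hom ≫ c.g,
      Same (fhom ((cmap ρ).comp ψA) ≫ (c.e (sp c.R K).hom).hom) (bcTo ((pt ρ).left ≫ bM) h D.j) ∧
        Mono (fhom ((cmap ρ).comp ψA)) := by
  have hz : (pt ρ).left ≫ (sp c.R B).hom = (sp c.R K).hom := Over.w (pt ρ)
  have hz' : (pt ρ).left ≫ (sp c.R B).hom ≫ c.g = (sp c.R K).hom ≫ c.g := by rw [← Category.assoc, hz]
  have h : ((pt ρ).left ≫ bM) ≫ D.M.hom = (sp c.R K).hom ≫ c.g := by rw [Category.assoc, hbM, hz']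
  have hs : Same (fhom ((cmap ρ).comp ψA) ≫ (c.e (sp c.R K).hom).hom) (bcTo ((pt ρ).left ≫ bM) h D.j) := by
    refine (Same.trans ?_ (hB.bcTo (pt ρ).left hz')).trans (same_bcTo_bcTo bM hbM _ hz' rfl h D.j)
    rw [c.bcTo_e (pt ρ).left hz hz' (fhom ψA), bcTo_fhom, Category.assoc]
    exact Same.symm ⟨ActBC.bcCompIso (pt ρ).left (sp c.R B).hom (sp c.R (GA c.R N)) hz, rfl⟩
  haveI := (D.pulled_facts _ h).2.1
  haveI := hs.mono
  exact ⟨h, hs, mono_of_mono _ (c.e (sp c.R K).hom).hom⟩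

/-- **Toral torsion specializes to toral torsion.** -/
theorem Setup.stableUnderSpecialization (E : Setup G) : StableUnderSpecialization (E.U : Set E.D.M.left) := by
  intro m' m hsp hm'
  obtain ⟨l, r₀, hr₀⟩ := E.hcov (E.D.M.hom m)
  let c := E.c l
  obtain ⟨B, _, _, bM, hbM, P', P, N, _, ψA, hPP, hb', hb, hψA, hB⟩ := exists_split_chart E.D c hsp hr₀
  obtain ⟨V, _, _, Ω, _, _, _, k, _, _, _, ρV, jV, e, hjV, hkΩ, hkk⟩ := exists_valuation_pts c.R hPP
  obtain ⟨hqΩ, hsΩ, hmΩ⟩ := same_pts E.D c hB (jV.comp ρV)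
  obtain ⟨hqk, hsk, hmk⟩ := same_pts E.D c hB (e.comp ρV)
  have hgen : ((pt (jV.comp ρV)).left ≫ bM) (IsLocalRing.closedPoint Ω) = m' := by
    erw [Scheme.Hom.comp_apply, pt_left_closedPoint _ P' hkΩ, hb']
  have hspc : ((pt (e.comp ρV)).left ≫ bM) (IsLocalRing.closedPoint k) = m := by
    erw [Scheme.Hom.comp_apply, pt_left_closedPoint _ P hkk, hb]
  obtain ⟨T', _, i', hi', ht'⟩ := (E.mem_U_iff _ hqΩ).1 (hgen.symm ▸ hm')
  haveI := hi'.1; haveI := hi'.2.1
  haveI : Smooth (Red.bc ((sp c.R Ω).hom ≫ c.g) G).hom := MorphismProperty.pullback_snd (P := @Smooth) _ _ inferInstance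
  haveI := RedRank.isAffineHom_bc G ((sp c.R Ω).hom ≫ c.g)
  haveI : IsAffine (sp c.R Ω).left := inferInstanceAs (IsAffine (Spec (CommRingCat.of Ω)))
  haveI : IsAffine (Red.bc ((sp c.R Ω).hom ≫ c.g) G).left :=
    isAffine_of_isAffineHom (Red.bc ((sp c.R Ω).hom ≫ c.g) G).hom
  have hi₂ := isMaximalTorus_bcTo (sp c.R Ω).hom rfl c.isMaximalTorus_i₀
  haveI := hi₂.1; haveI := hi₂.2.1
  obtain ⟨g, φ, hφ⟩ := MaxTorusRank.exists_conj (K := Ω) (MaxTorusRank.isMaxTorus_of_isMaximalTorus hi₂)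
    (MaxTorusRank.isMaxTorus_of_isMaximalTorus hi')
  haveI := c.isMonHom_e (sp c.R Ω).hom
  haveI : IsMonHom (c.e (sp c.R Ω).hom).symm.hom := inferInstanceAs (IsMonHom (c.e (sp c.R Ω).hom).inv)
  have hcm : ∀ {K : Type u} [Field K] [Algebra c.R K] (σ : V →ₐ[c.R] K),
      (cmap σ).comp ((cmap ρV).comp ψA) = (cmap (σ.comp ρV)).comp ψA := fun σ => by
    rw [← AlgHom.comp_assoc, HomRep.cmap_comp]
  have t₁ : IsTorsion (AGF.conjBy g (bcTo (sp c.R Ω).hom rfl c.i₀))
      (fhom ((cmap jV).comp ((cmap ρV).comp ψA)) ≫ (c.e (sp c.R Ω).hom).hom) E.n :=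
    Same.isTorsion ht' ⟨φ, hφ⟩ (by rw [hcm]; exact hsΩ)
  have t₂ := t₁.transport (c.e (sp c.R Ω).hom).symm (Iso.refl _) (Iso.refl _) rfl rfl
  simp only [Iso.refl_hom, Category.id_comp, Iso.symm_hom, DiagRep.conjBy_comp_hom, c.bcTo_i₀, Category.assoc,
    Iso.hom_inv_id, Category.comp_id] at t₂
  haveI : IsAffineHom (sp c.R c.A).hom :=
    inferInstanceAs (IsAffineHom (Spec.map (CommRingCat.ofHom (algebraMap c.R c.A))))
  haveI : Smooth (sp c.R c.A).hom := by
    haveI : IsIso c.v.hom.left := (Over.forget _).map_isIso c.v.hom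
    haveI : Smooth (Red.bc c.g G).hom := MorphismProperty.pullback_snd (P := @Smooth) _ _ inferInstance
    rw [← Over.w c.v.hom]; infer_instance
  obtain ⟨g', hg'⟩ := exists_torsion_special c.hi (E.hL l) jV hjV e (hψA.map ρV)
    (by rw [hcm]; exact hmΩ) (by rw [hcm]; exact hmk) _ t₂
  rw [← hspc]
  refine (E.mem_U_iff _ hqk).2 ?_
  haveI := c.isMonHom_e (sp c.R k).hom
  have t₃ := hg'.transport (c.e (sp c.R k).hom) (Iso.refl _) (Iso.refl _) rfl rfl
  simp only [Iso.refl_hom, Category.id_comp, DiagRep.conjBy_comp_hom, ← c.bcTo_i₀, hcm] at t₃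
  have hi₃ := isMaximalTorus_bcTo (sp c.R k).hom rfl c.isMaximalTorus_i₀
  haveI := hi₃.1; haveI := hi₃.2.1
  haveI := isMonHom_conjIso (g' ≫ (c.e (sp c.R k).hom).hom)
  have h1 := MaxTorConj.isMaximalTorus_iso (conjIso (g' ≫ (c.e (sp c.R k).hom).hom)) hi₃
  rw [show bcTo (sp c.R k).hom rfl c.i₀ ≫ (conjIso (g' ≫ (c.e (sp c.R k).hom).hom)).hom =
    AGF.conjBy (g' ≫ (c.e (sp c.R k).hom).hom) (bcTo (sp c.R k).hom rfl c.i₀) from
    (DiagRep.conjBy_eq_comp _ _).symm] at h1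
  exact ⟨_, inferInstance, _, h1, Same.isTorsion t₃ (Same.refl _) hsk.symm⟩

end Groth.Agent.ToriSch
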