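import Groth.Agent.HomRepLib.Bridge
import Groth.Agent.RedRankLib.Fam
import Groth.Agent.MultTorusLib.Diag

/-!
# Homomorphisms out of split groups as compatible algebra maps

A homomorphism over `T` from a diagonalisable group to an affine group is a compatible algebra map; we record how
characters act on it and when it is a monomorphism.
-/

set_option autoImplicit false
set_option linter.style.haveILetI false
set_option linter.unusedSectionVars false
set_option backward.isDefEq.respectTransparency false
set_option maxHeartbeats 2000000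
set_option synthInstance.maxHeartbeats 400000

noncomputable section

universe u

open CategoryTheory CategoryTheory.Limits MonoidalCategory CartesianMonoidalCategory AlgebraicGeometry CoactBr
open Opposite
open scoped MonObj TensorProduct
open WithConv (toConv ofConv)

attribute [-instance] CategoryTheory.Hom.commGroup

namespace Groth.Agent.ToriSch

open Groth.Agent.HomRep (GA cf ext_cf mapChr cmap chr str jH fam jH_fam Cmp)
open Groth.Agent.RedRank (homOf isMonHom_homOf comp_homOf proj pobj piso bcEquiv_lift exists_homOf_eq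
  isHomFamily_of_isMonHom)

attribute [local instance] CoactBr.braidedAlgSpecOf

variable {R : Type u} [CommRing R] {A : Type u} [CommRing A] [HopfAlgebra R A]
  {M N : Type} [AddCommGroup M] [AddCommGroup N] {T : Type u} [CommRing T] [Algebra R T]

/-- The homomorphism over `T` of an algebra map. -/
def fhom (φ : A →ₐ[R] GA T M) : Red.bc (sp R T).hom (sp R (GA R M)) ⟶ Red.bc (sp R T).hom (sp R A) :=
  homOf (fam φ)

theorem isMonHom_fhom {φ : A →ₐ[R] GA T M} (h : Cmp φ) : IsMonHom (fhom φ) :=
  isMonHom_homOf (φ := fam φ) (HomRep.isHomFamily_fam h)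

theorem exists_fhom (u : Red.bc (sp R T).hom (sp R (GA R M)) ⟶ Red.bc (sp R T).hom (sp R A)) [IsMonHom u] :
    ∃ φ : A →ₐ[R] GA T M, Cmp φ ∧ fhom φ = u := by
  obtain ⟨ψ, hψ⟩ := exists_homOf_eq u
  obtain ⟨φ, rfl⟩ := HomRep.exists_fam ψ
  haveI : IsMonHom (homOf (fam φ)) := by rw [hψ]; infer_instance
  exact ⟨φ, HomRep.cmp_of_isHomFamily (isHomFamily_of_isMonHom (fam φ)), hψ⟩

theorem homOf_injective {S : Scheme.{u}} {H G P : Over S} [GrpObj H] [GrpObj G] {φ ψ : H ⊗ P ⟶ G}
    (h : homOf φ = homOf ψ) : φ = ψ := by
  have h1 := bcEquiv_lift φ (fst H P) (snd H P)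
  rw [h, ← bcEquiv_lift ψ (fst H P) (snd H P)] at h1
  simpa using (HomRep.bcEquiv P.hom G _).injective h1

theorem fhom_injective {φ ψ : A →ₐ[R] GA T M} (h : fhom φ = fhom ψ) : φ = ψ :=
  HomRep.fam_injective (homOf_injective h)

theorem map_homOf {S : Scheme.{u}} {H H' G P : Over S} [GrpObj H] [GrpObj H'] [GrpObj G] (u : H' ⟶ H)
    (φ : H ⊗ P ⟶ G) : (Over.pullback P.hom).map u ≫ homOf φ = homOf ((u ▷ P) ≫ φ) := by
  rw [comp_homOf, homOf]
  congr 1
  rw [lift_whiskerRight_assoc]
  congr 2
  refine (HomRep.bcEquiv P.hom H _).injective ?_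
  rw [Equiv.apply_symm_apply]
  show _ = (Over.mapPullbackAdj P.hom).homEquiv _ H (((Over.mapPullbackAdj P.hom).homEquiv _ H').symm (𝟙 _) ≫ u)
  rw [Adjunction.homEquiv_naturality_right, Equiv.apply_symm_apply, Category.id_comp]

theorem mapChr_comp_str (f : M →+ N) : (mapChr f).comp (str R T M) = str R T N :=
  AlgHom.ext fun t => by simp [HomRep.str_apply, mapChr]

theorem cmap_comp_chr {T' : Type u} [CommRing T'] [Algebra R T'] (g : T →ₐ[R] T') :
    (cmap g).comp (chr R T M) = chr R T' M :=
  AlgHom.ext fun x => by
    induction x using MonoidAlgebra.induction_linear with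
    | zero => simp
    | add p q hp hq => simp only [map_add, hp, hq]
    | single m r => simp [cmap, Algebra.ofId_apply]

theorem mapChr_comp_chr (f : M →+ N) :
    (mapChr f).comp (chr R T M) = (chr R T N).comp (MultTorus.mapChar (R := R) f) := by
  refine MonoidAlgebra.algHom_ext (fun m => ?_) (Subsingleton.elim _ _)
  obtain ⟨m, rfl⟩ := Multiplicative.ofAdd.surjective m
  simp [HomRep.chr_single, HomRep.mapChr_single, MultTorus.mapChar_single]

/-- Precomposing with a map of characters. -/
theorem map_pt_fhom (f : M →+ N) (φ : A →ₐ[R] GA T M) :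
    (Over.pullback (sp R T).hom).map (pt (MultTorus.mapChar (R := R) f)) ≫ fhom φ = fhom ((mapChr f).comp φ) := by
  rw [fhom, map_homOf, fhom]
  congr 1
  rw [← cancel_epi (jH R T N), jH_fam, pt_comp φ, ← jH_fam φ, ← Category.assoc, ← Category.assoc]
  congr 1
  rw [jH, jH, lift_whiskerRight, comp_lift, ← pt_comp, ← pt_comp, ← pt_comp, mapChr_comp_chr, mapChr_comp_str]

theorem fhom_chr : fhom (A := GA R M) (chr R T M) = 𝟙 (Red.bc (sp R T).hom (sp R (GA R M))) := by
  have h : fam (A := GA R M) (chr R T M) = fst _ _ := by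
    rw [← cancel_epi (jH R T M), jH_fam, jH, lift_fst]
  rw [fhom, h, homOf, lift_fst, Equiv.apply_symm_apply]

theorem map_pt_eq_fhom (f : M →+ N) :
    (Over.pullback (sp R T).hom).map (pt (MultTorus.mapChar (R := R) f)) =
      fhom ((mapChr f).comp (chr R T M)) := by
  rw [← map_pt_fhom, fhom_chr, Category.comp_id]

/-- A compatible map generating the group algebra gives a monomorphism. -/
theorem mono_fhom {φ : A →ₐ[R] GA T M}
    (h : Function.Surjective (Algebra.TensorProduct.lift φ (str R T M) fun _ _ => .all _ _)) :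
    Mono (fhom φ) := by
  haveI : Mono (lift (pt φ) (pt (str R T M))) := by
    haveI : IsClosedImmersion (pt (Algebra.TensorProduct.lift φ (str R T M) fun _ _ => .all _ _)).left := by
      rw [pt_left]
      exact IsClosedImmersion.spec_of_surjective _ h
    haveI := Over.mono_of_mono_left (pt (Algebra.TensorProduct.lift φ (str R T M) fun _ _ => .all _ _))
    have h1 := lift_pt_pt φ (str R T M)
    refine ⟨fun a b hab => (cancel_mono (pt (Algebra.TensorProduct.lift φ (str R T M) fun _ _ => .all _ _))).1 ?_⟩
    rw [← h1, ← Category.assoc, hab, Category.assoc]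
  refine ⟨fun {Z} a b hab => ?_⟩
  rw [fhom, comp_homOf, comp_homOf] at hab
  have hab' := (HomRep.bcEquiv (sp R T).hom (sp R A) Z).injective hab
  refine (HomRep.bcEquiv (sp R T).hom (sp R (GA R M)) Z).symm.injective ?_
  have h1 : ∀ x : (Over.map (sp R T).hom).obj Z ⟶ sp R (GA R M),
      lift x (proj (sp R T) Z) ≫ inv (jH R T M) ≫ lift (pt φ) (pt (str R T M)) =
        lift (lift x (proj (sp R T) Z) ≫ fam φ) (proj (sp R T) Z) := by
    intro x
    apply hom_ext
    · simp [fam]
    · simp only [Category.assoc, lift_snd]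
      have : pt (str R T M) = jH R T M ≫ snd _ _ := by rw [jH, lift_snd]
      rw [this, IsIso.inv_hom_id_assoc, lift_snd]
  have h2 := (h1 ((HomRep.bcEquiv (sp R T).hom (sp R (GA R M)) Z).symm a)).trans
    (((congrArg (fun w => lift w (proj (sp R T) Z)) hab').trans
      (h1 ((HomRep.bcEquiv (sp R T).hom (sp R (GA R M)) Z).symm b)).symm))
  rw [← Category.assoc, ← Category.assoc, cancel_mono, cancel_mono] at h2
  simpa using congrArg (· ≫ fst _ _) h2

section field

variable {K : Type u} [Field K] [Algebra R K]

/-- Over a field, a compatible map out of a group algebra is a map of characters. -/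
theorem exists_char_of_cmp {φ : GA R N →ₐ[R] GA K M} (h : Cmp φ) :
    ∃ f : N →+ M, φ = (mapChr f).comp (chr R K N) := by
  classical
  have hpt : ∀ x : N, ∃ m : M, φ (MonoidAlgebra.single (Multiplicative.ofAdd x) 1) =
      MonoidAlgebra.single (Multiplicative.ofAdd m) (1 : K) := by
    intro x
    set e := φ (MonoidAlgebra.single (Multiplicative.ofAdd x) 1) with he
    have hmul : ∀ m m' : M, cf m e * cf m' e = if m = m' then cf m e else 0 := by
      intro m m'
      have h' := h.cf_mul m m' (MonoidAlgebra.single (Multiplicative.ofAdd x) 1)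
      simpa [MonoidAlgebra.comul_single, he] using h'
    obtain ⟨F, hF⟩ := (HomRep.finite_support e).exists_finset_coe
    have hFm : ∀ m, cf m e ≠ 0 → m ∈ F := fun m hm => by
      rw [← Finset.mem_coe, hF]; exact hm
    have hsum : ∑ m ∈ F, cf m e = 1 := by
      rw [← HomRep.aug_eq_sum (R := R) e F hFm, he]
      have := DFunLike.congr_fun h.one (MonoidAlgebra.single (Multiplicative.ofAdd x) 1)
      simpa [MonoidAlgebra.counit_single] using this
    obtain ⟨m₀, hm₀F, hm₀⟩ := Finset.exists_ne_zero_of_sum_ne_zero (hsum.trans_ne one_ne_zero)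
    have hone : cf m₀ e = 1 := by
      have := hmul m₀ m₀
      rw [if_pos rfl] at this
      exact mul_right_cancel₀ hm₀ (this.trans (one_mul _).symm)
    refine ⟨m₀, ext_cf fun m => ?_⟩
    rw [HomRep.cf_single]
    split_ifs with hm
    · rw [← hm, hone]
    · have := hmul m₀ m
      rw [if_neg hm, hone, one_mul] at this
      exact this
  choose f hf using hpt
  have hadd : ∀ x y, f (x + y) = f x + f y := fun x y => by
    have e1 : φ (MonoidAlgebra.single (Multiplicative.ofAdd (x + y)) 1) =
        φ (MonoidAlgebra.single (Multiplicative.ofAdd x) 1) * φ (MonoidAlgebra.single (Multiplicative.ofAdd y) 1) := by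
      rw [← map_mul, MonoidAlgebra.single_mul_single, _root_.one_mul, ← ofAdd_add]
    rw [hf, hf, hf, MonoidAlgebra.single_mul_single, _root_.one_mul, ← ofAdd_add] at e1
    exact Multiplicative.ofAdd.injective (MonoidAlgebra.single_left_inj one_ne_zero |>.1 e1)
  refine ⟨AddMonoidHom.mk' f hadd, MonoidAlgebra.algHom_ext (fun m => ?_) (Subsingleton.elim _ _)⟩
  obtain ⟨m, rfl⟩ := Multiplicative.ofAdd.surjective m
  rw [hf]
  simp [HomRep.chr_single, HomRep.mapChr_single]

theorem map_pt_injective {f g : N →+ M}
    (h : (Over.pullback (sp R K).hom).map (pt (MultTorus.mapChar (R := R) f)) =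
      (Over.pullback (sp R K).hom).map (pt (MultTorus.mapChar (R := R) g))) : f = g := by
  rw [map_pt_eq_fhom, map_pt_eq_fhom] at h
  refine AddMonoidHom.ext fun x => ?_
  have := DFunLike.congr_fun (fhom_injective h) (MonoidAlgebra.single (Multiplicative.ofAdd x) 1)
  simp only [AlgHom.comp_apply, HomRep.chr_single, map_one, HomRep.mapChr_single] at this
  exact Multiplicative.ofAdd.injective ((MonoidAlgebra.single_left_inj one_ne_zero).1 this)

/-- Over a field, isomorphisms of diagonalisable groups come from isomorphisms of the characters. -/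
theorem exists_addEquiv (u : Red.bc (sp R K).hom (sp R (GA R M)) ≅ Red.bc (sp R K).hom (sp R (GA R N)))
    [IsMonHom u.hom] : ∃ τ : N ≃+ M,
      u.hom = (Over.pullback (sp R K).hom).map (pt (MultTorus.mapChar (R := R) τ.toAddMonoidHom)) := by
  haveI : IsMonHom u.inv := inferInstance
  obtain ⟨φ, hφ, hφu⟩ := exists_fhom u.hom
  obtain ⟨ψ, hψ, hψu⟩ := exists_fhom u.inv
  obtain ⟨f, rfl⟩ := exists_char_of_cmp hφ
  obtain ⟨g, rfl⟩ := exists_char_of_cmp hψ
  rw [← map_pt_eq_fhom] at hφu hψu
  have hcomp : ∀ {L : Type} [AddCommGroup L] {P : Type} [AddCommGroup P] {Q : Type} [AddCommGroup Q]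
      (a : L →+ P) (b : P →+ Q), (Over.pullback (sp R K).hom).map (pt (MultTorus.mapChar (R := R) b)) ≫
        (Over.pullback (sp R K).hom).map (pt (MultTorus.mapChar (R := R) a)) =
          (Over.pullback (sp R K).hom).map (pt (MultTorus.mapChar (R := R) (b.comp a))) := by
    intro L _ P _ Q _ a b
    rw [← Functor.map_comp, ← pt_comp]
    congr 2
    refine MonoidAlgebra.algHom_ext (fun m => ?_) (Subsingleton.elim _ _)
    simp [MultTorus.mapChar_single]
  have hid : ∀ (L : Type) [AddCommGroup L], (Over.pullback (sp R K).hom).map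
      (pt (MultTorus.mapChar (R := R) (AddMonoidHom.id L))) = 𝟙 _ := by
    intro L _
    rw [show MultTorus.mapChar (R := R) (AddMonoidHom.id L) = AlgHom.id R _ from
      MonoidAlgebra.algHom_ext (fun m => by simp [MultTorus.mapChar_single]) (Subsingleton.elim _ _),
      pt_id, CategoryTheory.Functor.map_id]
  have h1 : f.comp g = AddMonoidHom.id M := map_pt_injective (R := R) (K := K) (by
    rw [← hcomp, hφu, hψu, u.hom_inv_id, hid])
  have h2 : g.comp f = AddMonoidHom.id N := map_pt_injective (R := R) (K := K) (by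
    rw [← hcomp, hφu, hψu, u.inv_hom_id, hid])
  exact ⟨AddEquiv.mk' ⟨f, g, fun x => DFunLike.congr_fun h2 x, fun x => DFunLike.congr_fun h1 x⟩ f.map_add,
    hφu.symm⟩

end field

section supports

/-- All supports lie in the group generated by those of generators. -/
theorem mem_of_gen {φ : A →ₐ[R] GA T M} (s : Set A) (hs : Algebra.adjoin R s = ⊤) (H : AddSubgroup M)
    (h : ∀ a ∈ s, ∀ m, cf m (φ a) ≠ 0 → m ∈ H) (a : A) (m : M) (hm : cf m (φ a) ≠ 0) : m ∈ H := by
  classical
  let B : Subalgebra R (GA T M) := ((mapChr (R := R) (T := T) H.subtype)).range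
  have hB : ∀ x : GA T M, (∀ m, cf m x ≠ 0 → m ∈ H) → x ∈ B := by
    intro x hx
    obtain ⟨F, hF⟩ := (HomRep.finite_support x).exists_finset_coe
    have hx' : x = ∑ n ∈ F, MonoidAlgebra.single (Multiplicative.ofAdd n) (cf n x) := ext_cf fun n => by
      rw [map_sum]
      simp only [HomRep.cf_single, Finset.sum_ite_eq']
      split_ifs with hn
      · rfl
      · by_contra h'
        exact hn (by rw [← Finset.mem_coe, hF]; exact h')
    rw [hx']
    refine Subalgebra.sum_mem _ fun n hn => ?_
    have hnH : n ∈ H := hx n (by rw [← Finset.mem_coe, hF] at hn; exact hn)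
    exact ⟨MonoidAlgebra.single (Multiplicative.ofAdd (⟨n, hnH⟩ : H)) (cf n x),
      by rw [AlgHom.toRingHom_eq_coe, RingHom.coe_coe, HomRep.mapChr_single]; rfl⟩
  have hle : Algebra.adjoin R s ≤ B.comap φ := Algebra.adjoin_le fun a ha => hB _ (h a ha)
  obtain ⟨y, hy⟩ := hle (hs.ge (trivial : a ∈ ⊤))
  by_contra hmH
  apply hm
  rw [show φ a = mapChr (R := R) H.subtype y from hy.symm]
  clear hy
  induction y using MonoidAlgebra.induction_linear with
  | zero => simp
  | add p q hp hq => rw [map_add, map_add, hp, hq, add_zero]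
  | single n t =>
    obtain ⟨n, rfl⟩ := Multiplicative.ofAdd.surjective n
    rw [HomRep.mapChr_single, HomRep.cf_single, if_neg]
    exact fun e => hmH (e ▸ n.2)

/-- A compatible map generates the characters it involves. -/
theorem surjective_of_supports {K' : Type u} [Field K'] [Algebra R K'] {θ : A →ₐ[R] GA K' M} (hθ : Cmp θ)
    (htop : AddSubgroup.closure {m | ∃ a, cf m (θ a) ≠ 0} = ⊤) :
    Function.Surjective (Algebra.TensorProduct.lift θ (str R K' M) fun _ _ => .all _ _) := by
  classical
  set L := Algebra.TensorProduct.lift θ (str R K' M) fun _ _ => .all _ _ with hL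
  let B := L.range
  have hstr : ∀ t : K', MonoidAlgebra.single 1 t ∈ B := fun t =>
    ⟨1 ⊗ₜ t, by simp [hL, HomRep.str_apply]⟩
  have hθB : ∀ a, θ a ∈ B := fun a => ⟨a ⊗ₜ 1, by simp [hL, HomRep.str_apply, ← MonoidAlgebra.one_def]⟩
  have hsmul : ∀ (c : K') (x : GA K' M), x ∈ B → c • x ∈ B := fun c x hx => by
    have : c • x = MonoidAlgebra.single 1 c * x := by
      rw [Algebra.smul_def]
      simp [MonoidAlgebra.coe_algebraMap]
    rw [this]
    exact B.mul_mem (hstr c) hx
  -- the slice at a character
  have hslice : ∀ (m : M) (a : A), MonoidAlgebra.single (Multiplicative.ofAdd m) (cf m (θ a)) ∈ B := by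
    intro m a
    let sl : A ⊗[R] A →ₗ[R] GA K' M := TensorProduct.lift
      (LinearMap.mk₂ R (fun x y => cf m (θ x) • θ y) (fun x x' y => by simp [add_smul])
        (fun c x y => by
          rw [map_smul, LinearMap.map_smul_of_tower, smul_assoc])
        (fun x y y' => by simp [smul_add])
        (fun c x y => by rw [map_smul, smul_comm]))
    have hmem : ∀ z, sl z ∈ B := fun z => by
      induction z using TensorProduct.induction_on with
      | zero => simp
      | tmul x y => simpa [sl] using hsmul _ _ (hθB y)
      | add p q hp hq => rw [map_add]; exact B.add_mem hp hq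
    have hval : sl (Coalgebra.comul a) = MonoidAlgebra.single (Multiplicative.ofAdd m) (cf m (θ a)) := by
      refine ext_cf fun n => ?_
      have h1 : ∀ z, cf n (sl z) = LinearMap.mul' R K' (TensorProduct.map ((cf m).restrictScalars R ∘ₗ θ.toLinearMap)
          ((cf n).restrictScalars R ∘ₗ θ.toLinearMap) z) := fun z => by
        induction z using TensorProduct.induction_on with
        | zero => simp
        | tmul x y => simp [sl]
        | add p q hp hq => simp only [map_add, hp, hq]
      rw [h1, hθ.cf_mul, HomRep.cf_single]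
    rw [← hval]
    exact hmem _
  -- inverses
  obtain ⟨s, hs⟩ := DiagRep.exists_pt ((𝟙 (sp R A))⁻¹ : sp R A ⟶ sp R A)
  have hneg : ∀ a, mapChr (R := R) (-AddMonoidHom.id M) (θ a) = θ (s a) := by
    have key : pt ((mapChr (R := R) (-AddMonoidHom.id M)).comp θ) = (pt θ)⁻¹ := by
      have h := congrArg (fun w => pt ((mapChr (R := R) ((AddMonoidHom.id M).coprod (-AddMonoidHom.id M))).comp
        w.ofConv)) hθ.mul
      rw [AlgHom.comp_convMul_distrib] at h
      simp only [WithConv.ofConv_toConv, ← AlgHom.comp_assoc] at h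
      have hfun : ∀ {P Q W : Type} [AddCommGroup P] [AddCommGroup Q] [AddCommGroup W] (u : P →+ Q) (v : Q →+ W),
          (mapChr (R := R) (T := K') v).comp (mapChr u) = mapChr (v.comp u) := fun u v => AlgHom.ext fun x => by
        induction x using MonoidAlgebra.induction_linear with
        | zero => simp
        | add p q hp hq => simp only [map_add, hp, hq]
        | single n t =>
          obtain ⟨n, rfl⟩ := Multiplicative.ofAdd.surjective n
          simp [HomRep.mapChr_single]
      rw [hfun, hfun, hfun, ← DiagRep.pt_mul_conv] at h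
      have e1 : ((AddMonoidHom.id M).coprod (-AddMonoidHom.id M)).comp (AddMonoidHom.inl M M) =
          AddMonoidHom.id M := by ext; simp
      have e2 : ((AddMonoidHom.id M).coprod (-AddMonoidHom.id M)).comp (AddMonoidHom.inr M M) =
          -AddMonoidHom.id M := by ext; simp
      have e3 : ((AddMonoidHom.id M).coprod (-AddMonoidHom.id M)).comp
          ((AddMonoidHom.id M).prod (AddMonoidHom.id M)) = 0 := by ext; simp
      rw [e1, e2, e3, show mapChr (R := R) (T := K') (AddMonoidHom.id M) = AlgHom.id R _ from AlgHom.ext fun x => by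
        induction x using MonoidAlgebra.induction_linear with
        | zero => simp
        | add p q hp hq => simp only [map_add, hp, hq]
        | single n t => simp [mapChr], AlgHom.id_comp] at h
      have h0 : (mapChr (R := R) (0 : M →+ M)).comp θ =
          ((Algebra.ofId K' (GA K' M)).restrictScalars R).comp ((HomRep.aug (R := R)).comp θ) := by
        rw [← AlgHom.comp_assoc]
        congr 1
        refine AlgHom.ext fun x => ?_
        induction x using MonoidAlgebra.induction_linear with
        | zero => simp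
        | add p q hp hq => simp only [map_add, hp, hq]
        | single n t =>
          obtain ⟨n, rfl⟩ := Multiplicative.ofAdd.surjective n
          simp [HomRep.mapChr_single, HomRep.aug_single, Algebra.ofId_apply, MonoidAlgebra.coe_algebraMap]
      rw [h0, hθ.one, ← AlgHom.comp_assoc,
        show ((Algebra.ofId K' (GA K' M)).restrictScalars R).comp (Algebra.ofId R K') = Algebra.ofId R _ from
          Subsingleton.elim _ _, DiagRep.pt_one] at h
      exact eq_inv_of_mul_eq_one_right h
    intro a
    have : (pt θ)⁻¹ = pt (θ.comp s) := by rw [pt_comp, ← hs, GrpObj.comp_inv, Category.comp_id]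
    exact DFunLike.congr_fun (pt_injective (key.trans this)) a
  -- the characters involved
  let P : AddSubgroup M := AddSubgroup.closure {m | ∃ a, cf m (θ a) ≠ 0}
  let W : Set M := {m | MonoidAlgebra.single (Multiplicative.ofAdd m) (1 : K') ∈ B}
  have hW0 : (0 : M) ∈ W := B.one_mem
  have hWadd : ∀ x y, x ∈ W → y ∈ W → x + y ∈ W := fun x y hx hy => by
    have := B.mul_mem hx hy
    rwa [MonoidAlgebra.single_mul_single, _root_.one_mul, ← ofAdd_add] at this
  have hgenW : ∀ m, (∃ a, cf m (θ a) ≠ 0) → m ∈ W ∧ -m ∈ W := by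
    rintro m ⟨a, ha⟩
    have h1 : MonoidAlgebra.single (Multiplicative.ofAdd m) (1 : K') ∈ B := by
      have := hsmul (cf m (θ a))⁻¹ _ (hslice m a)
      rwa [MonoidAlgebra.smul_single, smul_eq_mul, inv_mul_cancel₀ ha] at this
    refine ⟨h1, ?_⟩
    have h2 := hslice (-m) (s a)
    have h3 : cf (-m) (θ (s a)) = cf m (θ a) := by
      rw [← hneg]
      generalize θ a = x
      induction x using MonoidAlgebra.induction_linear with
      | zero => simp
      | add p q hp hq => simp only [map_add, hp, hq]
      | single n t =>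
        obtain ⟨n, rfl⟩ := Multiplicative.ofAdd.surjective n
        rw [HomRep.mapChr_single, AddMonoidHom.neg_apply, AddMonoidHom.id_apply, HomRep.cf_single, HomRep.cf_single]
        simp only [neg_inj]
    rw [h3] at h2
    have := hsmul (cf m (θ a))⁻¹ _ h2
    rwa [MonoidAlgebra.smul_single, smul_eq_mul, inv_mul_cancel₀ ha] at this
  have hWall : ∀ m, m ∈ P → m ∈ W ∧ -m ∈ W := fun m hm => by
    induction hm using AddSubgroup.closure_induction with
    | mem x hx => exact hgenW x hx
    | zero => exact ⟨hW0, by rw [neg_zero]; exact hW0⟩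
    | add x y _ _ hx hy => exact ⟨hWadd _ _ hx.1 hy.1, by rw [neg_add]; exact hWadd _ _ hx.2 hy.2⟩
    | neg x _ hx => exact ⟨hx.2, by rw [neg_neg]; exact hx.1⟩
  intro x
  show x ∈ B
  induction x using MonoidAlgebra.induction_linear with
  | zero => exact B.zero_mem
  | add p q hp hq => exact B.add_mem hp hq
  | single m t =>
    obtain ⟨m, rfl⟩ := Multiplicative.ofAdd.surjective m
    have hm : m ∈ P := by
      show m ∈ AddSubgroup.closure _
      rw [htop]; trivial
    have := hsmul t _ (hWall m hm).1
    rwa [MonoidAlgebra.smul_single, smul_eq_mul, _root_.mul_one] at this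

end supports

end Groth.Agent.ToriSch
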