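import Groth.Agent.ToriSchLib.Patch
import Groth.Agent.MaxTorusRankLib.Rank

/-!
# The locus of toral torsion subgroups
-/

set_option autoImplicit false
set_option linter.style.haveILetI false
set_option linter.unusedSectionVars false
set_option backward.isDefEq.respectTransparency false
set_option maxHeartbeats 2000000
set_option synthInstance.maxHeartbeats 400000

noncomputable section

universe u

open CategoryTheory CategoryTheory.Limits MonoidalCategory CartesianMonoidalCategory AlgebraicGeometry CoactBr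
open scoped MonObj

attribute [-instance] CategoryTheory.Hom.commGroup

namespace Groth.Agent.ToriSch

open Groth.Agent.BorelLib

attribute [local instance] CoactBr.braidedAlgSpecOf

variable {S : Scheme.{u}} {G : Over S} [GrpObj G] [IsAffineHom G.hom] [Smooth G.hom]

/-- The universal subgroup, finitely many charts covering the base and their patches. -/
structure Setup (G : Over S) [GrpObj G] where
  D : Univ G
  σ : Type u
  fin : Finite σ
  c : σ → Chart G
  n : ℕ
  hn : 0 < n
  hL : ∀ l, Level (c l).i n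
  hcov : ∀ s : S, ∃ l, s ∈ Set.range (c l).g
  P : ∀ l, Patch D n (c l)

theorem exists_setup [CompactSpace S] (h : SGA3x.RedRankLocallyConstant G) : Nonempty (Setup G) := by
  obtain ⟨D⟩ := exists_univ (G := G)
  obtain ⟨σ, hσ, c, n, hn, hL, hcov⟩ := exists_charts h
  exact ⟨⟨D, σ, hσ, c, n, hn, hL, hcov, fun l => (exists_patch D hn (c l)).some⟩⟩

theorem toral_patch {D : Univ G} {n : ℕ} {c : Chart G} (P : Patch D n c) : Toral D n P.mu P.eq := by
  have hi₀ := c.isMaximalTorus_i₀
  haveI := hi₀.1; haveI := hi₀.2.1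
  haveI := isMonHom_conjIso P.gW
  have hmax : Red.IsMaximalTorus (bcTo (G := G) P.rho rfl c.i₀) := isMaximalTorus_bcTo P.rho rfl hi₀
  haveI := hmax.1; haveI := hmax.2.1
  have h1 := MaxTorConj.isMaximalTorus_iso (conjIso P.gW) hmax
  rw [show bcTo (G := G) P.rho rfl c.i₀ ≫ (conjIso P.gW).hom = AGF.conjBy P.gW (bcTo P.rho rfl c.i₀) from
    (DiagRep.conjBy_eq_comp _ _).symm] at h1
  exact ⟨_, inferInstance, _, h1, isTorsion_of_conjBy ((c.isTorsion₀ n).bcTo P.rho rfl) P.conj⟩

namespace Setup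

variable (E : Setup G)

/-- A geometric toral point lifts to a patch. -/
theorem exists_lift_of_toral {K : Type u} [Field K] [IsAlgClosed K] {q : Spec (CommRingCat.of K) ⟶ E.D.M.left}
    {x : Spec (CommRingCat.of K) ⟶ S} {hq : q ≫ E.D.M.hom = x} (ht : Toral E.D E.n q hq) (l : E.σ)
    (r : Spec (CommRingCat.of K) ⟶ Spec (CommRingCat.of (E.c l).R)) (hr : r ≫ (E.c l).g = x) :
    ∃ t, t ≫ (E.P l).mu = q ∧ t ≫ (E.P l).rho = r := by
  obtain ⟨T, _, i, hi, hti⟩ := ht
  haveI := hi.1; haveI := hi.2.1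
  have hi₂ := isMaximalTorus_bcTo r hr (E.c l).isMaximalTorus_i₀
  haveI := hi₂.1; haveI := hi₂.2.1
  haveI : Smooth (Red.bc x G).hom := MorphismProperty.pullback_snd (P := @Smooth) _ _ inferInstance
  haveI := RedRank.isAffineHom_bc G x
  haveI : IsAffine (Red.bc x G).left := isAffine_of_isAffineHom (Red.bc x G).hom
  obtain ⟨g, φ, hφ⟩ := MaxTorusRank.exists_conj (MaxTorusRank.isMaxTorus_of_isMaximalTorus hi₂)
    (MaxTorusRank.isMaxTorus_of_isMaximalTorus hi)
  haveI := ((E.c l).mono_j₀ E.n).2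
  haveI := (E.D.pulled_facts q hq).2.1
  haveI : Mono (bcTo r hr ((E.c l).j₀ E.n)) := mono_bcTo r hr ((E.c l).j₀ E.n)
  obtain ⟨t, h1, h2, -⟩ := (E.P l).lift q r hq hr g
    (conjBy_of_isTorsion (((E.c l).isTorsion₀ E.n).bcTo r hr) (Same.isTorsion hti ⟨φ, hφ⟩ (Same.refl _)))
  exact ⟨t, h1, h2⟩

/-- The toral locus. -/
def U : E.D.M.left.Opens :=
  ⟨⋃ l, Set.range (E.P l).mu, isOpen_iUnion fun l => by
    haveI := (E.P l).smooth_mu
    exact (E.P l).mu.isOpenMap.isOpen_range⟩

/-- **The geometric points of the toral locus.** -/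
theorem mem_U_iff {K : Type u} [Field K] [IsAlgClosed K] (q : Spec (CommRingCat.of K) ⟶ E.D.M.left)
    {x : Spec (CommRingCat.of K) ⟶ S} (hq : q ≫ E.D.M.hom = x) :
    q (IsLocalRing.closedPoint K) ∈ E.U ↔ Toral E.D E.n q hq := by
  constructor
  · intro h
    obtain ⟨l, hl⟩ := Set.mem_iUnion.1 h
    haveI := (E.P l).smooth_mu
    obtain ⟨t, ht⟩ := exists_lift_algClosed (E.P l).mu q hl
    exact (toral_patch (E.P l)).comp t ht hq
  · intro h
    obtain ⟨l, hl⟩ := E.hcov (x (IsLocalRing.closedPoint K))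
    obtain ⟨r, hr⟩ := exists_lift_algClosed (E.c l).g x hl
    obtain ⟨t, ht, -⟩ := E.exists_lift_of_toral h l r hr
    exact Set.mem_iUnion.2 ⟨l, t (IsLocalRing.closedPoint K), by rw [← Scheme.Hom.comp_apply, ht]⟩

end Setup

end Groth.Agent.ToriSch
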