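import Groth.Agent.ToriSchLib.Torus
import Groth.Agent.RedRankLib.Max
import Groth.Agent.S0115

/-!
# The scheme of maximal tori over an affine base
-/

set_option autoImplicit false
set_option linter.style.haveILetI false
set_option linter.unusedSectionVars false
set_option backward.isDefEq.respectTransparency false
set_option maxHeartbeats 2000000
set_option synthInstance.maxHeartbeats 400000

noncomputable section

universe u

open CategoryTheory CategoryTheory.Limits MonoidalCategory CartesianMonoidalCategory AlgebraicGeometry CoactBr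
open scoped MonObj

attribute [-instance] CategoryTheory.Hom.commGroup

namespace Groth.Agent.ToriSch

open Groth.Agent.BorelLib

attribute [local instance] CoactBr.braidedAlgSpecOf

variable {S : Scheme.{u}} {G : Over S} [GrpObj G]

/-- A scheme with a universal maximal torus. -/
structure Rep (G : Over S) [GrpObj G] where
  M : Over S
  T : Over M.left
  grp : GrpObj T
  i : T ⟶ Red.bc M.hom G
  max : Red.IsMaximalTorus i
  univ : ∀ {X : Scheme.{u}} (f : X ⟶ S) (T' : Over X) [GrpObj T'] (i' : T' ⟶ Red.bc f G), Red.IsMaximalTorus i' →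
    ∃! v : X ⟶ M.left, ∃ h : v ≫ M.hom = f, Same i' (bcTo v h i)
  smooth : Smooth M.hom
  affine : IsAffineHom M.hom

attribute [instance] Rep.grp

/-- A clopen affine together with another one. -/
theorem isAffineOpen_sup_of_clopen {X : Scheme.{u}} {A B : X.Opens} (hA : IsAffineOpen A) (hAc : IsClosed (A : Set X))
    (hB : IsAffineOpen B) : IsAffineOpen (A ⊔ B) := by
  let C : X.Opens := ⟨(B : Set X) \ (A : Set X), B.isOpen.sdiff hAc⟩
  have hCB : C ≤ B := fun x hx => hx.1
  have hC : IsAffineOpen C := by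
    haveI : IsAffine B := hB
    have hcl : IsClosed (Set.range (X.homOfLE hCB)) := by
      have : Set.range (X.homOfLE hCB) = B.ι ⁻¹' (A : Set X)ᶜ := by
        rw [← Scheme.Hom.coe_opensRange, Scheme.opensRange_homOfLE]
        ext x
        exact ⟨fun h => h.2, fun h => ⟨x.2, h⟩⟩
      rw [this]
      exact A.isOpen.isClosed_compl.preimage B.ι.continuous
    haveI : IsClosedImmersion (X.homOfLE hCB) := IsClosedImmersion.of_isPreimmersion _ hcl
    exact isAffine_of_isAffineHom (X.homOfLE hCB)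
  have hdisj : Disjoint A C := by
    rw [← TopologicalSpace.Opens.coe_disjoint]
    exact Set.disjoint_sdiff_right
  have : A ⊔ B = A ⊔ C := TopologicalSpace.Opens.ext (by
    rw [TopologicalSpace.Opens.coe_sup, TopologicalSpace.Opens.coe_sup]
    exact Set.union_sdiff_self.symm)
  rw [this]
  exact hA.sup_of_disjoint hC hdisj

variable [IsAffineHom G.hom] [Smooth G.hom]

namespace Setup

variable (E : Setup G)

theorem exists_iso_groupScheme (l : E.σ) :
    ∃ e : (E.P l).W ≅ (Red.bc (E.c l).g G).left, e.hom ≫ (Red.bc (E.c l).g G).hom = (E.P l).rho := by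
  let c := E.c l
  let P := E.P l
  let r : (Red.bc c.g G).left ⟶ Spec (CommRingCat.of c.R) := pullback.snd G.hom c.g
  let x : (Red.bc c.g G).left ⟶ S := r ≫ c.g
  let γ' : (Red.bc c.g G).left ⟶ G.left := pullback.fst G.hom c.g
  let gt := secOf (G := G) x γ' pullback.condition
  haveI := (c.mono_j₀ E.n).1; haveI := (c.mono_j₀ E.n).2
  haveI : IsMonHom (bcTo r (rfl : _ = x) (c.j₀ E.n)) := isMonHom_bcTo r rfl (c.j₀ E.n)
  haveI : Mono (bcTo r (rfl : _ = x) (c.j₀ E.n)) := mono_bcTo r rfl (c.j₀ E.n)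
  haveI := isMonHom_conjIso gt
  let j' := bcTo r (rfl : _ = x) (c.j₀ E.n) ≫ (conjIso gt).hom
  have hj' : j' = AGF.conjBy gt (bcTo r rfl (c.j₀ E.n)) := (DiagRep.conjBy_eq_comp _ _).symm
  obtain ⟨m, hm, hs⟩ := E.D.exists_same x j' (DescHom.isMultTypeFT_bc (facts_j₀ c E.hn).1 r)
    (isFinite_bc r (facts_j₀ c E.hn).2)
  rw [hj'] at hs
  obtain ⟨ψ, hψm, hψr, hψg⟩ := P.lift m r hm rfl gt (conjBy_iff_same.2 hs)
  let π : P.W ⟶ (Red.bc c.g G).left := pullback.lift (secG P.gW) P.rho (secG_comp P.gW)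
  have hπr : π ≫ r = P.rho := pullback.lift_snd _ _ _
  have hπg : π ≫ γ' = secG P.gW := pullback.lift_fst _ _ _
  have hπm : π ≫ m = P.mu := by
    have hx : π ≫ x = P.rho ≫ c.g := by rw [← Category.assoc, hπr]
    refine E.D.ext (f := P.rho ≫ c.g) (by rw [Category.assoc, hm, hx]) P.eq ?_
    refine (same_bcTo_bcTo m hm π hx rfl (by rw [Category.assoc, hm, hx]) E.D.j).symm.trans ?_
    refine (hs.symm.bcTo π hx).trans ?_
    rw [bcTo_conjBy, show bcPt π hx gt = P.gW from sec_ext (by rw [secG_bcPt, secG_secOf, hπg])]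
    exact ((same_bcTo_bcTo r rfl π hx hπr rfl (c.j₀ E.n)).conj P.gW).trans (conjBy_iff_same.1 P.conj)
  refine ⟨⟨π, ψ, P.hom_ext _ _ ?_ ?_ ?_, pullback.hom_ext ?_ ?_⟩, hπr⟩
  · rw [Category.assoc, hψm, hπm, Category.id_comp]
  · rw [Category.assoc, hψr, hπr, Category.id_comp]
  · rw [Category.assoc, hψg, secG_secOf, hπg, Category.id_comp]
  · rw [Category.assoc, hπg, hψg, secG_secOf, Category.id_comp]
  · rw [Category.assoc, hπr, hψr, Category.id_comp]

theorem isAffine_W (l : E.σ) : IsAffine (E.P l).W := by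
  obtain ⟨e, -⟩ := E.exists_iso_groupScheme l
  haveI := RedRank.isAffineHom_bc G (E.c l).g
  haveI : IsAffine (Red.bc (E.c l).g G).left := isAffine_of_isAffineHom (Red.bc (E.c l).g G).hom
  exact IsAffine.of_isIso e.hom

theorem smooth_hom : Smooth (E.U.ι ≫ E.D.M.hom) := by
  obtain ⟨π, hπ, hπs, hπj⟩ := E.exists_cover
  haveI := hπs; haveI := hπj
  haveI : Smooth (π ≫ E.U.ι ≫ E.D.M.hom) := by
    rw [← Category.assoc, hπ, E.muW_comp]
    refine IsZariskiLocalAtSource.sigmaDesc fun l => ?_
    obtain ⟨e, he⟩ := E.exists_iso_groupScheme l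
    haveI : Smooth (Red.bc (E.c l).g G).hom := MorphismProperty.pullback_snd (P := @Smooth) _ _ inferInstance
    rw [← he]
    infer_instance
  exact S0115.result π (E.U.ι ≫ E.D.M.hom)

theorem isCompact_U : IsCompact (E.U : Set E.D.M.left) := by
  haveI := E.fin
  exact isCompact_iUnion fun l => by
    haveI := E.isAffine_W l
    exact isCompact_range (E.P l).mu.continuous

theorem affine_hom [IsAffine S] : IsAffineHom (E.U.ι ≫ E.D.M.hom) := by
  classical
  choose V hmV hVc hVh using E.D.nhd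
  have hV : ∀ m, IsAffineOpen (V m) := fun m => by
    haveI := hVh m
    exact isAffine_of_isAffineHom ((V m).ι ≫ E.D.M.hom)
  -- clopen
  have hUV : ∀ m, IsClosed ((E.U ⊓ V m : E.D.M.left.Opens) : Set E.D.M.left) := by
    intro m
    have hc : IsCompact ((E.U ⊓ V m : E.D.M.left.Opens) : Set E.D.M.left) := E.isCompact_U.inter_right (hVc m)
    let f := (hV m).fromSpec
    have hpre : IsClosed (f ⁻¹' ((E.U ⊓ V m : E.D.M.left.Opens) : Set E.D.M.left)) := by
      obtain ⟨R, φ, hφ⟩ := isCompact_iff_exists.1 hc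
      let φ' := IsOpenImmersion.lift f φ (by rw [hφ, (hV m).range_fromSpec]; exact fun x hx => hx.2)
      have hφ' : φ' ≫ f = φ := IsOpenImmersion.lift_fac _ _ _
      have hr : Set.range φ' = f ⁻¹' ((E.U ⊓ V m : E.D.M.left.Opens) : Set E.D.M.left) := by
        rw [← hφ, ← hφ', Scheme.Hom.comp_base, TopCat.coe_comp, Set.range_comp,
          Set.preimage_image_eq _ f.isOpenEmbedding.injective]
      have hst : StableUnderSpecialization (f ⁻¹' ((E.U ⊓ V m : E.D.M.left.Opens) : Set E.D.M.left)) := by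
        intro a b hab ha
        exact ⟨E.stableUnderSpecialization (hab.map f.continuous) ha.1,
          (hVc m).stableUnderSpecialization (hab.map f.continuous) ha.2⟩
      rw [← hr] at hst ⊢
      obtain ⟨χ, hχ⟩ := Spec.map_surjective φ'
      rw [← hχ] at hst ⊢
      exact PrimeSpectrum.isClosed_range_of_stableUnderSpecialization χ.hom hst
    have he : Topology.IsClosedEmbedding f :=
      ⟨f.isOpenEmbedding.isEmbedding, by rw [(hV m).range_fromSpec]; exact hVc m⟩
    have := he.isClosedMap _ hpre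
    rwa [Set.image_preimage_eq_inter_range, (hV m).range_fromSpec,
      Set.inter_eq_left.2 (fun x hx => hx.2)] at this
  have hUVa : ∀ m, IsAffineOpen (E.U ⊓ V m) := fun m => by
    haveI : IsAffine (V m) := hV m
    have hle : E.U ⊓ V m ≤ V m := inf_le_right
    have hcl : IsClosed (Set.range (E.D.M.left.homOfLE hle)) := by
      rw [← Scheme.Hom.coe_opensRange, Scheme.opensRange_homOfLE]
      exact (hUV m).preimage (V m).ι.continuous
    haveI : IsClosedImmersion (E.D.M.left.homOfLE hle) := IsClosedImmersion.of_isPreimmersion _ hcl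
    exact isAffine_of_isAffineHom (E.D.M.left.homOfLE hle)
  obtain ⟨t, ht⟩ := E.isCompact_U.elim_finite_subcover (fun m => (V m : Set E.D.M.left)) (fun m => (V m).isOpen)
    fun m _ => Set.mem_iUnion.2 ⟨m, hmV m⟩
  have hall : ∀ s : Finset E.D.M.left, IsAffineOpen (s.sup fun m => E.U ⊓ V m) ∧
      IsClosed ((s.sup fun m => E.U ⊓ V m : E.D.M.left.Opens) : Set E.D.M.left) := by
    intro s
    induction s using Finset.induction_on with
    | empty =>
      rw [Finset.sup_empty]
      exact ⟨isAffineOpen_bot _, by simp⟩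
    | insert a s ha ih =>
      rw [Finset.sup_insert]
      exact ⟨isAffineOpen_sup_of_clopen (hUVa a) (hUV a) ih.1, by
        rw [TopologicalSpace.Opens.coe_sup]; exact (hUV a).union ih.2⟩
  have hU : (t.sup fun m => E.U ⊓ V m) = E.U := le_antisymm (Finset.sup_le fun m _ => inf_le_left) fun x hx => by
    obtain ⟨m, hm, hxm⟩ := Set.mem_iUnion₂.1 (ht hx)
    exact (show E.U ⊓ V m ≤ t.sup fun m => E.U ⊓ V m from Finset.le_sup (f := fun m => E.U ⊓ V m) hm) ⟨hx, hxm⟩
  haveI : IsAffine E.U := hU ▸ (hall t).1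
  infer_instance

theorem exists_rep (E : Setup G) [IsAffine S] : Nonempty (Rep G) := by
  obtain ⟨T, iT, i, hi, ht⟩ := E.toral_U
  haveI := hi.1; haveI := hi.2.1
  refine ⟨⟨Over.mk (E.U.ι ≫ E.D.M.hom), T, iT, i, hi, fun {X} f T' _ i' hi' => ?_, E.smooth_hom, E.affine_hom⟩⟩
  obtain ⟨v, hv, htv⟩ := exists_classify E.D E.hn hi'
  have hrange : Set.range v ⊆ Set.range E.U.ι := by
    rintro _ ⟨z, rfl⟩
    rw [Scheme.Opens.range_ι]
    have h := (E.mem_U_iff (Red.geomPt z ≫ v) (x := Red.geomPt z ≫ f) (by rw [Category.assoc, hv])).2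
      (Toral.comp (D := E.D) ⟨T', inferInstance, i', hi', htv⟩ (Red.geomPt z) rfl (by rw [Category.assoc, hv]))
    rwa [Scheme.Hom.comp_apply, RedRank.geomPt_apply] at h
  let w := IsOpenImmersion.lift E.U.ι v hrange
  have hw : w ≫ E.U.ι = v := IsOpenImmersion.lift_fac _ _ _
  have hwf : w ≫ E.U.ι ≫ E.D.M.hom = f := by rw [← Category.assoc, hw, hv]
  refine ⟨w, ⟨hwf, ?_⟩, fun w' ⟨hwf', hs⟩ => ?_⟩
  · have ha : Red.IsMaximalTorus (bcTo w hwf i) := isMaximalTorus_bcTo w hwf hi
    have hta := torsion_comp ht w hwf hw hv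
    haveI := (E.D.pulled_facts v hv).2.1
    haveI : Smooth (Red.bc f G).hom := MorphismProperty.pullback_snd (P := @Smooth) _ _ inferInstance
    haveI := RedRank.isAffineHom_bc G f
    obtain ⟨φ, hφ⟩ := exists_iso_of_torsion ha hi' hta htv (goodPair_of_torsion E.hL E.hcov ha hta)
      (goodPair_of_torsion E.hL E.hcov hi' htv)
    exact ⟨φ, hφ⟩
  · refine (cancel_mono E.U.ι).1 ?_
    rw [hw]
    exact classify_unique (h := (Category.assoc _ _ _).trans hwf') (torsion_comp ht w' hwf' rfl _)
      (Same.isTorsion htv hs.symm (Same.refl _))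

end Setup

/-- **Over an affine base the maximal tori are classified by a smooth affine scheme.** -/
theorem exists_rep_affine [IsAffine S] (h : SGA3x.RedRankLocallyConstant G) : Nonempty (Rep G) :=
  (exists_setup h).some.exists_rep

end Groth.Agent.ToriSch
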