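import Groth.Agent.ToriSchLib.Families
import Groth.Agent.ToriSchLib.Torsion
import Groth.Agent.RCentreLib.Local

/-!
# Conjugates of a split torus and the order of torsion which sees all weights
-/

set_option autoImplicit false
set_option linter.style.haveILetI false
set_option linter.unusedSectionVars false
set_option backward.isDefEq.respectTransparency false
set_option maxHeartbeats 2000000
set_option synthInstance.maxHeartbeats 400000

noncomputable section

universe u

open CategoryTheory CategoryTheory.Limits MonoidalCategory CartesianMonoidalCategory AlgebraicGeometry CoactBr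
open Opposite
open scoped MonObj TensorProduct
open WithConv (toConv ofConv)

attribute [-instance] CategoryTheory.Hom.commGroup

namespace Groth.Agent.ToriSch

open Groth.Agent.HomRep (GA cf ext_cf mapChr cmap chr str jH fam jH_fam Cmp)
open Groth.Agent.RedRank (homOf isMonHom_homOf comp_homOf proj)
open Groth.Agent.RCentre (incl toSp fn toSp_fn fn_unique)
open Groth.Agent.TorsTuple (bcMul bcMul_comp bcMul_precomp Commutes)

attribute [local instance] CoactBr.braidedAlgSpecOf Groth.Agent.RCentre.algΓ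

theorem IsTorsion.comp_mono {S : Scheme.{u}} {G G' T K : Over S} [GrpObj G] [GrpObj G'] {i : T ⟶ G} {j : K ⟶ G}
    {n : ℕ} (h : IsTorsion i j n) (w : G ⟶ G') [IsMonHom w] [Mono w] : IsTorsion (i ≫ w) (j ≫ w) n := by
  intro X g
  constructor
  · rintro ⟨k, rfl⟩
    obtain ⟨⟨t, ht⟩, hp⟩ := (h X (k ≫ j)).1 ⟨k, rfl⟩
    exact ⟨⟨t, by rw [reassoc_of% ht]⟩, by rw [← Category.assoc, ← MonObj.pow_comp, hp, MonObj.one_comp]⟩
  · rintro ⟨⟨t, rfl⟩, hp⟩
    obtain ⟨k, hk⟩ := (h X (t ≫ i)).2 ⟨⟨t, rfl⟩, by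
      rw [← cancel_mono w, MonObj.pow_comp, Category.assoc, hp, MonObj.one_comp]⟩
    exact ⟨k, by rw [reassoc_of% hk]⟩

variable {R : Type u} [CommRing R]

/-- The multiples of `n`. -/
abbrev nsub (M : Type) [AddCommGroup M] (n : ℕ) : AddSubgroup M := (nsmulAddMonoidHom n : M →+ M).range

variable {M : Type} [AddCommGroup M]

/-- **The torsion of a split torus.** -/
theorem isTorsion_incl (n : ℕ) :
    IsTorsion (G := sp R (GA R M)) (𝟙 (sp R (GA R M))) (incl R (nsub M n)) n := by
  intro X g
  have hpow : g ^ n = toSp X ≫ pt ((fn g).comp (MultTorus.mapChar (R := R) (n • AddMonoidHom.id M))) := by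
    rw [pt_comp, ← Category.assoc, toSp_fn, ← MultTorus.pow_pt_id, MonObj.comp_pow, Category.comp_id]
  have hkey : g ^ n = 1 ↔ ∀ m ∈ nsub M n, fn g (RCentre.chi R m) = 1 := by
    constructor
    · rintro h m ⟨x, rfl⟩
      have e : (fn g).comp (MultTorus.mapChar (R := R) (n • AddMonoidHom.id M)) =
          fn (1 : X ⟶ sp R (GA R M)) := fn_unique (by rw [← hpow, toSp_fn, h])
      have := DFunLike.congr_fun e (RCentre.chi R x)
      rw [RCentre.fn_one] at this
      simp only [AlgHom.comp_apply, MultTorus.mapChar_single] at this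
      simpa [MonoidAlgebra.counit_single, Algebra.ofId_apply, RCentre.chi, ofAdd_nsmul] using this
    · intro h
      rw [hpow, ← toSp_fn (1 : X ⟶ sp R (GA R M)), RCentre.fn_one]
      congr 2
      refine MonoidAlgebra.algHom_ext (fun m => ?_) (Subsingleton.elim _ _)
      obtain ⟨m, rfl⟩ := Multiplicative.ofAdd.surjective m
      simp only [AlgHom.comp_apply, MultTorus.mapChar_single]
      have := h (n • m) ⟨m, rfl⟩
      simpa [MonoidAlgebra.counit_single, Algebra.ofId_apply, RCentre.chi, ofAdd_nsmul] using this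
  rw [hkey]
  constructor
  · rintro ⟨k, rfl⟩
    refine ⟨⟨_, Category.comp_id _⟩, fun m hm => ?_⟩
    rw [RCentre.fn_comp', AlgHom.comp_apply, MultTorus.mapChar_single]
    have h0 : (QuotientAddGroup.mk' (nsub M n) m : M ⧸ nsub M n) = 0 := (QuotientAddGroup.eq_zero_iff m).2 hm
    show fn k (MonoidAlgebra.single (Multiplicative.ofAdd (QuotientAddGroup.mk' (nsub M n) m)) 1) = 1
    rw [h0]
    exact map_one (fn k)
  · rintro ⟨-, h⟩
    obtain ⟨τ', hτ'⟩ := RCentre.exists_lift_incl (nsub M n) (fn g) h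
    exact ⟨toSp X ≫ pt τ', by rw [Category.assoc, ← pt_comp, hτ', toSp_fn]⟩

/-- An exponent seeing a finite set of characters. -/
theorem exists_modulus {r : ℕ} (F : Finset (Fin r → ℤ)) :
    ∃ n : ℕ, 0 < n ∧ Set.InjOn (QuotientAddGroup.mk' (nsub (Fin r → ℤ) n)) (F : Set (Fin r → ℤ)) ∧
      ∀ S ⊆ F, AddSubgroup.closure (S : Set (Fin r → ℤ)) ⊔ nsub (Fin r → ℤ) n = ⊤ →
        AddSubgroup.closure (S : Set (Fin r → ℤ)) = ⊤ := by
  classical
  let n₀ : ℕ := 1 + ∑ x ∈ F, ∑ k, (x k).natAbs
  have hsat : ∀ S : Finset (Fin r → ℤ), ∃ p : ℕ, 0 < p ∧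
      (AddSubgroup.closure (S : Set (Fin r → ℤ)) ≠ ⊤ →
        ∀ n, p ∣ n → AddSubgroup.closure (S : Set (Fin r → ℤ)) ⊔ nsub (Fin r → ℤ) n ≠ ⊤) := by
    intro S
    by_cases hS : AddSubgroup.closure (S : Set (Fin r → ℤ)) = ⊤
    · exact ⟨1, one_pos, fun h => absurd hS h⟩
    obtain ⟨P, hP, hle⟩ := (eq_top_or_exists_le_coatom
      (AddSubgroup.toIntSubmodule (AddSubgroup.closure (S : Set (Fin r → ℤ))))).resolve_left fun h => hS (by
        simpa using congrArg Submodule.toAddSubgroup h)
    haveI : IsSimpleModule ℤ ((Fin r → ℤ) ⧸ P) := isSimpleModule_iff_isCoatom.2 hP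
    have hmax := IsSimpleModule.annihilator_isMaximal (R := ℤ) (M := (Fin r → ℤ) ⧸ P)
    obtain ⟨z, hz, hz0⟩ := Submodule.exists_mem_ne_zero_of_ne_bot
      (Ring.ne_bot_of_isMaximal_of_not_isField hmax Int.not_isField)
    refine ⟨z.natAbs, Int.natAbs_pos.2 hz0, fun _ n hn htop => hP.1 ?_⟩
    obtain ⟨c, hc⟩ : z ∣ (n : ℤ) := Int.natAbs_dvd.1 (Int.natCast_dvd_natCast.2 hn)
    have hnP : ∀ x : Fin r → ℤ, (n : ℤ) • x ∈ P := fun x => by
      rw [← Submodule.Quotient.mk_eq_zero, Submodule.Quotient.mk_smul, hc, mul_smul]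
      exact Module.mem_annihilator.1 hz _
    refine eq_top_iff.2 fun x _ => ?_
    obtain ⟨a, ha, b, ⟨y, rfl⟩, rfl⟩ := AddSubgroup.mem_sup.1 (htop.ge (AddSubgroup.mem_top x))
    refine P.add_mem (hle ha) ?_
    simpa using hnP y
  choose p hp0 hp using hsat
  refine ⟨n₀ * ∏ S ∈ F.powerset, p S, Nat.mul_pos (by omega) (Finset.prod_pos fun S _ => hp0 S), ?_, ?_⟩
  · intro x hx y hy hxy
    have h := (QuotientAddGroup.eq).1 hxy
    obtain ⟨w, hw⟩ := h
    funext k
    have hk := congrFun hw k
    simp only [nsmulAddMonoidHom_apply, Pi.smul_apply, Pi.add_apply, Pi.neg_apply, nsmul_eq_mul] at hk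
    have hb : ∀ a ∈ F, (a k).natAbs < n₀ := fun a ha => by
      have h1 : (a k).natAbs ≤ ∑ j, (a j).natAbs :=
        Finset.single_le_sum (f := fun j => (a j).natAbs) (fun j _ => Nat.zero_le _) (Finset.mem_univ k)
      have h2 : (∑ j, (a j).natAbs) ≤ ∑ x ∈ F, ∑ j, (x j).natAbs :=
        Finset.single_le_sum (f := fun x : Fin r → ℤ => ∑ j, (x j).natAbs) (fun x _ => Nat.zero_le _) ha
      show (a k).natAbs < 1 + _
      omega
    have hsum : (x k).natAbs + (y k).natAbs < n₀ ∨ x = y := by
      by_cases hne : x = y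
      · exact Or.inr hne
      left
      have h1 : (x k).natAbs ≤ ∑ j, (x j).natAbs :=
        Finset.single_le_sum (f := fun j => (x j).natAbs) (fun j _ => Nat.zero_le _) (Finset.mem_univ k)
      have h2 : (y k).natAbs ≤ ∑ j, (y j).natAbs :=
        Finset.single_le_sum (f := fun j => (y j).natAbs) (fun j _ => Nat.zero_le _) (Finset.mem_univ k)
      have h3 : (∑ j, (x j).natAbs) + (∑ j, (y j).natAbs) ≤ ∑ x ∈ F, ∑ j, (x j).natAbs := by
        rw [← Finset.sum_pair (f := fun x : Fin r → ℤ => ∑ j, (x j).natAbs) hne]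
        refine Finset.sum_le_sum_of_subset (fun a ha => ?_)
        rcases Finset.mem_insert.1 ha with rfl | ha
        · exact hx
        · rw [Finset.mem_singleton.1 ha]; exact hy
      show _ < 1 + _
      omega
    rcases hsum with hsum | rfl
    · have hdvd : ((n₀ : ℤ)) ∣ (y k - x k) := ⟨((∏ S ∈ F.powerset, p S : ℕ) : ℤ) * w k, by
        rw [sub_eq_neg_add, ← hk]; push_cast; ring⟩
      have h0 : y k - x k = 0 := Int.eq_zero_of_abs_lt_dvd hdvd (by
        rw [Int.abs_eq_natAbs]
        exact_mod_cast lt_of_le_of_lt (Int.natAbs_sub_le _ _) (by omega))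
      exact (sub_eq_zero.1 h0).symm
    · rfl
  · intro S hS htop
    by_contra hne
    exact hp S hne _ (Dvd.dvd.mul_left (Finset.dvd_prod_of_mem p (Finset.mem_powerset.2 hS)) n₀) htop

variable {A : Type u} [CommRing A] [HopfAlgebra R A] {T : Type u} [CommRing T] [Algebra R T]
  (i : sp R (GA R M) ⟶ sp R A)

/-- Conjugation of the torus by the universal point of the group. -/
def dconj : A →ₐ[R] A ⊗[R] GA R M :=
  (DiagRep.exists_pt (pt (Algebra.TensorProduct.includeLeft : A →ₐ[R] A ⊗[R] GA R M) *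
    (pt (Algebra.TensorProduct.includeRight : GA R M →ₐ[R] A ⊗[R] GA R M) ≫ i) *
    (pt (Algebra.TensorProduct.includeLeft : A →ₐ[R] A ⊗[R] GA R M))⁻¹)).choose

theorem pt_dconj : pt (dconj i) = pt (Algebra.TensorProduct.includeLeft : A →ₐ[R] A ⊗[R] GA R M) *
    (pt (Algebra.TensorProduct.includeRight : GA R M →ₐ[R] A ⊗[R] GA R M) ≫ i) *
    (pt (Algebra.TensorProduct.includeLeft : A →ₐ[R] A ⊗[R] GA R M))⁻¹ :=
  (DiagRep.exists_pt _).choose_spec.symm

/-- The weight components of the conjugation. -/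
def dwt (a : A) : Multiplicative M →₀ A :=
  (TensorProduct.eq_repr_basis_right (MonoidAlgebra.basis (Multiplicative M) R) (dconj i a)).choose

theorem dconj_eq (a : A) :
    (dwt i a).sum (fun m w => w ⊗ₜ[R] MonoidAlgebra.basis (Multiplicative M) R m) = dconj i a :=
  (TensorProduct.eq_repr_basis_right (MonoidAlgebra.basis (Multiplicative M) R) (dconj i a)).choose_spec

/-- The algebra map of a conjugate of the torus. -/
def θOf (α : A →ₐ[R] T) : A →ₐ[R] GA T M :=
  (Algebra.TensorProduct.lift ((str R T M).comp α) (chr R T M) fun _ _ => .all _ _).comp (dconj i)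

theorem cf_θOf (α : A →ₐ[R] T) (m : M) (a : A) :
    cf m (θOf i α a) = α (dwt i a (Multiplicative.ofAdd m)) := by
  classical
  rw [θOf, AlgHom.comp_apply, ← dconj_eq i a, Finsupp.sum, map_sum, map_sum]
  have hterm : ∀ x : Multiplicative M, cf m ((Algebra.TensorProduct.lift ((str R T M).comp α) (chr R T M)
      fun _ _ => .all _ _) (dwt i a x ⊗ₜ[R] MonoidAlgebra.basis (Multiplicative M) R x)) =
      if x = Multiplicative.ofAdd m then α (dwt i a x) else 0 := by
    intro x
    obtain ⟨x, rfl⟩ := Multiplicative.ofAdd.surjective x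
    simp [HomRep.str_apply, HomRep.chr_single, MonoidAlgebra.single_mul_single, HomRep.cf_single]
  simp only [hterm, Finset.sum_ite_eq']
  split_ifs with h
  · rfl
  · rw [Finsupp.notMem_support_iff.1 h, map_zero]

/-- The rational point of an algebra map. -/
def gpt (α : A →ₐ[R] T) : 𝟙_ (Over (sp R T).left) ⟶ Red.bc (sp R T).hom (sp R A) :=
  bcMul (sp R T).hom (sp R A) _ (proj (sp R T) _ ≫ pt α)

theorem exists_gpt (g : 𝟙_ (Over (sp R T).left) ⟶ Red.bc (sp R T).hom (sp R A)) :
    ∃ α : A →ₐ[R] T, gpt α = g := by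
  let e : sp R T ⟶ (Over.map (sp R T).hom).obj (𝟙_ (Over (sp R T).left)) := Over.homMk (𝟙 _) (by
    show 𝟙 _ ≫ 𝟙 _ ≫ _ = _
    simp)
  obtain ⟨α, hα⟩ := DiagRep.exists_pt (e ≫ (bcMul (sp R T).hom (sp R A) _).symm g)
  refine ⟨α, ?_⟩
  rw [gpt, ← hα, ← Category.assoc, show proj (sp R T) (𝟙_ (Over (sp R T).left)) ≫ e = 𝟙 _ from
    Over.OverMorphism.ext (by simp [proj, e]), Category.id_comp, MulEquiv.apply_symm_apply]

/-- The family of the conjugates. -/
def conjFam (α : A →ₐ[R] T) : sp R (GA R M) ⊗ sp R T ⟶ sp R A :=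
  (snd _ _ ≫ pt α) * (fst _ _ ≫ i) * (snd _ _ ≫ pt α)⁻¹

theorem fam_θOf (α : A →ₐ[R] T) : fam (θOf i α) = conjFam i α := by
  rw [← cancel_epi (jH R T M), jH_fam, θOf, pt_comp, pt_dconj, conjFam]
  simp only [MonObj.comp_mul, GrpObj.comp_inv]
  have hL : pt (Algebra.TensorProduct.lift ((str R T M).comp α) (chr R T M) fun _ _ => .all _ _) ≫
      pt (Algebra.TensorProduct.includeLeft : A →ₐ[R] A ⊗[R] GA R M) = jH R T M ≫ snd _ _ ≫ pt α := by
    rw [← pt_comp, jH, lift_snd_assoc, ← pt_comp]
    congr 1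
    exact AlgHom.ext fun a => by simp
  have hR : pt (Algebra.TensorProduct.lift ((str R T M).comp α) (chr R T M) fun _ _ => .all _ _) ≫
      pt (Algebra.TensorProduct.includeRight : GA R M →ₐ[R] A ⊗[R] GA R M) = jH R T M ≫ fst _ _ := by
    rw [← pt_comp, jH, lift_fst]
    congr 1
    exact AlgHom.ext fun a => by simp
  rw [hL, reassoc_of% hR]

theorem fhom_θOf (α : A →ₐ[R] T) :
    fhom (θOf i α) = AGF.conjBy (gpt α) ((Over.pullback (sp R T).hom).map i) := by
  rw [fhom, fam_θOf, homOf, conjFam]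
  simp only [MonObj.comp_mul, GrpObj.comp_inv, lift_snd_assoc, lift_fst_assoc]
  show bcMul (sp R T).hom (sp R A) _ _ = _
  simp only [map_mul, map_inv]
  have h1 : ∀ Z, bcMul (sp R T).hom (sp R A) Z (proj (sp R T) Z ≫ pt α) = toUnit Z ≫ gpt α := by
    intro Z
    rw [gpt, bcMul_precomp, ← Category.assoc]
    congr 2
  have h2 : bcMul (sp R T).hom (sp R A) _ ((HomRep.bcEquiv (sp R T).hom (sp R (GA R M)) _).symm
      (𝟙 (Red.bc (sp R T).hom (sp R (GA R M)))) ≫ i) = (Over.pullback (sp R T).hom).map i := by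
    refine ((Adjunction.homEquiv_naturality_right (Over.mapPullbackAdj (sp R T).hom) _ i)).trans ?_
    rw [Equiv.apply_symm_apply, Category.id_comp]
  rw [h1, h2]

theorem cmp_θOf [IsMonHom i] (α : A →ₐ[R] T) : Cmp (θOf i α) := by
  haveI : IsMonHom (homOf (fam (θOf i α))) := by
    show IsMonHom (fhom (θOf i α))
    rw [fhom_θOf, DiagRep.conjBy_eq_comp]
    haveI : IsMonHom (M := Red.bc (sp R T).hom (sp R (GA R M))) (N := Red.bc (sp R T).hom (sp R A))
        ((Over.pullback (sp R T).hom).map i) := DiagRep.isMonHom_bc_map _ i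
    haveI := DiagRep.isMonHom_conjBy (G := Red.bc (sp R T).hom (sp R A)) (gpt α)
    infer_instance
  exact HomRep.cmp_of_isHomFamily (RedRank.isHomFamily_of_isMonHom (fam (θOf i α)))

/-- Generators and a finite set containing their weights. -/
theorem exists_bound [Algebra.FiniteType R A] :
    ∃ (s : Finset A) (F : Finset M), Algebra.adjoin R (s : Set A) = ⊤ ∧ (0 : M) ∈ F ∧
      ∀ a ∈ s, ∀ m : M, (RCentre.wt i a (Multiplicative.ofAdd m) ≠ 0 ∨ dwt i a (Multiplicative.ofAdd m) ≠ 0) →
        m ∈ F := by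
  classical
  obtain ⟨s, hs⟩ := (inferInstance : Algebra.FiniteType R A).out
  refine ⟨s, insert 0 ((s.biUnion fun a => (RCentre.wt i a).support ∪ (dwt i a).support).image
    Multiplicative.toAdd), hs, Finset.mem_insert_self _ _, fun a ha m hm => ?_⟩
  refine Finset.mem_insert_of_mem (Finset.mem_image.2 ⟨Multiplicative.ofAdd m, Finset.mem_biUnion.2 ⟨a, ha, ?_⟩, rfl⟩)
  rcases hm with hm | hm
  · exact Finset.mem_union_left _ (Finsupp.mem_support_iff.2 hm)
  · exact Finset.mem_union_right _ (Finsupp.mem_support_iff.2 hm)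

/-- **Torsion seeing all weights has the same centralizer as the torus.** -/
theorem goodPair_incl [IsMonHom i] {s : Finset A} (hs : Algebra.adjoin R (s : Set A) = ⊤) {F : Finset M}
    (h0 : (0 : M) ∈ F) (hF : ∀ a ∈ s, ∀ m : M, RCentre.wt i a (Multiplicative.ofAdd m) ≠ 0 → m ∈ F) {n : ℕ}
    (hn : Set.InjOn (QuotientAddGroup.mk' (nsub M n)) (F : Set M)) :
    GoodPair i (incl R (nsub M n) ≫ i) := by
  classical
  intro C c hc
  -- the affine case
  have aff : ∀ (B : Type u) [CommRing B] [Algebra R B] (z : sp R B ⟶ C)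
      (t : sp R B ⟶ sp R (GA R M)), Commute (z ≫ c) (t ≫ i) := by
    intro B _ _ z t
    obtain ⟨α, hα⟩ := DiagRep.exists_pt (z ≫ c)
    obtain ⟨β, rfl⟩ := DiagRep.exists_pt t
    let Q := B ⊗[R] GA R (M ⧸ nsub M n)
    let iL : B →ₐ[R] Q := Algebra.TensorProduct.includeLeft
    let iR : GA R (M ⧸ nsub M n) →ₐ[R] Q := Algebra.TensorProduct.includeRight
    let β₁ : GA R M →ₐ[R] Q := iR.comp (MultTorus.mapChar (R := R) (QuotientAddGroup.mk' (nsub M n)))
    have h1 := RCentre.pair_coact i (𝟙 (sp R Q)) (iL.comp α) β₁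
    have hz := hc (sp R Q) (pt iL ≫ z) (pt iR)
    rw [Category.assoc, hα, ← pt_comp, ← Category.assoc (pt iR) (incl R (nsub M n)) i,
      show pt iR ≫ incl R (nsub M n) = pt β₁ from (pt_comp _ _).symm] at hz
    simp only [Category.id_comp] at h1
    rw [hz.symm.eq, mul_inv_cancel_right] at h1
    have heq := pt_injective h1
    have hco : ∀ a ∈ s, (Algebra.TensorProduct.lift α β fun _ _ => .all _ _) (RCentre.coact i a) = α a := by
      intro a ha
      have h2 := DFunLike.congr_fun heq a
      rw [AlgHom.comp_apply, RCentre.lift_coact] at h2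
      let co : M ⧸ nsub M n → (Q →ₗ[R] B) := fun m' => (TensorProduct.rid R B).toLinearMap ∘ₗ
        TensorProduct.map LinearMap.id
          ((MonoidAlgebra.basis (Multiplicative (M ⧸ nsub M n)) R).coord (Multiplicative.ofAdd m'))
      have hco' : ∀ m' : M ⧸ nsub M n, (∑ x ∈ (RCentre.wt i a).support,
          if QuotientAddGroup.mk' (nsub M n) (Multiplicative.toAdd x) = m' then α (RCentre.wt i a x) else 0) =
          if (0 : M ⧸ nsub M n) = m' then α a else 0 := by
        intro m'
        have h3 := congrArg (co m') h2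
        rw [Finsupp.sum, map_sum] at h3
        have hb : ∀ (w : B) (x : M ⧸ nsub M n),
            co m' (w ⊗ₜ[R] MonoidAlgebra.single (Multiplicative.ofAdd x) 1) = if x = m' then w else 0 := by
          intro w x
          show ((MonoidAlgebra.basis (Multiplicative (M ⧸ nsub M n)) R).repr
            (MonoidAlgebra.single (Multiplicative.ofAdd x) 1) (Multiplicative.ofAdd m')) • w = _
          rw [← MonoidAlgebra.basis_apply, Module.Basis.repr_self, Finsupp.single_apply, ite_smul, one_smul,
            zero_smul]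
          simp
        have hR : (co m') (iL (α a)) = if (0 : M ⧸ nsub M n) = m' then α a else 0 :=
          (hb (α a) 0)
        rw [AlgHom.comp_apply, hR] at h3
        refine Eq.trans (Finset.sum_congr rfl fun x _ => ?_) h3
        obtain ⟨x, rfl⟩ := Multiplicative.ofAdd.surjective x
        rw [show (iL.comp α) (RCentre.wt i a (Multiplicative.ofAdd x)) * β₁ (MonoidAlgebra.single (Multiplicative.ofAdd x) 1) =
          α (RCentre.wt i a (Multiplicative.ofAdd x)) ⊗ₜ[R] MonoidAlgebra.single
            (Multiplicative.ofAdd (QuotientAddGroup.mk' (nsub M n) x)) (1 : R) by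
            simp only [AlgHom.comp_apply, iL, iR, β₁, MultTorus.mapChar_single]
            exact (Algebra.TensorProduct.tmul_mul_tmul (α _) 1 1 _).trans (by
              rw [_root_.mul_one, _root_.one_mul]; rfl), hb]
        rfl
      have hsupp : ∀ x ∈ (RCentre.wt i a).support, Multiplicative.toAdd x ∈ F := fun x hx =>
        hF a ha _ (by simpa using Finsupp.mem_support_iff.1 hx)
      have hne : ∀ x : M, x ≠ 0 → α (RCentre.wt i a (Multiplicative.ofAdd x)) = 0 := by
        intro x hx
        by_cases hxs : Multiplicative.ofAdd x ∈ (RCentre.wt i a).support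
        · have hxF : x ∈ F := by simpa using hsupp _ hxs
          have hxn : QuotientAddGroup.mk' (nsub M n) x ≠ 0 := fun e => hx (hn hxF h0 (by rw [e, map_zero]))
          have h4 := hco' (QuotientAddGroup.mk' (nsub M n) x)
          beta_reduce at h4
          rw [if_neg (Ne.symm hxn), Finset.sum_eq_single (Multiplicative.ofAdd x)] at h4
          · simpa using h4
          · exact fun y hy hyx => if_neg fun e => hyx (Multiplicative.toAdd.injective (hn (hsupp y hy) hxF e))
          · exact fun h => absurd hxs h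
        · rw [Finsupp.notMem_support_iff.1 hxs, map_zero]
      have hz0 : α (RCentre.wt i a 1) = α a := by
        have h4 := hco' 0
        rw [if_pos rfl, Finset.sum_eq_single (1 : Multiplicative M) (fun y _ hy => by
          rw [show α (RCentre.wt i a y) = 0 from hne (Multiplicative.toAdd y) fun e => hy
            (Multiplicative.toAdd.injective e)]
          exact ite_self 0) (fun hy => by rw [Finsupp.notMem_support_iff.1 hy, map_zero]; exact ite_self 0)] at h4
        rwa [if_pos (by simp)] at h4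
      rw [RCentre.lift_coact, Finsupp.sum]
      beta_reduce
      rw [Finset.sum_eq_single (1 : Multiplicative M) (fun y _ hy => by
          rw [show α (RCentre.wt i a y) = 0 from hne (Multiplicative.toAdd y) fun e => hy
            (Multiplicative.toAdd.injective e), zero_mul])
          (fun hy => by rw [Finsupp.notMem_support_iff.1 hy, map_zero, zero_mul]), ← MonoidAlgebra.one_def,
        map_one β, _root_.mul_one, hz0]
    have hall : (Algebra.TensorProduct.lift α β fun _ _ => .all _ _).comp (RCentre.coact i) = α :=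
      AlgHom.ext_of_adjoin_eq_top hs hco
    have h5 := RCentre.pair_coact i (𝟙 (sp R B)) α β
    rw [hall] at h5
    simp only [Category.id_comp] at h5
    show (z ≫ c) * (pt β ≫ i) = (pt β ≫ i) * (z ≫ c)
    rw [hα]
    exact eq_mul_inv_iff_mul_eq.1 h5
  intro X z t
  refine Over.OverMorphism.ext (X.left.affineCover.hom_ext _ _ fun a => ?_)
  let W : Over (Spec (CommRingCat.of R)) := Over.mk (X.left.affineCover.f a ≫ X.hom)
  let b : W ⟶ X := Over.homMk (X.left.affineCover.f a)
  haveI : IsAffine W.left := inferInstanceAs (IsAffine (X.left.affineCover.X a))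
  haveI : IsIso (toSp W).left := inferInstanceAs (IsIso W.left.toSpecΓ)
  haveI : IsIso (toSp W) := by
    haveI : IsIso ((Over.forget _).map (toSp W)) := inferInstanceAs (IsIso (toSp W).left)
    exact isIso_of_reflects_iso (toSp W) (Over.forget _)
  have h := congrArg (toSp W ≫ ·) (aff _ (inv (toSp W) ≫ b ≫ z) (inv (toSp W) ≫ b ≫ t)).eq
  simp only [MonObj.comp_mul, Category.assoc, IsIso.hom_inv_id_assoc] at h
  rw [← MonObj.comp_mul, ← MonObj.comp_mul] at h
  exact congrArg Over.Hom.left h

end Groth.Agent.ToriSch
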