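import Groth.Agent.ToriSchLib.Chart
import Groth.Agent.TransporterLib.SubTop

/-!
# The conjugates of the torsion of a chart
-/

set_option autoImplicit false
set_option linter.style.haveILetI false
set_option linter.unusedSectionVars false
set_option backward.isDefEq.respectTransparency false
set_option maxHeartbeats 2000000
set_option synthInstance.maxHeartbeats 400000

noncomputable section

universe u

open CategoryTheory CategoryTheory.Limits MonoidalCategory CartesianMonoidalCategory AlgebraicGeometry CoactBr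
open scoped MonObj

attribute [-instance] CategoryTheory.Hom.commGroup

namespace Groth.Agent.ToriSch

open Groth.Agent.BorelLib
open Groth.Agent.HomRep (GA)

attribute [local instance] CoactBr.braidedAlgSpecOf

variable {S : Scheme.{u}} {G : Over S} [GrpObj G] [IsAffineHom G.hom] [Smooth G.hom]

/-- The torsion of a chart is finite of multiplicative type. -/
theorem facts_j₀ (c : Chart G) {n : ℕ} (hn : 0 < n) :
    SGA3x.IsMultTypeFT (sp c.R (GA c.R ((Fin c.r → ℤ) ⧸ nsub (Fin c.r → ℤ) n))) ∧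
      IsFinite (sp c.R (GA c.R ((Fin c.r → ℤ) ⧸ nsub (Fin c.r → ℤ) n))).hom := by
  have hi := c.isMaximalTorus_i₀
  haveI := hi.1; haveI := hi.2.1
  haveI := (c.mono_j₀ n).1; haveI := (c.mono_j₀ n).2
  obtain ⟨K, _, j, hj, hjm, hK, hKf, ht⟩ := exists_isTorsion hi.2.2.1 c.i₀ hn
  haveI := hj; haveI := hjm; haveI := hKf
  obtain ⟨φ, hφ⟩ := (c.isTorsion₀ n).exists_iso ht
  haveI : IsMonHom (φ.hom ≫ c.j₀ n) := by rw [hφ]; infer_instance
  haveI : IsMonHom φ.hom := DiagRep.isMonHom_of_comp_mono φ.hom (c.j₀ n)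
  refine ⟨isMultTypeFT_congr hK φ, ?_⟩
  haveI : IsIso φ.inv.left := (Over.forget _).map_isIso φ.inv
  rw [← Over.w φ.inv]
  infer_instance

/-- Points of `M` which are conjugate to the torsion of the chart, with the conjugating element. -/
structure Patch (D : Univ G) (n : ℕ) (c : Chart G) where
  W : Scheme.{u}
  mu : W ⟶ D.M.left
  rho : W ⟶ Spec (CommRingCat.of c.R)
  eq : mu ≫ D.M.hom = rho ≫ c.g
  gW : 𝟙_ (Over W) ⟶ Red.bc (rho ≫ c.g) G
  conj : SGA3x.ConjBy (bcTo rho rfl (c.j₀ n)) (bcTo mu eq D.j) gW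
  smooth_mu : Smooth mu
  lift : ∀ {X : Scheme.{u}} (m : X ⟶ D.M.left) (r : X ⟶ Spec (CommRingCat.of c.R)) {x : X ⟶ S}
    (hm : m ≫ D.M.hom = x) (hr : r ≫ c.g = x) (g : 𝟙_ (Over X) ⟶ Red.bc x G),
    SGA3x.ConjBy (bcTo r hr (c.j₀ n)) (bcTo m hm D.j) g →
      ∃ t : X ⟶ W, t ≫ mu = m ∧ t ≫ rho = r ∧ t ≫ secG gW = secG g
  hom_ext : ∀ {X : Scheme.{u}} (t t' : X ⟶ W), t ≫ mu = t' ≫ mu → t ≫ rho = t' ≫ rho →
    t ≫ secG gW = t' ≫ secG gW → t = t'

/-- **Every chart has its patch.** -/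
theorem exists_patch (D : Univ G) {n : ℕ} (hn : 0 < n) (c : Chart G) : Nonempty (Patch D n c) := by
  let Y := pullback D.M.hom c.g
  let p1 : Y ⟶ D.M.left := pullback.fst D.M.hom c.g
  let p2 : Y ⟶ Spec (CommRingCat.of c.R) := pullback.snd D.M.hom c.g
  let d : Y ⟶ S := p1 ≫ D.M.hom
  have h2 : p2 ≫ c.g = d := pullback.condition.symm
  haveI := (c.mono_j₀ n).1; haveI := (c.mono_j₀ n).2
  let j₂ := bcTo p2 h2 (c.j₀ n)
  let j₁ := bcTo (G := G) p1 (rfl : p1 ≫ D.M.hom = d) D.j
  haveI : IsMonHom j₂ := isMonHom_bcTo p2 h2 (c.j₀ n)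
  haveI : Mono j₂ := mono_bcTo p2 h2 (c.j₀ n)
  haveI : IsMonHom j₁ := isMonHom_bcTo p1 rfl D.j
  haveI : Mono j₁ := mono_bcTo p1 rfl D.j
  have hsm : Smooth (Red.bc d G).hom := MorphismProperty.pullback_snd (P := @Smooth) _ _ inferInstance
  obtain ⟨T, jT, hjT, hT, hTu⟩ := Transporter.exists_smooth_subgroupTransporter
    (DescHom.isMultTypeFT_bc (facts_j₀ c hn).1 p2) (DescHom.isMultTypeFT_bc D.mult p1) hsm
    (RedRank.isAffineHom_bc G d) j₂ j₁
  haveI := hjT; haveI := hT
  haveI : Mono jT := Over.mono_of_mono_left jT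
  let a : T.left ⟶ Y := T.hom
  let rho := a ≫ p2
  let mu := a ≫ p1
  have eq : mu ≫ D.M.hom = rho ≫ c.g := by simp [mu, rho, Category.assoc, h2, d]
  have had : a ≫ d = rho ≫ c.g := by simp [rho, Category.assoc, h2]
  have hjs : jT.left ≫ pullback.snd G.hom d = a := Over.w jT
  have hγ : (jT.left ≫ pullback.fst G.hom d) ≫ G.hom = rho ≫ c.g := by
    rw [Category.assoc, pullback.condition, ← Category.assoc, hjs, had]
  let gW := secOf (G := G) (rho ≫ c.g) (jT.left ≫ pullback.fst G.hom d) hγ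
  -- sections over the members as points of the transporter
  have key : ∀ {X : Scheme.{u}} (b : X ⟶ Y) {x : X ⟶ S} (hx : b ≫ d = x) (g : 𝟙_ (Over X) ⟶ Red.bc x G)
      (q : (Over.map b).obj (𝟙_ (Over X)) ⟶ Red.bc d G), q.left ≫ pullback.fst G.hom d = secG g →
      (SGA3x.ConjBy (bcTo b hx j₂) (bcTo b hx j₁) g ↔ ∃ t, t ≫ jT = q) := by
    intro X b x hx g q hq
    rw [hTu, ← Transporter.conjPts_bc b j₂ j₁ q]
    let e := ActBC.bcCompIso b d G hx
    haveI : IsMonHom e.hom := ActBC.bcCompIso_isMonHom _ _ _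
    haveI : IsMonHom e.inv := inferInstance
    let g₁ : 𝟙_ (Over X) ⟶ Red.bc b (Red.bc d G) := (Over.mapPullbackAdj b).homEquiv _ _ q
    have hg : g₁ ≫ e.hom = g := by
      refine sec_ext ?_
      show (g₁ ≫ e.hom).left ≫ pullback.fst G.hom x = _
      rw [Over.comp_left, Category.assoc, ActBC.bcCompIso_hom_left_fst, ← hq]
      simp [g₁, Over.mapPullbackAdj]
    have hg' : g ≫ e.inv = g₁ := by rw [← hg, Category.assoc, Iso.hom_inv_id, Category.comp_id]
    haveI : Mono ((Over.pullback b).map j₂) := mono_bc b j₂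
    haveI : Mono ((Over.pullback b).map j₁) := mono_bc b j₁
    constructor
    · intro h
      refine Transporter.conjPts_of_conjBy ?_
      have h' := conjBy_comp_iso e.inv h
      rw [hg'] at h'
      exact conjBy_congr h' (Same.of_eq (by simp [bcTo, e])) (Same.of_eq (by simp [bcTo, e]))
    · intro h
      have h' := conjBy_comp_iso e.hom (Transporter.conjBy_of_conjPts h)
      rw [hg] at h'
      exact h'
  refine ⟨{
    W := T.left
    mu := mu
    rho := rho
    eq := eq
    gW := gW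
    conj := ?_
    smooth_mu := ?_
    lift := ?_
    hom_ext := ?_ }⟩
  · let q : (Over.map a).obj (𝟙_ (Over T.left)) ⟶ Red.bc d G :=
      Over.homMk jT.left (by
        show jT.left ≫ pullback.snd G.hom d = 𝟙 _ ≫ a
        rw [Category.id_comp, hjs])
    have h := (key a had gW q (by simp [gW, q])).2
      ⟨Over.homMk (𝟙 _) (by show 𝟙 _ ≫ T.hom = 𝟙 _ ≫ a; rfl), Over.OverMorphism.ext (Category.id_comp _)⟩
    exact conjBy_congr h (same_bcTo_bcTo p2 h2 a had rfl rfl (c.j₀ n)).symm
      (same_bcTo_bcTo p1 rfl a had rfl eq D.j)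
  · haveI : Etale p1 := MorphismProperty.pullback_fst (P := @Etale) _ _ inferInstance
    show Smooth (a ≫ p1)
    infer_instance
  · intro X m r x hm hr g hg
    let b : X ⟶ Y := pullback.lift m r (hm.trans hr.symm)
    have hb1 : b ≫ p1 = m := pullback.lift_fst _ _ _
    have hb2 : b ≫ p2 = r := pullback.lift_snd _ _ _
    have hx : b ≫ d = x := by simp [d, reassoc_of% hb1, hm]
    let q : (Over.map b).obj (𝟙_ (Over X)) ⟶ Red.bc d G :=
      Over.homMk (pullback.lift (secG g) b (by rw [secG_comp, hx])) (by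
        show pullback.lift _ _ _ ≫ pullback.snd G.hom d = 𝟙 _ ≫ b
        rw [pullback.lift_snd, Category.id_comp])
    obtain ⟨t, ht⟩ := (key b hx g q (pullback.lift_fst _ _ _)).1
      (conjBy_congr hg (same_bcTo_bcTo p2 h2 b hx hb2 hr (c.j₀ n))
        (same_bcTo_bcTo p1 rfl b hx hb1 hm D.j).symm)
    have hta : t.left ≫ a = b := (Over.w t).trans (Category.id_comp b)
    refine ⟨t.left, ?_, ?_, ?_⟩
    · exact (Category.assoc _ _ _).symm.trans ((congrArg (· ≫ p1) hta).trans hb1)
    · exact (Category.assoc _ _ _).symm.trans ((congrArg (· ≫ p2) hta).trans hb2)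
    · rw [secG_secOf, ← Category.assoc, ← Over.comp_left, ht]
      exact pullback.lift_fst _ _ _
  · intro X t t' h1 h2' h3
    haveI : Mono jT.left := inferInstance
    refine (cancel_mono jT.left).1 (pullback.hom_ext ?_ ?_)
    · simpa [gW] using h3
    · rw [Category.assoc, Category.assoc, hjs]
      exact pullback.hom_ext (by simpa [mu] using h1) (by simpa [rho] using h2')

end Groth.Agent.ToriSch
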