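import Groth.Agent.ToriSchLib.Main
import Groth.Agent.S4115
import Groth.Agent.S4117

/-!
# Schemes of maximal tori over the affine opens of the base
-/

set_option autoImplicit false
set_option linter.style.haveILetI false
set_option linter.unusedSectionVars false
set_option backward.isDefEq.respectTransparency false
set_option maxHeartbeats 2000000
set_option synthInstance.maxHeartbeats 400000

noncomputable section

universe u

open CategoryTheory CategoryTheory.Limits MonoidalCategory CartesianMonoidalCategory AlgebraicGeometry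
open scoped MonObj

attribute [-instance] CategoryTheory.Hom.commGroup

namespace Groth.Agent.ToriSch

open Groth.Agent.BorelLib

variable {S : Scheme.{u}} {G : Over S} [GrpObj G]

/-- Nothing happens along the identity. -/
theorem same_bcTo_id {X : Scheme.{u}} {x : X ⟶ S} {T : Over X} (i : T ⟶ Red.bc x G) :
    Same (bcTo (𝟙 X) (Category.id_comp x) i) i := by
  haveI : IsIso (pullback.fst T.hom (𝟙 X)) := inferInstance
  refine ⟨Over.isoMk (asIso (pullback.fst T.hom (𝟙 X))) (pullback.condition.trans (Category.comp_id _)), bc_ext ?_⟩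
  rw [bcTo_left_fst, Over.comp_left, Category.assoc]
  rfl

/-- `v` classifies the subgroup `i'`. -/
def Cls {M : Scheme.{u}} {h : M ⟶ S} {T : Over M} (i : T ⟶ Red.bc h G) {X : Scheme.{u}} (f : X ⟶ S) {T' : Over X}
    (i' : T' ⟶ Red.bc f G) (v : X ⟶ M) : Prop :=
  ∃ hv : v ≫ h = f, Same i' (bcTo v hv i)

theorem Cls.trans {M N : Scheme.{u}} {h : M ⟶ S} {k : N ⟶ S} {T : Over M} {T₁ : Over N} {i : T ⟶ Red.bc h G}
    {i₁ : T₁ ⟶ Red.bc k G} {r : N ⟶ M} (hr : Cls i k i₁ r) {X : Scheme.{u}} {f : X ⟶ S} {T' : Over X}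
    {i' : T' ⟶ Red.bc f G} {v : X ⟶ N} (hv : Cls i₁ f i' v) : Cls i f i' (v ≫ r) := by
  obtain ⟨er, sr⟩ := hr
  obtain ⟨ev, sv⟩ := hv
  exact ⟨by rw [Category.assoc, er, ev],
    (sv.trans (sr.bcTo v ev)).trans (same_bcTo_bcTo r er v ev rfl (by rw [Category.assoc, er, ev]) i)⟩

theorem cls_self {M : Scheme.{u}} {h : M ⟶ S} {T : Over M} (i : T ⟶ Red.bc h G) {X : Scheme.{u}} (v : X ⟶ M)
    {f : X ⟶ S} (hv : v ≫ h = f) : Cls i f (bcTo v hv i) v :=
  ⟨hv, Same.refl _⟩

theorem cls_id {M : Scheme.{u}} {h : M ⟶ S} {T : Over M} (i : T ⟶ Red.bc h G) : Cls i h i (𝟙 M) :=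
  ⟨Category.id_comp h, (same_bcTo_id i).symm⟩

/-- A scheme of maximal tori over an affine open. -/
structure RepOn (G : Over S) [GrpObj G] (U : S.affineOpens) where
  M : Scheme.{u}
  h : M ⟶ (U.1 : Scheme.{u})
  T : Over M
  grp : GrpObj T
  i : T ⟶ Red.bc (h ≫ U.1.ι) G
  max : Red.IsMaximalTorus i
  smooth : Smooth h
  affine : IsAffineHom h
  univ : ∀ {X : Scheme.{u}} (f : X ⟶ S), Set.range f ⊆ (U.1 : Set S) → ∀ (T' : Over X) [GrpObj T']
    (i' : T' ⟶ Red.bc f G), Red.IsMaximalTorus i' → ∃! v : X ⟶ M, Cls i f i' v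

attribute [instance] RepOn.grp

theorem bcTo_comp_bcCompIso {U : Scheme.{u}} (o : U ⟶ S) {Y X : Scheme.{u}} {y : Y ⟶ U} {ys : Y ⟶ S} (hy : y ≫ o = ys)
    (v : X ⟶ Y) {f : X ⟶ U} (hv : v ≫ y = f) {fs : X ⟶ S} (hf : f ≫ o = fs) (hv' : v ≫ ys = fs) {T : Over Y}
    (i : T ⟶ Red.bc y (Red.bc o G)) :
    bcTo v hv' (i ≫ (ActBC.bcCompIso y o G hy).hom) = bcTo v hv i ≫ (ActBC.bcCompIso f o G hf).hom := by
  refine bc_ext ?_
  rw [bcTo_left_fst, Over.comp_left, Category.assoc, ActBC.bcCompIso_hom_left_fst, Over.comp_left, Category.assoc,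
    ActBC.bcCompIso_hom_left_fst, ← Category.assoc ((bcTo v hv i).left), bcTo_left_fst]
  simp only [Category.assoc]

variable [IsAffineHom G.hom] [Smooth G.hom]

/-- The hypothesis passes to an open. -/
theorem redRank_restrict (hG : SGA3x.HasMaxTorusFpqcLocally G) {Y : Scheme.{u}} (y : Y ⟶ S) :
    SGA3x.RedRankLocallyConstant (Red.bc y G) := by
  haveI : QuasiCompact G.hom := inferInstance
  haveI : Smooth (Red.bc y G).hom := MorphismProperty.pullback_snd (P := @Smooth) _ _ inferInstance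
  haveI := RedRank.isAffineHom_bc G y
  obtain ⟨S', f, hf, hfs, T, _, i, hi⟩ := S4117.result S G hG
  haveI := hf; haveI := hfs
  let p : pullback f y ⟶ S' := pullback.fst f y
  let q : pullback f y ⟶ Y := pullback.snd f y
  let e := ActBC.bcCompIso q y G (rfl : q ≫ y = q ≫ y)
  haveI : IsMonHom e.hom := ActBC.bcCompIso_isMonHom _ _ _
  haveI : IsMonHom e.symm.hom := inferInstanceAs (IsMonHom e.inv)
  haveI : Smooth (Red.bc (q ≫ y) G).hom := MorphismProperty.pullback_snd (P := @Smooth) _ _ inferInstance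
  haveI := RedRank.isAffineHom_bc G (q ≫ y)
  haveI := hi.1; haveI := hi.2.1
  refine (S4115.result Y (Red.bc y G)).2 ⟨pullback f y, q, MorphismProperty.pullback_snd (P := @Etale) _ _ hf,
    MorphismProperty.pullback_snd (P := @Surjective) _ _ hfs, Red.bc p T, inferInstance,
    bcTo (G := G) p (pullback.condition : p ≫ f = q ≫ y) i ≫ e.inv, ?_⟩
  exact MaxTorConj.isMaximalTorus_iso e.symm (isMaximalTorus_bcTo p pullback.condition hi)

theorem exists_repOn (hG : SGA3x.HasMaxTorusFpqcLocally G) (U : S.affineOpens) : Nonempty (RepOn G U) := by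
  haveI : IsAffine (U.1 : Scheme.{u}) := U.2
  haveI : Smooth (Red.bc U.1.ι G).hom := MorphismProperty.pullback_snd (P := @Smooth) _ _ inferInstance
  haveI := RedRank.isAffineHom_bc G U.1.ι
  obtain ⟨R⟩ := exists_rep_affine (redRank_restrict hG U.1.ι)
  let e := ActBC.bcCompIso R.M.hom U.1.ι G rfl
  haveI : IsMonHom e.hom := ActBC.bcCompIso_isMonHom _ _ _
  refine ⟨⟨R.M.left, R.M.hom, R.T, R.grp, R.i ≫ e.hom, MaxTorConj.isMaximalTorus_iso e R.max, R.smooth, R.affine,
    fun {X} f hf T' _ i' hi' => ?_⟩⟩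
  let w : X ⟶ U.1 := IsOpenImmersion.lift U.1.ι f (by rw [Scheme.Opens.range_ι]; exact hf)
  have hw : w ≫ U.1.ι = f := IsOpenImmersion.lift_fac _ _ _
  let ew := ActBC.bcCompIso w U.1.ι G hw
  haveI : IsMonHom ew.hom := ActBC.bcCompIso_isMonHom _ _ _
  haveI : IsMonHom ew.symm.hom := inferInstanceAs (IsMonHom ew.inv)
  haveI : Smooth (Red.bc f G).hom := MorphismProperty.pullback_snd (P := @Smooth) _ _ inferInstance
  haveI := RedRank.isAffineHom_bc G f
  obtain ⟨v, ⟨hv, hs⟩, hu⟩ := R.univ w T' (i' ≫ ew.inv) (MaxTorConj.isMaximalTorus_iso ew.symm hi')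
  have hv' : v ≫ R.M.hom ≫ U.1.ι = f := by rw [← Category.assoc, hv, hw]
  refine ⟨v, ⟨hv', ?_⟩, fun v' ⟨hv₁, hs₁⟩ => ?_⟩
  · rw [bcTo_comp_bcCompIso U.1.ι rfl v hv hw hv' R.i]
    have := hs.map_comp ew.hom
    rwa [Category.assoc, Iso.inv_hom_id, Category.comp_id] at this
  · have hv₂ : v' ≫ R.M.hom = w := by rw [← cancel_mono U.1.ι, Category.assoc, hw]; exact hv₁
    refine hu v' ⟨hv₂, ?_⟩
    rw [bcTo_comp_bcCompIso U.1.ι rfl v' hv₂ hw hv₁ R.i] at hs₁
    have := hs₁.map_comp ew.inv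
    rwa [Category.assoc, Iso.hom_inv_id, Category.comp_id] at this

end Groth.Agent.ToriSch
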