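import Groth.Agent.ToriSchLib.Modulus
import Groth.Agent.RCentreLib.Torus

/-!
# Toral torsion subgroups specialise to toral torsion subgroups
-/

set_option autoImplicit false
set_option linter.style.haveILetI false
set_option linter.unusedSectionVars false
set_option backward.isDefEq.respectTransparency false
set_option maxHeartbeats 2000000
set_option synthInstance.maxHeartbeats 400000

noncomputable section

universe u

open CategoryTheory CategoryTheory.Limits MonoidalCategory CartesianMonoidalCategory AlgebraicGeometry CoactBr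
open Opposite
open scoped MonObj TensorProduct
open WithConv (toConv ofConv)

attribute [-instance] CategoryTheory.Hom.commGroup

namespace Groth.Agent.ToriSch

open Groth.Agent.HomRep (GA cf ext_cf mapChr cmap chr str jH fam jH_fam Cmp)
open Groth.Agent.RCentre (incl)

attribute [local instance] CoactBr.braidedAlgSpecOf

theorem cf_mapChr {R T : Type u} [CommRing R] [CommRing T] [Algebra R T] {M N : Type} [AddCommGroup M]
    [AddCommGroup N] (f : M →+ N) (F : Finset M) (hf : Set.InjOn f (F : Set M)) (x : GA T M)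
    (hx : ∀ m, cf m x ≠ 0 → m ∈ F) {m : M} (hm : m ∈ F) : cf (f m) (mapChr (R := R) f x) = cf m x := by
  classical
  have hx' : x = ∑ n ∈ F, MonoidAlgebra.single (Multiplicative.ofAdd n) (cf n x) := ext_cf fun n => by
    rw [map_sum]
    simp only [HomRep.cf_single, Finset.sum_ite_eq']
    split_ifs with hn
    · rfl
    · by_contra h'
      exact hn (hx n h')
  conv_lhs => rw [hx']
  rw [map_sum, map_sum]
  simp only [HomRep.mapChr_single, HomRep.cf_single]
  rw [Finset.sum_eq_single m (fun b hb hbm => if_neg fun e => hbm (hf hb hm e)) (fun h => absurd hm h), if_pos rfl]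

theorem mapChr_comp {R T : Type u} [CommRing R] [CommRing T] [Algebra R T] {M N P : Type} [AddCommGroup M]
    [AddCommGroup N] [AddCommGroup P] (f : M →+ N) (g : N →+ P) :
    (mapChr (R := R) (T := T) g).comp (mapChr f) = mapChr (g.comp f) :=
  AlgHom.ext fun x => by
    induction x using MonoidAlgebra.induction_linear with
    | zero => simp
    | add p q hp hq => simp only [map_add, hp, hq]
    | single m t =>
      obtain ⟨m, rfl⟩ := Multiplicative.ofAdd.surjective m
      simp [HomRep.mapChr_single]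

theorem cmap_injective {R T T' : Type u} [CommRing R] [CommRing T] [Algebra R T] [CommRing T'] [Algebra R T']
    {M : Type} [AddCommGroup M] {g : T →ₐ[R] T'} (hg : Function.Injective g) :
    Function.Injective (cmap (M := M) g) := fun x y h => ext_cf fun m => hg (by
  rw [← HomRep.cf_cmap, ← HomRep.cf_cmap, h])

theorem aug_cmap {R T T' : Type u} [CommRing R] [CommRing T] [Algebra R T] [CommRing T'] [Algebra R T']
    {M : Type} [AddCommGroup M] (g : T →ₐ[R] T') (x : GA T M) :
    HomRep.aug (R := R) (cmap g x) = g (HomRep.aug (R := R) x) := by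
  induction x using MonoidAlgebra.induction_linear with
  | zero => simp
  | add p q hp hq => simp only [map_add, hp, hq]
  | single m t => simp [HomRep.aug, cmap]

variable {R : Type u} [CommRing R] {A : Type u} [CommRing A] [HopfAlgebra R A] {r : ℕ}

/-- `n` sees the weights of the torus on generators of the functions of the group. -/
structure Level (i : sp R (GA R (Fin r → ℤ)) ⟶ sp R A) (n : ℕ) : Prop where
  pos : 0 < n
  data : ∃ (s : Finset A) (F : Finset (Fin r → ℤ)), Algebra.adjoin R (s : Set A) = ⊤ ∧ (0 : Fin r → ℤ) ∈ F ∧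
    (∀ a ∈ s, ∀ m : Fin r → ℤ,
      (RCentre.wt i a (Multiplicative.ofAdd m) ≠ 0 ∨ dwt i a (Multiplicative.ofAdd m) ≠ 0) → m ∈ F) ∧
    Set.InjOn (QuotientAddGroup.mk' (nsub (Fin r → ℤ) n)) (F : Set (Fin r → ℤ)) ∧
    ∀ S ⊆ F, AddSubgroup.closure (S : Set (Fin r → ℤ)) ⊔ nsub (Fin r → ℤ) n = ⊤ →
      AddSubgroup.closure (S : Set (Fin r → ℤ)) = ⊤

theorem exists_level (i : sp R (GA R (Fin r → ℤ)) ⟶ sp R A) [Algebra.FiniteType R A] : ∃ n, Level i n := by
  obtain ⟨s, F, hs, h0, hF⟩ := exists_bound i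
  obtain ⟨n, hn, h1, h2⟩ := exists_modulus F
  exact ⟨n, hn, s, F, hs, h0, hF, h1, h2⟩

theorem Level.of_dvd {i : sp R (GA R (Fin r → ℤ)) ⟶ sp R A} {n n' : ℕ} (h : Level i n) (hd : n ∣ n')
    (hn' : 0 < n') : Level i n' := by
  obtain ⟨s, F, hs, h0, hF, h1, h2⟩ := h.data
  have hle : nsub (Fin r → ℤ) n' ≤ nsub (Fin r → ℤ) n := by
    rintro x ⟨y, rfl⟩
    obtain ⟨c, rfl⟩ := hd
    exact ⟨c • y, by simp [← mul_nsmul', _root_.mul_assoc]⟩
  refine ⟨hn', s, F, hs, h0, hF, fun x hx y hy hxy => h1 hx hy ?_, fun S hS htop => h2 S hS (eq_top_iff.2 ?_)⟩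
  · exact (QuotientAddGroup.eq (s := nsub (Fin r → ℤ) n)).2 (hle (QuotientAddGroup.eq.1 hxy))
  · rw [← htop]
    exact sup_le_sup_left hle _

theorem Level.goodPair {i : sp R (GA R (Fin r → ℤ)) ⟶ sp R A} [IsMonHom i] {n : ℕ} (h : Level i n) :
    GoodPair i (incl R (nsub (Fin r → ℤ) n) ≫ i) := by
  obtain ⟨s, F, hs, h0, hF, h1, -⟩ := h.data
  exact goodPair_incl i hs h0 (fun a ha m hm => hF a ha m (Or.inl hm)) h1

/-- **Specialisation.** -/
theorem exists_torsion_special [IsAffineHom (sp R A).hom] [Smooth (sp R A).hom]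
    {i : sp R (GA R (Fin r → ℤ)) ⟶ sp R A} (hi : Red.IsMaximalTorus i) {n : ℕ} (hn : Level i n)
    {V Ω k : Type u} [CommRing V] [Algebra R V] [Field Ω] [Algebra R Ω] [Field k] [IsAlgClosed k] [Algebra R k]
    (jV : V →ₐ[R] Ω) (hjV : Function.Injective jV) (e : V →ₐ[R] k) {N : Type} [AddCommGroup N]
    {ψ : A →ₐ[R] GA V N} (hψ : Cmp ψ) (hmΩ : Mono (fhom ((cmap jV).comp ψ))) (hmk : Mono (fhom ((cmap e).comp ψ)))
    (g : 𝟙_ (Over (sp R Ω).left) ⟶ Red.bc (sp R Ω).hom (sp R A))
    (hg : IsTorsion (G := Red.bc (sp R Ω).hom (sp R A))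
      (AGF.conjBy g ((Over.pullback (sp R Ω).hom).map i)) (fhom ((cmap jV).comp ψ)) n) :
    ∃ g' : 𝟙_ (Over (sp R k).left) ⟶ Red.bc (sp R k).hom (sp R A),
      IsTorsion (G := Red.bc (sp R k).hom (sp R A))
        (AGF.conjBy g' ((Over.pullback (sp R k).hom).map i)) (fhom ((cmap e).comp ψ)) n := by
  classical
  haveI := hi.1; haveI := hi.2.1
  haveI := hmΩ; haveI := hmk
  obtain ⟨s, F, hs, h0, hF, hinj, hsat⟩ := hn.data
  let L := nsub (Fin r → ℤ) n
  let π : (Fin r → ℤ) →+ (Fin r → ℤ) ⧸ L := QuotientAddGroup.mk' L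
  obtain ⟨hjm, hjc, hjmono⟩ := RCentre.facts_incl (R := R) L
  haveI := hjm; haveI := hjmono
  -- over the generic point
  let F₁ := Over.pullback (sp R Ω).hom
  obtain ⟨α, rfl⟩ := exists_gpt g
  rw [← fhom_θOf i α] at hg
  let θΩ := θOf i α
  have hθΩ : Cmp θΩ := cmp_θOf i α
  haveI := isMonHom_fhom hθΩ
  haveI := isMonHom_fhom (hψ.map jV)
  haveI : Mono (fhom θΩ) := by
    show Mono (fhom (θOf i α))
    rw [fhom_θOf, DiagRep.conjBy_eq_comp]
    haveI : Mono (F₁.map i) := BorelLib.mono_bc (sp R Ω).hom i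
    haveI := DiagRep.isIso_conjBy (G := Red.bc (sp R Ω).hom (sp R A)) (gpt α)
    infer_instance
  haveI : IsMonHom (M := Red.bc (sp R Ω).hom (sp R (GA R ((Fin r → ℤ) ⧸ L))))
      (N := Red.bc (sp R Ω).hom (sp R (GA R (Fin r → ℤ)))) (F₁.map (incl R L)) :=
    DiagRep.isMonHom_bc_map (sp R Ω).hom (incl R L)
  haveI : Mono (F₁.map (incl R L)) := BorelLib.mono_bc (sp R Ω).hom (incl R L)
  have ht₁ := ((isTorsion_incl (R := R) (M := Fin r → ℤ) n).bc (sp R Ω).hom).comp_mono (fhom θΩ)
  rw [CategoryTheory.Functor.map_id, Category.id_comp] at ht₁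
  obtain ⟨u, hu⟩ := hg.exists_iso ht₁
  haveI : IsMonHom u.hom := by
    haveI : IsMonHom (u.hom ≫ fhom ((cmap jV).comp ψ)) := by rw [hu]; infer_instance
    exact DiagRep.isMonHom_of_comp_mono u.hom (fhom ((cmap jV).comp ψ))
  obtain ⟨τ, hτ⟩ := exists_addEquiv (R := R) u
  rw [hτ, map_pt_fhom, show incl R L = pt (MultTorus.mapChar (R := R) π) from rfl, map_pt_fhom] at hu
  have hΩ : (mapChr π).comp θΩ = (mapChr τ.toAddMonoidHom).comp ((cmap jV).comp ψ) := (fhom_injective hu).symm
  -- over the valuation ring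
  have hsuppΩ : ∀ a ∈ s, ∀ m, cf m (θΩ a) ≠ 0 → m ∈ F := fun a ha m hm => hF a ha m (Or.inr fun h => hm (by
    show cf m (θOf i α a) = 0
    rw [cf_θOf, h, map_zero]))
  have hle : Algebra.adjoin R (s : Set A) ≤ (cmap (M := Fin r → ℤ) jV).range.comap θΩ := by
    refine Algebra.adjoin_le fun a ha => ?_
    refine ⟨∑ m ∈ F, MonoidAlgebra.single (Multiplicative.ofAdd m) (cf (π m) (mapChr (R := R) τ.toAddMonoidHom (ψ a))),
      ext_cf fun m => ?_⟩
    show cf m (cmap jV _) = cf m (θΩ a)
    rw [HomRep.cf_cmap, map_sum]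
    simp only [HomRep.cf_single, Finset.sum_ite_eq']
    split_ifs with hm
    · rw [← cf_mapChr (R := R) π F hinj (θΩ a) (hsuppΩ a ha) hm]
      show _ = cf (π m) ((mapChr π).comp θΩ a)
      rw [hΩ, ← HomRep.cf_cmap]
      congr 1
      exact DFunLike.congr_fun (HomRep.cmap_mapChr jV τ.toAddMonoidHom) (ψ a)
    · rw [map_zero]
      by_contra h
      exact hm (hsuppΩ a ha m (Ne.symm h))
  let E := AlgEquiv.ofInjective (cmap (M := Fin r → ℤ) jV) (cmap_injective hjV)
  let θV : A →ₐ[R] GA V (Fin r → ℤ) := E.symm.toAlgHom.comp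
    (θΩ.codRestrict (cmap (M := Fin r → ℤ) jV).range fun a => hle (hs.ge (trivial : a ∈ ⊤)))
  have hθV : (cmap jV).comp θV = θΩ := AlgHom.ext fun a =>
    congrArg Subtype.val (E.apply_symm_apply _)
  have hV : (mapChr π).comp θV = (mapChr τ.toAddMonoidHom).comp ψ := by
    refine AlgHom.ext fun a => cmap_injective hjV ?_
    show (cmap jV).comp ((mapChr π).comp θV) a = (cmap jV).comp ((mapChr τ.toAddMonoidHom).comp ψ) a
    rw [← AlgHom.comp_assoc, HomRep.cmap_mapChr, AlgHom.comp_assoc, hθV, hΩ, ← AlgHom.comp_assoc (mapChr _),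
      ← HomRep.cmap_mapChr, AlgHom.comp_assoc]
  have hCV : Cmp θV := by
    constructor
    · refine WithConv.ofConv_injective (AlgHom.ext fun a => cmap_injective hjV ?_)
      have h := DFunLike.congr_fun (congrArg WithConv.ofConv hθΩ.mul) a
      rw [← hθV] at h
      simp only [← AlgHom.comp_assoc, ← HomRep.cmap_mapChr] at h
      simp only [AlgHom.comp_assoc] at h
      rw [← AlgHom.comp_apply (cmap jV), AlgHom.comp_convMul_distrib]
      simpa only [WithConv.ofConv_toConv, AlgHom.comp_apply] using h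
    · refine AlgHom.ext fun a => hjV ?_
      rw [AlgHom.comp_apply, ← aug_cmap, ← AlgHom.comp_apply (cmap jV), hθV, ← AlgHom.comp_apply, hθΩ.one]
      exact (jV.commutes _).symm
  -- over the closed point
  let F₂ := Over.pullback (sp R k).hom
  let θk := (cmap e).comp θV
  have hθk : Cmp θk := hCV.map e
  haveI := isMonHom_fhom hθk
  haveI := isMonHom_fhom (hψ.map e)
  have hk : (mapChr π).comp θk = (mapChr τ.toAddMonoidHom).comp ((cmap e).comp ψ) := by
    show (mapChr π).comp ((cmap e).comp θV) = _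
    rw [← AlgHom.comp_assoc, ← HomRep.cmap_mapChr, AlgHom.comp_assoc, hV, ← AlgHom.comp_assoc, HomRep.cmap_mapChr,
      AlgHom.comp_assoc]
  have hsuppk : ∀ a ∈ s, ∀ m, cf m (θk a) ≠ 0 → m ∈ F := by
    intro a ha m hm
    by_contra hmF
    apply hm
    show cf m (cmap e (θV a)) = 0
    rw [HomRep.cf_cmap]
    have : cf m (θV a) = 0 := hjV (by
      rw [← HomRep.cf_cmap, ← AlgHom.comp_apply (cmap jV), hθV, map_zero]
      by_contra h
      exact hmF (hsuppΩ a ha m h))
    rw [this, map_zero]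
  let S := F.filter fun m => ∃ a ∈ s, cf m (θk a) ≠ 0
  let H := AddSubgroup.closure (S : Set (Fin r → ℤ))
  have hH : ∀ a m, cf m (θk a) ≠ 0 → m ∈ H := fun a m =>
    mem_of_gen (s : Set A) hs H (fun a ha m hm => AddSubgroup.subset_closure
      (Finset.mem_filter.2 ⟨hsuppk a ha m hm, a, ha, hm⟩)) a m
  have hHtop : H = ⊤ := hsat S (Finset.filter_subset _ _) (eq_top_iff.2 fun x _ => by
    let H' : AddSubgroup ((Fin r → ℤ) ⧸ L) := H.map π
    let q := QuotientAddGroup.mk' H'
    let f₁ : ((Fin r → ℤ) ⧸ L) →+ ((Fin r → ℤ) ⧸ L) × (((Fin r → ℤ) ⧸ L) ⧸ H') := (AddMonoidHom.id _).prod q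
    let f₂ : ((Fin r → ℤ) ⧸ L) →+ ((Fin r → ℤ) ⧸ L) × (((Fin r → ℤ) ⧸ L) ⧸ H') := (AddMonoidHom.id _).prod 0
    have hf : (mapChr f₁).comp ((mapChr π).comp θk) = (mapChr (R := R) f₂).comp ((mapChr π).comp θk) := by
      refine AlgHom.ext fun a => ?_
      show mapChr (R := R) f₁ (mapChr (R := R) π (θk a)) = mapChr (R := R) f₂ (mapChr (R := R) π (θk a))
      have hsup := hH a
      generalize θk a = y at hsup ⊢
      rw [← AlgHom.comp_apply, ← AlgHom.comp_apply, mapChr_comp, mapChr_comp]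
      obtain ⟨G₀, hG₀⟩ := (HomRep.finite_support y).exists_finset_coe
      have hy : y = ∑ m ∈ G₀, MonoidAlgebra.single (Multiplicative.ofAdd m) (cf m y) := ext_cf fun m => by
        rw [map_sum]
        simp only [HomRep.cf_single, Finset.sum_ite_eq']
        split_ifs with hm
        · rfl
        · by_contra h'
          exact hm (by rw [← Finset.mem_coe, hG₀]; exact h')
      rw [hy, map_sum, map_sum]
      refine Finset.sum_congr rfl fun m hm => ?_
      rw [HomRep.mapChr_single, HomRep.mapChr_single]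
      have hmH : q (π m) = 0 := (QuotientAddGroup.eq_zero_iff _).2
        ⟨m, hsup m (by rw [← Finset.mem_coe, hG₀] at hm; exact hm), rfl⟩
      show MonoidAlgebra.single (Multiplicative.ofAdd (π m, q (π m))) _ = MonoidAlgebra.single
        (Multiplicative.ofAdd (π m, 0)) _
      rw [hmH]
    rw [hk] at hf
    simp only [← AlgHom.comp_assoc, mapChr_comp] at hf
    rw [AlgHom.comp_assoc, AlgHom.comp_assoc] at hf
    have h := congrArg fhom hf
    rw [← map_pt_fhom, ← map_pt_fhom, cancel_mono] at h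
    have h' := DFunLike.congr_fun (map_pt_injective (R := R) (K := k) h) (τ.symm (π x))
    simp only [AddMonoidHom.comp_apply, AddEquiv.coe_toAddMonoidHom, AddEquiv.apply_symm_apply, f₁, f₂,
      AddMonoidHom.prod_apply, AddMonoidHom.id_apply, AddMonoidHom.zero_apply, Prod.mk.injEq, true_and] at h'
    obtain ⟨y, hy, hyx⟩ := (QuotientAddGroup.eq_zero_iff _).1 h'
    refine AddSubgroup.mem_sup.2 ⟨y, hy, -y + x, (QuotientAddGroup.eq).1 (hyx.trans (τ.apply_symm_apply _)), by abel⟩)
  haveI : Mono (fhom θk) := mono_fhom (surjective_of_supports hθk (eq_top_iff.2 fun x _ => by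
    refine (AddSubgroup.closure_le _).2 (fun m hm => ?_) (hHtop.ge (AddSubgroup.mem_top x))
    obtain ⟨a, -, ha⟩ := (Finset.mem_filter.1 hm).2
    exact AddSubgroup.subset_closure ⟨a, ha⟩))
  -- a maximal torus
  haveI : IsMonHom (M := Red.bc (sp R k).hom (sp R (GA R ((Fin r → ℤ) ⧸ L))))
      (N := Red.bc (sp R k).hom (sp R (GA R (Fin r → ℤ)))) (F₂.map (incl R L)) :=
    DiagRep.isMonHom_bc_map (sp R k).hom (incl R L)
  haveI := RedRank.isAffineHom_bc (sp R A) (sp R k).hom
  haveI : Smooth (Red.bc (sp R k).hom (sp R A)).hom := MorphismProperty.pullback_snd (P := @Smooth) _ _ inferInstance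
  have hik := RCentre.isMaximalTorus_bc hi (sp R k).hom
  haveI := hik.1; haveI := hik.2.1
  have hmax : Red.IsMaximalTorus (fhom θk) :=
    MaxTorusRank.isMaximalTorus_of_forall hik.2.2.1 fun x m hm =>
      MaxTorusRank.has_of_isMaximalTorus hik (Red.geomPt x) hm
  haveI : IsAffine (sp R k).left := inferInstanceAs (IsAffine (Spec (CommRingCat.of k)))
  haveI : IsAffine (Red.bc (sp R k).hom (sp R A)).left := isAffine_of_isAffineHom (Red.bc (sp R k).hom (sp R A)).hom
  obtain ⟨g', f, hf⟩ := MaxTorusRank.exists_conj (K := k) (MaxTorusRank.isMaxTorus_of_isMaximalTorus hik)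
    (MaxTorusRank.isMaxTorus_of_isMaximalTorus hmax)
  have ht₂ := ((isTorsion_incl (R := R) (M := Fin r → ℤ) n).bc (sp R k).hom).comp_mono (fhom θk)
  rw [CategoryTheory.Functor.map_id, Category.id_comp, show incl R L = pt (MultTorus.mapChar (R := R) π) from rfl,
    map_pt_fhom, hk, ← map_pt_fhom] at ht₂
  let γτ : Red.bc (sp R k).hom (sp R (GA R ((Fin r → ℤ) ⧸ L))) ≅ Red.bc (sp R k).hom (sp R (GA R N)) :=
    F₂.mapIso
      { hom := pt (MultTorus.mapChar (R := R) τ.toAddMonoidHom)
        inv := pt (MultTorus.mapChar (R := R) τ.symm.toAddMonoidHom)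
        hom_inv_id := by
          rw [← pt_comp, ← pt_id]
          exact congrArg pt (MonoidAlgebra.algHom_ext (fun m => by
            obtain ⟨m, rfl⟩ := Multiplicative.ofAdd.surjective m
            simp [AlgHom.comp_apply]
            exact congrArg (fun x => MonoidAlgebra.single (Multiplicative.ofAdd x) (1 : R)) (τ.apply_symm_apply m))
            (Subsingleton.elim _ _))
        inv_hom_id := by
          rw [← pt_comp, ← pt_id]
          exact congrArg pt (MonoidAlgebra.algHom_ext (fun m => by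
            obtain ⟨m, rfl⟩ := Multiplicative.ofAdd.surjective m
            simp [AlgHom.comp_apply]
            exact congrArg (fun x => MonoidAlgebra.single (Multiplicative.ofAdd x) (1 : R)) (τ.symm_apply_apply m))
            (Subsingleton.elim _ _)) }
  haveI : IsMonHom (Iso.refl (Red.bc (sp R k).hom (sp R A))).hom := inferInstanceAs (IsMonHom (𝟙 _))
  refine ⟨g', ht₂.transport (Iso.refl _) f γτ.symm ?_ ?_⟩
  · simpa using hf
  · show γτ.inv ≫ (γτ.hom ≫ fhom ((cmap e).comp ψ)) ≫ 𝟙 _ = _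
    rw [Category.comp_id, Iso.inv_hom_id_assoc]

end Groth.Agent.ToriSch
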