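import Groth.Agent.ToriSchLib.BaseChange
import Groth.Agent.TransporterLib.SubSmooth
import Groth.Agent.TorsTupleLib.Sigma
import Groth.Agent.DiagRepLib.Split

/-!
# Equal subobjects, and conjugation along base changes
-/

set_option autoImplicit false
set_option linter.style.haveILetI false
set_option linter.unusedSectionVars false
set_option backward.isDefEq.respectTransparency false
set_option maxHeartbeats 2000000
set_option synthInstance.maxHeartbeats 400000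

noncomputable section

universe u

open CategoryTheory CategoryTheory.Limits MonoidalCategory CartesianMonoidalCategory AlgebraicGeometry
open scoped MonObj

attribute [-instance] CategoryTheory.Hom.commGroup

namespace Groth.Agent.ToriSch

open Groth.Agent.BorelLib

variable {S : Scheme.{u}} {G : Over S} [GrpObj G]

/-- Two morphisms into `G` with isomorphic sources. -/
def Same {A B : Over S} (i : A ⟶ G) (j : B ⟶ G) : Prop :=
  ∃ φ : A ≅ B, φ.hom ≫ j = i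

section same

variable {A B C : Over S} {i : A ⟶ G} {j : B ⟶ G} {k : C ⟶ G}

theorem Same.refl (i : A ⟶ G) : Same i i := ⟨Iso.refl _, Category.id_comp _⟩

theorem Same.of_eq {i' : A ⟶ G} (h : i = i') : Same i i' := h ▸ Same.refl i

theorem Same.symm (h : Same i j) : Same j i := by
  obtain ⟨φ, hφ⟩ := h
  exact ⟨φ.symm, by rw [Iso.symm_hom, ← hφ, Iso.inv_hom_id_assoc]⟩

theorem Same.trans (h : Same i j) (h' : Same j k) : Same i k := by
  obtain ⟨φ, hφ⟩ := h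
  obtain ⟨ψ, hψ⟩ := h'
  exact ⟨φ ≪≫ ψ, by rw [Iso.trans_hom, Category.assoc, hψ, hφ]⟩

theorem Same.map_comp (h : Same i j) {G' : Over S} (e : G ⟶ G') : Same (i ≫ e) (j ≫ e) := by
  obtain ⟨φ, hφ⟩ := h
  exact ⟨φ, by rw [reassoc_of% hφ]⟩

theorem Same.conj (h : Same i j) (g : 𝟙_ (Over S) ⟶ G) : Same (AGF.conjBy g i) (AGF.conjBy g j) := by
  obtain ⟨φ, hφ⟩ := h
  exact ⟨φ, by rw [DiagRep.comp_conjBy, hφ]⟩

theorem Same.mono (h : Same i j) [Mono j] : Mono i := by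
  obtain ⟨φ, hφ⟩ := h
  rw [← hφ]
  infer_instance

theorem Same.isTorsion {A' B' : Over S} {i' : A' ⟶ G} {j' : B' ⟶ G} {n : ℕ} (h : IsTorsion i j n)
    (hi : Same i' i) (hj : Same j' j) : IsTorsion i' j' n := by
  obtain ⟨φ, hφ⟩ := hi
  obtain ⟨ψ, hψ⟩ := hj
  haveI : IsMonHom (Iso.refl G).hom := inferInstanceAs (IsMonHom (𝟙 G))
  exact h.transport (Iso.refl G) φ ψ (by simpa using hφ) (by simpa using hψ)

theorem same_of_isTorsion {i : A ⟶ G} [Mono j] [Mono k] {n : ℕ} (h : IsTorsion i j n)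
    (h' : IsTorsion i k n) : Same k j :=
  h.exists_iso h'

theorem Same.goodPair {A' B' : Over S} {i' : A' ⟶ G} {j' : B' ⟶ G} (h : GoodPair i j)
    (hi : Same i' i) (hj : Same j j') : GoodPair i' j' := by
  obtain ⟨φ, hφ⟩ := hi
  obtain ⟨ψ, hψ⟩ := hj
  haveI : IsMonHom (Iso.refl G).hom := inferInstanceAs (IsMonHom (𝟙 G))
  exact h.transport (Iso.refl G) φ.hom ψ.hom (by simpa using hφ) (by simpa using hψ)

end same

section base

variable {Y P : Scheme.{u}} {y : Y ⟶ S} {p : P ⟶ Y} {d : P ⟶ S} {T K : Over Y}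

theorem Same.bcTo {i : T ⟶ Red.bc y G} {j : K ⟶ Red.bc y G} (h : Same i j) (p : P ⟶ Y) (e : p ≫ y = d) :
    Same (Groth.Agent.ToriSch.bcTo p e i) (Groth.Agent.ToriSch.bcTo p e j) := by
  obtain ⟨φ, hφ⟩ := h
  exact ⟨(Over.pullback p).mapIso φ, by rw [Functor.mapIso_hom, ← bcTo_comp, hφ]⟩

theorem same_bcTo_bcTo (p : P ⟶ Y) (h : p ≫ y = d) {P' : Scheme.{u}} (p' : P' ⟶ P) {d' : P' ⟶ S}
    (h' : p' ≫ d = d') {q : P' ⟶ Y} (hq : p' ≫ p = q) (hq' : q ≫ y = d') (i : T ⟶ Red.bc y G) :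
    Same (bcTo p' h' (bcTo p h i)) (bcTo q hq' i) := by
  subst hq
  exact ⟨ActBC.bcCompIso p' p T rfl, (bcTo_bcTo p h p' h' i).symm⟩

theorem same_bcTo_congr {p' : P ⟶ Y} (hp : p = p') (h : p ≫ y = d) (h' : p' ≫ y = d)
    (i : T ⟶ Red.bc y G) : Same (bcTo p h i) (bcTo p' h' i) := by
  subst hp
  exact Same.refl _

/-- Maximal tori with the same points. -/
theorem Same.isMaximalTorus [GrpObj T] {T' : Over Y} [GrpObj T'] {i : T ⟶ Red.bc y G}
    {i' : T' ⟶ Red.bc y G} [IsMonHom i'] (hi : Red.IsMaximalTorus i) (h : Same i' i) : Red.IsMaximalTorus i' := by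
  obtain ⟨φ, hφ⟩ := h
  haveI := hi.1; haveI := hi.2.1
  haveI : IsMonHom (φ.hom ≫ i) := by rw [hφ]; infer_instance
  haveI : IsMonHom φ.hom := DiagRep.isMonHom_of_comp_mono φ.hom i
  exact hφ ▸ TorsTuple.isMaximalTorus_precomp φ hi

end base

section sections

variable {Y P : Scheme.{u}}

/-- The section of a base change of `G` given by a point of `G`. -/
def secOf (f : P ⟶ S) (c₀ : P ⟶ G.left) (h : c₀ ≫ G.hom = f) : 𝟙_ (Over P) ⟶ Red.bc f G :=
  Over.homMk (pullback.lift c₀ (𝟙 P) (by rw [h]; exact (Category.id_comp f).symm)) (pullback.lift_snd _ _ _)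

/-- The point of `G` of a section. -/
def secG {f : P ⟶ S} (g : 𝟙_ (Over P) ⟶ Red.bc f G) : P ⟶ G.left :=
  g.left ≫ pullback.fst G.hom f

theorem secG_comp {f : P ⟶ S} (g : 𝟙_ (Over P) ⟶ Red.bc f G) : secG g ≫ G.hom = f := by
  have e : g.left ≫ pullback.snd G.hom f = 𝟙 P := Over.w g
  rw [secG, Category.assoc, pullback.condition, ← Category.assoc, e, Category.id_comp]

@[simp]
theorem secG_secOf (f : P ⟶ S) (c₀ : P ⟶ G.left) (h : c₀ ≫ G.hom = f) : secG (secOf f c₀ h) = c₀ :=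
  pullback.lift_fst _ _ _

theorem sec_ext {f : P ⟶ S} {g g' : 𝟙_ (Over P) ⟶ Red.bc f G} (h : secG g = secG g') : g = g' :=
  bc_ext h

variable {y : Y ⟶ S}

/-- A section moved to a further base. -/
def bcPt (p : P ⟶ Y) {d : P ⟶ S} (h : p ≫ y = d) (g : 𝟙_ (Over Y) ⟶ Red.bc y G) : 𝟙_ (Over P) ⟶ Red.bc d G :=
  secOf d (p ≫ secG g) (by rw [Category.assoc, secG_comp, h])

theorem secG_bcPt (p : P ⟶ Y) {d : P ⟶ S} (h : p ≫ y = d) (g : 𝟙_ (Over Y) ⟶ Red.bc y G) :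
    secG (bcPt p h g) = p ≫ secG g :=
  secG_secOf _ _ _

theorem toUnit_bcPt {T : Over Y} (p : P ⟶ Y) {d : P ⟶ S} (h : p ≫ y = d) (g : 𝟙_ (Over Y) ⟶ Red.bc y G) :
    toUnit (Red.bc p T) ≫ bcPt p h g = bcTo p h (toUnit T ≫ g) := by
  refine bc_ext ?_
  rw [bcTo_left_fst, Over.comp_left, Over.comp_left, Category.assoc, Category.assoc]
  show (toUnit (Red.bc p T)).left ≫ secG (bcPt p h g) = pullback.fst T.hom p ≫ (toUnit T).left ≫ secG g
  rw [secG_bcPt, Over.toUnit_left, Over.toUnit_left]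
  exact pullback.condition_assoc _ |>.symm

theorem bcTo_mul {T : Over Y} (p : P ⟶ Y) {d : P ⟶ S} (h : p ≫ y = d) (a b : T ⟶ Red.bc y G) :
    bcTo p h (a * b) = bcTo p h a * bcTo p h b := by
  haveI : IsMonHom (ActBC.bcCompIso p y G h).hom := ActBC.bcCompIso_isMonHom _ _ _
  rw [bcTo, bcTo, bcTo, ← MonObj.mul_comp]
  exact congrArg (· ≫ (ActBC.bcCompIso p y G h).hom) (Functor.map_mul (Over.pullback p) a b)

theorem bcTo_inv {T : Over Y} (p : P ⟶ Y) {d : P ⟶ S} (h : p ≫ y = d) (a : T ⟶ Red.bc y G) :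
    bcTo p h a⁻¹ = (bcTo p h a)⁻¹ :=
  map_inv (MonoidHom.mk' (bcTo p h) (bcTo_mul p h)) a

/-- Conjugation commutes with changing the base. -/
theorem bcTo_conjBy {T : Over Y} (p : P ⟶ Y) {d : P ⟶ S} (h : p ≫ y = d) (g : 𝟙_ (Over Y) ⟶ Red.bc y G)
    (i : T ⟶ Red.bc y G) : bcTo p h (AGF.conjBy g i) = AGF.conjBy (bcPt p h g) (bcTo p h i) := by
  simp only [AGF.conjBy, bcTo_mul, bcTo_inv, ← toUnit_bcPt]

theorem same_bcTo_conj {T : Over Y} {K : Over Y} (p : P ⟶ Y) {d : P ⟶ S} (h : p ≫ y = d)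
    {g : 𝟙_ (Over Y) ⟶ Red.bc y G} {i : T ⟶ Red.bc y G} {j : K ⟶ Red.bc y G} (hs : SGA3x.ConjBy i j g) :
    SGA3x.ConjBy (bcTo p h i) (bcTo p h j) (bcPt p h g) := by
  obtain ⟨φ, hφ⟩ := hs
  refine ⟨(Over.pullback p).mapIso φ, ?_⟩
  show AGF.conjBy (bcPt p h g) (bcTo p h i) = _
  rw [← bcTo_conjBy, show AGF.conjBy g i = φ.hom ≫ j from hφ, bcTo_comp, Functor.mapIso_hom]

end sections

section conj

variable {A B A' B' : Over S} {i : A ⟶ G} {j : B ⟶ G} {g : 𝟙_ (Over S) ⟶ G}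

theorem conjBy_iff_same : SGA3x.ConjBy i j g ↔ Same (AGF.conjBy g i) j :=
  ⟨fun ⟨φ, hφ⟩ => ⟨φ, hφ.symm⟩, fun ⟨φ, hφ⟩ => ⟨φ, hφ.symm⟩⟩

theorem conjBy_congr {i' : A' ⟶ G} {j' : B' ⟶ G} (h : SGA3x.ConjBy i j g) (hi : Same i' i) (hj : Same j j') :
    SGA3x.ConjBy i' j' g :=
  conjBy_iff_same.2 (((hi.conj g).trans (conjBy_iff_same.1 h)).trans hj)

theorem conjBy_comp_iso {G' : Over S} [GrpObj G'] (e : G ⟶ G') [IsMonHom e] (h : SGA3x.ConjBy i j g) :
    SGA3x.ConjBy (i ≫ e) (j ≫ e) (g ≫ e) :=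
  conjBy_iff_same.2 (DiagRep.conjBy_comp_hom g i e ▸ (conjBy_iff_same.1 h).map_comp e)

/-- Undoing a conjugation. -/
theorem GoodPair.of_conj (h : GoodPair (AGF.conjBy g i) (AGF.conjBy g j)) : GoodPair i j := by
  haveI := isMonHom_conjIso g
  haveI : IsMonHom (conjIso g).symm.hom := inferInstanceAs (IsMonHom (conjIso g).inv)
  refine h.transport (conjIso g).symm (𝟙 _) (𝟙 _) ?_ ?_
  · rw [Category.id_comp, DiagRep.conjBy_eq_comp, Category.assoc]
    exact (congrArg (i ≫ ·) (conjIso g).hom_inv_id).trans (Category.comp_id i)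
  · rw [Category.id_comp, DiagRep.conjBy_eq_comp g j, Category.assoc]
    exact ((congrArg (j ≫ ·) (conjIso g).hom_inv_id).trans (Category.comp_id j)).symm

end conj

end Groth.Agent.ToriSch
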