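import Groth.Agent.ToriSchLib.Closed
import Groth.Agent.TorsTupleLib.Sigma

/-!
# The universal maximal torus over the toral locus
-/

set_option autoImplicit false
set_option linter.style.haveILetI false
set_option linter.unusedSectionVars false
set_option backward.isDefEq.respectTransparency false
set_option maxHeartbeats 2000000
set_option synthInstance.maxHeartbeats 400000

noncomputable section

universe u

open CategoryTheory CategoryTheory.Limits MonoidalCategory CartesianMonoidalCategory AlgebraicGeometry CoactBr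
open scoped MonObj

attribute [-instance] CategoryTheory.Hom.commGroup

namespace Groth.Agent.ToriSch

open Groth.Agent.BorelLib
open Groth.Agent.HomRep (GA)

attribute [local instance] CoactBr.braidedAlgSpecOf

variable {S : Scheme.{u}} {G : Over S} [GrpObj G] [IsAffineHom G.hom] [Smooth G.hom] {D : Univ G} {n : ℕ}

/-- The torsion of a torus is classified by a point of `M`. -/
theorem exists_classify (D : Univ G) (hn : 0 < n) {X : Scheme.{u}} {f : X ⟶ S} {T : Over X} [GrpObj T]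
    {i : T ⟶ Red.bc f G} (hi : Red.IsMaximalTorus i) :
    ∃ (v : X ⟶ D.M.left) (h : v ≫ D.M.hom = f), IsTorsion i (bcTo v h D.j) n := by
  haveI := hi.1; haveI := hi.2.1
  obtain ⟨K, _, j, hj, hjm, hK, hKf, ht⟩ := exists_isTorsion hi.2.2.1 i hn
  haveI := hj; haveI := hjm
  obtain ⟨v, hv, hs⟩ := D.exists_same f j hK hKf
  exact ⟨v, hv, Same.isTorsion ht (Same.refl _) hs.symm⟩

/-- Only one point of `M` classifies the torsion. -/
theorem classify_unique {X : Scheme.{u}} {f : X ⟶ S} {T : Over X} {i : T ⟶ Red.bc f G} {v v' : X ⟶ D.M.left}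
    {h : v ≫ D.M.hom = f} {h' : v' ≫ D.M.hom = f} (ht : IsTorsion i (bcTo v h D.j) n)
    (ht' : IsTorsion i (bcTo v' h' D.j) n) : v = v' := by
  haveI := (D.pulled_facts v h).2.1
  haveI := (D.pulled_facts v' h').2.1
  exact D.ext h h' (same_of_isTorsion ht' ht)

theorem torsion_comp {X X' : Scheme.{u}} {f : X ⟶ S} {f' : X' ⟶ S} {T : Over X} [GrpObj T] {i : T ⟶ Red.bc f G}
    {m : X ⟶ D.M.left} {h : m ≫ D.M.hom = f} (ht : IsTorsion i (bcTo m h D.j) n) (t : X' ⟶ X) (e : t ≫ f = f')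
    {m' : X' ⟶ D.M.left} (hm : t ≫ m = m') (h' : m' ≫ D.M.hom = f') :
    IsTorsion (bcTo t e i) (bcTo m' h' D.j) n :=
  Same.isTorsion (ht.bcTo t e) (Same.refl _) (same_bcTo_bcTo m h t e hm h' D.j).symm

namespace Setup

variable (E : Setup G)

/-- All the patches together. -/
abbrev WW : Scheme.{u} := ∐ fun l => (E.P l).W

/-- The map of all the patches to `M`. -/
abbrev muW : E.WW ⟶ E.D.M.left := Limits.Sigma.desc fun l => (E.P l).mu

/-- The map of all the patches to the base. -/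
abbrev qW : E.WW ⟶ S := Limits.Sigma.desc fun l => (E.P l).rho ≫ (E.c l).g

theorem muW_comp : E.muW ≫ E.D.M.hom = E.qW :=
  Limits.Sigma.hom_ext _ _ fun l => by simp [muW, qW, (E.P l).eq]

/-- The patches cover the toral locus smoothly. -/
theorem exists_cover : ∃ π : E.WW ⟶ E.U, π ≫ E.U.ι = E.muW ∧ Smooth π ∧ Surjective π := by
  haveI : ∀ l, Smooth (E.P l).mu := fun l => (E.P l).smooth_mu
  have hrange : Set.range E.muW ⊆ Set.range E.U.ι := by
    rintro _ ⟨z, rfl⟩
    rw [Scheme.Opens.range_ι]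
    obtain ⟨l, w, rfl⟩ := DescLib.exists_sigma_mem z
    rw [← Scheme.Hom.comp_apply, Limits.Sigma.ι_desc]
    exact Set.mem_iUnion.2 ⟨l, w, rfl⟩
  let π : E.WW ⟶ E.U := IsOpenImmersion.lift E.U.ι E.muW hrange
  have hπ : π ≫ E.U.ι = E.muW := IsOpenImmersion.lift_fac _ _ _
  haveI hmu : Smooth E.muW := IsZariskiLocalAtSource.sigmaDesc fun l => (E.P l).smooth_mu
  haveI : Smooth π := by
    have sq : IsPullback (𝟙 E.WW) π E.muW E.U.ι := IsPullback.mk ⟨by rw [Category.id_comp, hπ]⟩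
      ⟨PullbackCone.IsLimit.mk _ (fun t => t.fst) (fun t => Category.comp_id _)
        (fun t => by rw [← cancel_mono E.U.ι, Category.assoc, hπ]; exact t.condition)
        (fun t m h1 _ => by simpa using h1)⟩
    exact MorphismProperty.of_isPullback (P := @Smooth) sq hmu
  haveI : Surjective π := ⟨fun u => by
    obtain ⟨l, w, hw⟩ := Set.mem_iUnion.1 u.2
    refine ⟨Limits.Sigma.ι (fun l => (E.P l).W) l w, E.U.ι.isOpenEmbedding.injective ?_⟩
    rw [← Scheme.Hom.comp_apply π, hπ, ← Scheme.Hom.comp_apply, Limits.Sigma.ι_desc]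
    exact hw⟩
  exact ⟨π, hπ, inferInstance, inferInstance⟩

theorem toral_WW : Toral E.D E.n E.muW E.muW_comp := by
  choose θ hθ using fun l => show ∃ θ : Red.DS (E.P l).W (Fin (E.c l).r → ℤ) ≅
      Red.bc (E.P l).rho (sp (E.c l).R (GA (E.c l).R (Fin (E.c l).r → ℤ))), IsMonHom θ.hom from by
    obtain ⟨w, hw, hw'⟩ := TorusField.exists_DS_iso (E.c l).R (Fin (E.c l).r → ℤ)
    obtain ⟨e, he⟩ := RedCharZeroLib.exists_DS_bc (E.P l).rho (S' := Spec (CommRingCat.of (E.c l).R)) (Fin (E.c l).r → ℤ)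
    haveI := he; haveI := hw'
    haveI : IsMonHom (M := Red.bc (E.P l).rho (Red.DS (Spec (CommRingCat.of (E.c l).R)) (Fin (E.c l).r → ℤ)))
        (N := Red.bc (E.P l).rho (sp (E.c l).R (GA (E.c l).R (Fin (E.c l).r → ℤ))))
        ((Over.pullback (E.P l).rho).map w.inv) := DiagRep.isMonHom_bc_map (E.P l).rho w.inv
    exact ⟨e ≪≫ (Over.pullback (E.P l).rho).mapIso w.symm,
      inferInstanceAs (IsMonHom (e.hom ≫ (Over.pullback (E.P l).rho).map w.inv))⟩
  let i := fun l => (θ l).hom ≫ AGF.conjBy (E.P l).gW (bcTo (E.P l).rho rfl (E.c l).i₀)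
  have hi : ∀ l, Red.IsMaximalTorus (i l) ∧ IsTorsion (i l) (bcTo (E.P l).mu (E.P l).eq E.D.j) E.n := fun l => by
    have hi₀ := (E.c l).isMaximalTorus_i₀
    haveI := hi₀.1; haveI := hi₀.2.1
    haveI := isMonHom_conjIso (E.P l).gW
    haveI := hθ l
    have hmax : Red.IsMaximalTorus (bcTo (G := G) (E.P l).rho rfl (E.c l).i₀) :=
      isMaximalTorus_bcTo (E.P l).rho rfl hi₀
    haveI := hmax.1; haveI := hmax.2.1
    have h1 := MaxTorConj.isMaximalTorus_iso (conjIso (E.P l).gW) hmax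
    rw [show bcTo (G := G) (E.P l).rho rfl (E.c l).i₀ ≫ (conjIso (E.P l).gW).hom =
      AGF.conjBy (E.P l).gW (bcTo (E.P l).rho rfl (E.c l).i₀) from (DiagRep.conjBy_eq_comp _ _).symm] at h1
    exact ⟨TorsTuple.isMaximalTorus_precomp (θ l) h1,
      Same.isTorsion (isTorsion_of_conjBy (((E.c l).isTorsion₀ E.n).bcTo (E.P l).rho rfl) (E.P l).conj)
        ⟨θ l, rfl⟩ (Same.refl _)⟩
  obtain ⟨T, _, j, θ', hj, hθ'⟩ :=
    TorsTuple.exists_sigma_torus (fun l => (E.P l).rho ≫ (E.c l).g) (fun l => (E.c l).r) i fun l => (hi l).1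
  haveI := hj.1; haveI := hj.2.1
  obtain ⟨v, hv, ht⟩ := exists_classify E.D E.hn hj
  have : v = E.muW := Limits.Sigma.hom_ext _ _ fun l => by
    rw [Limits.Sigma.ι_desc]
    have e : Limits.Sigma.ι (fun l => (E.P l).W) l ≫ E.qW = (E.P l).rho ≫ (E.c l).g := Limits.Sigma.ι_desc _ _
    refine classify_unique (torsion_comp ht _ e rfl ?_) (Same.isTorsion (hi l).2 ⟨θ' l, hθ' l⟩ (Same.refl _))
    rw [Category.assoc, hv]; exact e
  subst this
  exact ⟨T, inferInstance, j, hj, ht⟩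

/-- **The universal maximal torus.** -/
theorem toral_U : Toral E.D E.n E.U.ι (rfl : E.U.ι ≫ E.D.M.hom = _) := by
  obtain ⟨T, _, j, hj, hjt⟩ := E.toral_WW
  haveI := hj.1; haveI := hj.2.1
  obtain ⟨π, hπ, hπs, hπj⟩ := E.exists_cover
  haveI := hπs; haveI := hπj
  have hcov := PowEtCentralLib.exists_compact_image π π.isOpenMap π.surjective
  let d₀ : (E.U : Scheme.{u}) ⟶ S := E.U.ι ≫ E.D.M.hom
  have hq : π ≫ d₀ = E.qW := by rw [← E.muW_comp, ← Category.assoc, hπ]
  haveI : Smooth (Red.bc d₀ G).hom := MorphismProperty.pullback_snd (P := @Smooth) _ _ inferInstance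
  haveI := RedRank.isAffineHom_bc G d₀
  let eπ := ActBC.bcCompIso π d₀ G hq
  haveI : IsMonHom eπ.hom := ActBC.bcCompIso_isMonHom _ _ _
  haveI : IsMonHom eπ.inv := inferInstance
  haveI : IsMonHom eπ.symm.hom := inferInstanceAs (IsMonHom eπ.inv)
  let j' := j ≫ eπ.inv
  have hj' : Red.IsMaximalTorus j' := MaxTorConj.isMaximalTorus_iso eπ.symm hj
  haveI := hj'.1; haveI := hj'.2.1
  haveI := MultEq.isAffineHom_of_isMultTypeFT (RedRank.isMultTypeFT_of_isTorus hj.2.2.1)
  have hl : ∀ {Z : Scheme.{u}} (x : Z ⟶ T.left),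
      (x ≫ j'.left ≫ pullback.fst (Red.bc d₀ G).hom π) ≫ pullback.fst G.hom d₀ =
        x ≫ j.left ≫ pullback.fst G.hom E.qW := by
    intro Z x
    have : (eπ.inv.left ≫ pullback.fst (Red.bc d₀ G).hom π) ≫ pullback.fst G.hom d₀ = pullback.fst G.hom E.qW := by
      rw [← cancel_epi eπ.hom.left, Category.assoc, ← Category.assoc eπ.hom.left, ← Over.comp_left, Iso.hom_inv_id,
        Over.id_left, Category.id_comp, ActBC.bcCompIso_hom_left_fst]
    simp only [j', Over.comp_left, Category.assoc] at this ⊢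
    rw [this]
  have hswap : ∀ {R : Scheme.{u}} (x₀ x₁ : R ⟶ E.WW), x₀ ≫ π = x₁ ≫ π → ∀ v : R ⟶ T.left, v ≫ T.hom = x₀ →
      ∃ w : R ⟶ T.left, w ≫ T.hom = x₁ ∧
        w ≫ j'.left ≫ pullback.fst (Red.bc d₀ G).hom π = v ≫ j'.left ≫ pullback.fst (Red.bc d₀ G).hom π := by
    intro R x₀ x₁ hx v hv
    let d := x₀ ≫ E.qW
    let mR := x₀ ≫ E.muW
    have hmR : mR ≫ E.D.M.hom = d := by rw [Category.assoc, E.muW_comp]
    have h1 : x₁ ≫ E.qW = d := by rw [← hq, ← Category.assoc, ← hx, Category.assoc, hq]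
    have hm1 : x₁ ≫ E.muW = mR := by rw [← hπ, ← Category.assoc, ← hx, Category.assoc, hπ]
    have ha₀ : Red.IsMaximalTorus (bcTo x₀ (rfl : _ = d) j) := isMaximalTorus_bcTo x₀ rfl hj
    have ha₁ : Red.IsMaximalTorus (bcTo x₁ h1 j) := isMaximalTorus_bcTo x₁ h1 hj
    have ht₀ := torsion_comp hjt x₀ (rfl : _ = d) (rfl : _ = mR) hmR
    have ht₁ := torsion_comp hjt x₁ h1 hm1 hmR
    haveI := (E.D.pulled_facts mR hmR).2.1
    haveI : Smooth (Red.bc d G).hom := MorphismProperty.pullback_snd (P := @Smooth) _ _ inferInstance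
    haveI := RedRank.isAffineHom_bc G d
    obtain ⟨φ, hφ⟩ := exists_iso_of_torsion ha₁ ha₀ ht₁ ht₀ (goodPair_of_torsion E.hL E.hcov ha₁ ht₁)
      (goodPair_of_torsion E.hL E.hcov ha₀ ht₀)
    let s : R ⟶ pullback T.hom x₀ := pullback.lift v (𝟙 R) (by rw [hv, Category.id_comp])
    have hw1 : (s ≫ φ.hom.left ≫ pullback.fst T.hom x₁) ≫ T.hom = x₁ := by
      have e : φ.hom.left ≫ pullback.snd T.hom x₁ = pullback.snd T.hom x₀ := Over.w φ.hom
      rw [Category.assoc, Category.assoc, pullback.condition, reassoc_of% e, pullback.lift_snd_assoc, Category.id_comp]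
    refine ⟨s ≫ φ.hom.left ≫ pullback.fst T.hom x₁, hw1, pullback.hom_ext ?_ ?_⟩
    · rw [hl, hl, Category.assoc, Category.assoc, ← bcTo_left_fst x₁ h1 j, ← Category.assoc φ.hom.left,
        ← Over.comp_left, hφ, bcTo_left_fst x₀ rfl j, pullback.lift_fst_assoc]
    · have e : ∀ {Z : Scheme.{u}} (x : Z ⟶ T.left),
          (x ≫ j'.left ≫ pullback.fst (Red.bc d₀ G).hom π) ≫ pullback.snd G.hom d₀ = (x ≫ T.hom) ≫ π := by
        intro Z x
        have h2 : j'.left ≫ pullback.snd (Red.bc d₀ G).hom π = T.hom := Over.w j'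
        show (x ≫ j'.left ≫ pullback.fst (Red.bc d₀ G).hom π) ≫ (Red.bc d₀ G).hom = _
        rw [Category.assoc, Category.assoc, pullback.condition, reassoc_of% h2, Category.assoc]
      rw [e, e, hw1, hv, hx]
  obtain ⟨U, _, jU, hjU, hjUm, θ, hθm, hθ⟩ := MaxTorConj.exists_descend_subgroup π hcov j' hswap
  haveI := hjU; haveI := hjUm; haveI := hθm
  have hUt : Red.IsTorus U := by
    obtain ⟨S'', f, hflat, hsurj, hcovf, hloc⟩ := hj.2.2.1
    haveI := hflat; haveI := hsurj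
    refine ⟨S'', f ≫ π, inferInstance, inferInstance, SubDesc.hcov_comp π f hcovf hcov, fun z => ?_⟩
    obtain ⟨V, hzV, r, ⟨e⟩⟩ := hloc z
    let g := V.ι ≫ f
    let b : Red.bc g (Red.bc π U) ≅ Red.bc (V.ι ≫ f ≫ π) U := ActBC.bcCompIso g π U (Category.assoc _ _ _)
    haveI : IsMonHom b.hom := ActBC.bcCompIso_isMonHom _ _ _
    haveI : IsMonHom (M := Red.bc g (Red.bc π U)) (N := Red.bc g T) ((Over.pullback g).map θ.hom) :=
      DiagRep.isMonHom_bc_map g θ.hom
    let w : Red.bc (V.ι ≫ f ≫ π) U ≅ Red.bc g T := b.symm ≪≫ (Over.pullback g).mapIso θ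
    haveI : IsMonHom w.hom := by
      show IsMonHom (b.inv ≫ (Over.pullback g).map θ.hom)
      infer_instance
    exact ⟨V, hzV, r, ⟨Grp.mkIso' w ≪≫ e⟩⟩
  have hUmax : Red.IsMaximalTorus jU := TorsTuple.isMaximalTorus_of_bc hUt fun s => by
    obtain ⟨y, rfl⟩ := π.surjective s
    exact ⟨E.WW, π, y, rfl, hθ ▸ TorsTuple.isMaximalTorus_precomp θ hj'⟩
  obtain ⟨v, hv, ht⟩ := exists_classify E.D E.hn hUmax
  have : v = E.U.ι := by
    haveI := Flat.epi_of_flat_of_surjective π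
    refine (cancel_epi π).1 (classify_unique (torsion_comp ht π hq rfl ?_)
      (Same.isTorsion hjt ⟨θ, ?_⟩ (same_bcTo_congr hπ (by rw [hπ]; exact E.muW_comp) E.muW_comp E.D.j)))
    · rw [Category.assoc, hv, hq]
    · show θ.hom ≫ j = bcTo π hq jU
      rw [show bcTo π hq jU = (θ.hom ≫ j') ≫ eπ.hom by rw [hθ]; rfl]
      simp [j']
  subst this
  exact ⟨U, inferInstance, jU, hUmax, ht⟩

end Setup

end Groth.Agent.ToriSch
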