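import Groth.Agent.ToriSchLib.Sub
import Groth.Agent.S6069

/-!
# The scheme of finite subgroups of multiplicative type
-/

set_option autoImplicit false
set_option linter.style.haveILetI false
set_option linter.unusedSectionVars false
set_option backward.isDefEq.respectTransparency false
set_option maxHeartbeats 2000000
set_option synthInstance.maxHeartbeats 400000

noncomputable section

universe u

open CategoryTheory CategoryTheory.Limits MonoidalCategory CartesianMonoidalCategory AlgebraicGeometry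
open scoped MonObj

attribute [-instance] CategoryTheory.Hom.commGroup

namespace Groth.Agent.ToriSch

open Groth.Agent.BorelLib

variable {S : Scheme.{u}}

/-- Finite subgroups have immersions as inclusions. -/
theorem isImmersion_of_finite {G K : Over S} [IsSeparated G.hom] (j : K ⟶ G) [Mono j] [IsFinite K.hom] :
    IsImmersion j.left := by
  haveI : Mono j.left := inferInstanceAs (Mono ((Over.forget S).map j))
  haveI : IsFinite (j.left ≫ G.hom) := by rw [Over.w j]; infer_instance
  haveI : IsFinite j.left := MorphismProperty.of_postcomp (W := @IsFinite) (W' := @IsSeparated) j.left G.hom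
    inferInstance inferInstance
  haveI : IsClosedImmersion j.left := (IsClosedImmersion.iff_isFinite_and_mono _).2 ⟨inferInstance, inferInstance⟩
  infer_instance

theorem isFinite_bc {Y P : Scheme.{u}} (p : P ⟶ Y) {K : Over Y} (h : IsFinite K.hom) : IsFinite (Red.bc p K).hom :=
  MorphismProperty.pullback_snd (P := @IsFinite) _ _ h

variable (G : Over S) [GrpObj G]

/-- The data of a universal finite subgroup of multiplicative type. -/
structure Univ where
  M : Over S
  K : Over M.left
  grp : GrpObj K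
  j : K ⟶ Red.bc M.hom G
  hm : IsMonHom j
  hmono : Mono j
  mult : SGA3x.IsMultTypeFT K
  fin : IsFinite K.hom
  nhd : ∀ m : ↥M.left, ∃ U : M.left.Opens, m ∈ U ∧ IsClosed (U : Set ↥M.left) ∧ IsAffineHom (U.ι ≫ M.hom)
  lfp : LocallyOfFinitePresentation M.hom
  classify : ∀ {X : Scheme.{u}} (f : X ⟶ S) (K' : Over X) [GrpObj K'] (j' : K' ⟶ Red.bc f G),
    IsMonHom j' → Mono j' → SGA3x.IsMultTypeFT K' → IsFinite K'.hom →
    ∃! v : X ⟶ M.left, ∃ h : v ≫ M.hom = f, Same j' (bcTo v h j)

attribute [instance] Univ.grp Univ.hm Univ.hmono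

variable {G}

/-- Translation of the comparisons made in the statements. -/
theorem same_iff {Y X : Scheme.{u}} {y : Y ⟶ S} (v : X ⟶ Y) {f : X ⟶ S} (h : v ≫ y = f) {K : Over Y}
    (j : K ⟶ Red.bc y G) {K' : Over X} (j' : K' ⟶ Red.bc f G) :
    (∃ φ : K'.left ≅ (Red.bc v K).left, φ.hom ≫ (Red.bc v K).hom = K'.hom ∧
      φ.hom ≫ ((Over.pullback v).map j).left ≫ pullback.fst (Red.bc y G).hom v ≫ pullback.fst G.hom y =
        j'.left ≫ pullback.fst G.hom f) ↔ Same j' (bcTo v h j) := by
  have key : (bcTo v h j).left ≫ pullback.fst G.hom f =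
      ((Over.pullback v).map j).left ≫ pullback.fst (Red.bc y G).hom v ≫ pullback.fst G.hom y := by
    rw [bcTo_left_fst, ActBC.pullback_map_left_fst_assoc]
  constructor
  · rintro ⟨φ, h1, h2⟩
    refine ⟨Over.isoMk φ h1, bc_ext ?_⟩
    rw [Over.comp_left, Category.assoc, key]
    exact h2
  · rintro ⟨φ, hφ⟩
    refine ⟨(Over.forget X).mapIso φ, Over.w φ.hom, ?_⟩
    rw [← hφ, Over.comp_left, Category.assoc, key]
    rfl

theorem exists_univ [IsAffineHom G.hom] [LocallyOfFinitePresentation G.hom] : Nonempty (Univ G) := by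
  obtain ⟨M, K, _, j, hn, hj, hji, hK, hKf, huniv, hlfp⟩ := S6069.result G
  haveI := hji
  refine ⟨⟨M, K, inferInstance, j, hj, Over.mono_of_mono_left j, hK, hKf, hn, hlfp,
    fun {X} f K' _ j' h1 h2 h3 h4 => ?_⟩⟩
  haveI := h2; haveI := h4
  haveI : IsSeparated (Red.bc f G).hom := inferInstanceAs (IsSeparated (pullback.snd G.hom f))
  obtain ⟨v, ⟨hv, hφ⟩, huniq⟩ := huniv X f K' j' h1 (isImmersion_of_finite j') h3 h4
  exact ⟨v, ⟨hv, (same_iff v hv j j').1 hφ⟩, fun v' ⟨hv', hs⟩ => huniq v' ⟨hv', (same_iff v' hv' j j').2 hs⟩⟩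

namespace Univ

variable (D : Univ G) {X : Scheme.{u}}

/-- A torsion subgroup over `X` as a point of `M`. -/
theorem pulled_facts (m : X ⟶ D.M.left) {f : X ⟶ S} (h : m ≫ D.M.hom = f) :
    IsMonHom (bcTo m h D.j) ∧ Mono (bcTo m h D.j) ∧ SGA3x.IsMultTypeFT (Red.bc m D.K) ∧
      IsFinite (Red.bc m D.K).hom :=
  ⟨isMonHom_bcTo m h D.j, mono_bcTo m h D.j, DescHom.isMultTypeFT_bc D.mult m, isFinite_bc m D.fin⟩

theorem exists_same (f : X ⟶ S) {K' : Over X} [GrpObj K'] (j' : K' ⟶ Red.bc f G) [IsMonHom j'] [Mono j']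
    (hK : SGA3x.IsMultTypeFT K') (hf : IsFinite K'.hom) :
    ∃ (v : X ⟶ D.M.left) (h : v ≫ D.M.hom = f), Same j' (bcTo v h D.j) :=
  (D.classify f K' j' inferInstance inferInstance hK hf).exists

/-- Maps to `M` with the same subgroup agree. -/
theorem ext {v v' : X ⟶ D.M.left} {f : X ⟶ S} (h : v ≫ D.M.hom = f) (h' : v' ≫ D.M.hom = f)
    (hs : Same (bcTo v h D.j) (bcTo v' h' D.j)) : v = v' := by
  obtain ⟨h1, h2, h3, h4⟩ := D.pulled_facts v h
  exact (D.classify f (Red.bc v D.K) (bcTo v h D.j) h1 h2 h3 h4).unique ⟨h, Same.refl _⟩ ⟨h', hs⟩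

end Univ

end Groth.Agent.ToriSch
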